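import Mathlib

/-!
# Arithmetic for PSU rows of TEAM PPD (helper623)

`q ≥ 2`, `d ≥ 3`, `(d, q) ≠ (3, 2), (4, 2)`, `L = (q - 1) q ^ (d - 2)`, `ℓ` a prime with `L + 3 ≤ 2 ℓ` which divides
`2 f q ^ a ∏_{i = 2}^{d} (q ^ i - (-1) ^ i)`, `f < q`. Then `d` is odd and `(q + 1) ℓ = q ^ d + 1`, or
`q = 2`, `d` is even, `3 ℓ = 2 ^ (d - 1) + 1`; and `ℓ ^ 2` does not divide the product.
-/

set_option autoImplicit false
set_option linter.unusedSectionVars false

namespace Cfsg.Agent.H623.PpdPsu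

/-- the factors -/
def g (q i : ℕ) : ℕ := if Even i then q ^ (i + 2) - 1 else q ^ (i + 2) + 1

theorem prime_le_of_dvd_sub {l q j : ℕ} (hl : l.Prime) (hq : 2 ≤ q) (hj : 1 ≤ j) (h : l ∣ q ^ (2 * j) - 1) :
    l ≤ q ^ j + 1 := by
  have h1 : q ^ (2 * j) - 1 = (q ^ j + 1) * (q ^ j - 1) := by
    rw [two_mul, pow_add]
    have := Nat.mul_self_sub_mul_self_eq (q ^ j) 1
    rw [mul_one] at this
    exact this
  have h2 : 2 ≤ q ^ j := le_trans hq (Nat.le_self_pow (by omega) q)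
  rw [h1] at h
  rcases (hl.dvd_mul).1 h with h3 | h3
  · exact Nat.le_of_dvd (by omega) h3
  · have := Nat.le_of_dvd (by omega) h3
    omega

/-- `2 q ^ j ≤ (q - 1) q ^ (d - 2)` -/
theorem two_pow_le {q d j : ℕ} (hq : 2 ≤ q) (hd : 3 ≤ d) (h32 : ¬ (d = 3 ∧ q = 2)) (h42 : ¬ (d = 4 ∧ q = 2))
    (hj : 2 * j ≤ d) : 2 * q ^ j ≤ (q - 1) * q ^ (d - 2) := by
  rcases Nat.lt_or_ge q 3 with h3 | h3
  · have hq2 : q = 2 := by omega
    subst hq2
    have h5 : 5 ≤ d := by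
      by_contra hcon
      have : d = 3 ∨ d = 4 := by omega
      tauto
    have h6 : j + 1 ≤ d - 2 := by omega
    calc 2 * 2 ^ j = 2 ^ (j + 1) := by rw [pow_succ, mul_comm]
      _ ≤ 2 ^ (d - 2) := Nat.pow_le_pow_right (by norm_num) h6
      _ = (2 - 1) * 2 ^ (d - 2) := by norm_num
  · have h6 : j ≤ d - 2 := by omega
    exact Nat.mul_le_mul (by omega) (Nat.pow_le_pow_right (by omega) h6)

section

variable {q d l : ℕ} (hq : 2 ≤ q) (hd : 3 ≤ d) (h32 : ¬ (d = 3 ∧ q = 2)) (h42 : ¬ (d = 4 ∧ q = 2))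
  (hl : l.Prime) (hL : (q - 1) * q ^ (d - 2) + 3 ≤ 2 * l)

include hq hd h32 h42 hl hL

theorem not_dvd_q : ¬ l ∣ q := by
  intro h
  have h1 := Nat.le_of_dvd (by omega) h
  have h2 := two_pow_le hq hd h32 h42 (j := 1) (by omega)
  rw [pow_one] at h2
  omega

theorem not_dvd_q_add : ¬ l ∣ q + 1 := by
  intro h
  have h1 := Nat.le_of_dvd (by omega) h
  have h2 := two_pow_le hq hd h32 h42 (j := 1) (by omega)
  rw [pow_one] at h2
  omega

theorem not_dvd_f {f : ℕ} (hf : 1 ≤ f) (hfq : f < q) : ¬ l ∣ 2 * f := by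
  intro h
  have h2 := two_pow_le hq hd h32 h42 (j := 1) (by omega)
  rw [pow_one] at h2
  rcases (hl.dvd_mul).1 h with h3 | h3
  · have := Nat.le_of_dvd (by norm_num) h3
    omega
  · have := Nat.le_of_dvd (by omega) h3
    omega

theorem not_dvd_even {j : ℕ} (hj : 1 ≤ j) (hjd : 2 * j ≤ d) : ¬ l ∣ q ^ (2 * j) - 1 := by
  intro h
  have h1 := prime_le_of_dvd_sub hl hq hj h
  have h2 := two_pow_le hq hd h32 h42 hjd
  omega

/-- cofactor -/
theorem exists_cof {i : ℕ} (hi : Odd i) (h : l ∣ q ^ i + 1) : ∃ c, q ^ i + 1 = (q + 1) * (l * c) := by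
  have h1 : q + 1 ∣ q ^ i + 1 := by
    have := Odd.nat_add_dvd_pow_add_pow q 1 hi
    rwa [one_pow] at this
  obtain ⟨c, hc⟩ := h1
  have h2 : l ∣ c := by
    rw [hc] at h
    exact ((hl.dvd_mul).1 h).resolve_left (not_dvd_q_add hq hd h32 h42 hl hL)
  obtain ⟨c', rfl⟩ := h2
  exact ⟨c', hc⟩

theorem odd_cof {i c : ℕ} (hi : Odd i) (h : q ^ i + 1 = (q + 1) * c) : Odd c := by
  -- `c = q ^ (i-1) - q ^ (i-2) + ... + 1`
  obtain ⟨k, rfl⟩ := hi
  have key : ∀ k, ∃ e, q ^ (2 * k + 1) + 1 = (q + 1) * (2 * e + 1) := by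
    intro k
    induction k with
    | zero => exact ⟨0, by ring⟩
    | succ k ih =>
      obtain ⟨e, he⟩ := ih
      -- `q ^ (2k+3) + 1 = q ^ (2k+1) (q^2 - 1) + (q ^ (2k+1) + 1)`
      obtain ⟨b, hb⟩ : ∃ b, q * (q - 1) = 2 * b := by
        obtain ⟨b, hb⟩ := (Nat.even_mul_pred_self q).two_dvd
        exact ⟨b, hb⟩
      refine ⟨q ^ (2 * k) * b + e, ?_⟩
      obtain ⟨a, rfl⟩ : ∃ a, q = a + 1 := ⟨q - 1, by omega⟩
      rw [Nat.add_sub_cancel] at hb
      have e1 : (a + 1) ^ (2 * (k + 1) + 1) + 1 =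
          (a + 1 + 1) * ((a + 1) * a) * (a + 1) ^ (2 * k) + ((a + 1) ^ (2 * k + 1) + 1) := by
        ring
      rw [e1, he, hb]
      ring
  obtain ⟨e, he⟩ := key k
  rw [he] at h
  have := Nat.eq_of_mul_eq_mul_left (by omega) h
  exact ⟨e, by omega⟩

/-- odd exponents at most `d - 2` -/
theorem not_dvd_odd {i : ℕ} (hi : Odd i) (hid : i ≤ d - 2) : ¬ l ∣ q ^ i + 1 := by
  intro h
  obtain ⟨c, hc⟩ := exists_cof hq hd h32 h42 hl hL hi h
  have hc0 : c ≠ 0 := by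
    rintro rfl
    rw [mul_zero, mul_zero] at hc
    omega
  have h1 : (q + 1) * l ≤ q ^ (d - 2) + 1 := by
    calc (q + 1) * l ≤ (q + 1) * (l * c) := Nat.mul_le_mul_left _ (Nat.le_mul_of_pos_right _ (by omega))
      _ = q ^ i + 1 := hc.symm
      _ ≤ _ := by
        have := Nat.pow_le_pow_right (show 0 < q by omega) hid
        omega
  have h2 : q ^ (d - 2) ≤ (q - 1) * q ^ (d - 2) := Nat.le_mul_of_pos_left _ (by omega)
  have h3 : 3 * l ≤ (q + 1) * l := Nat.mul_le_mul_right _ (by omega)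
  omega

theorem pow_expand : q ^ d = q ^ (d - 2) * (q * q) := by
  conv_lhs => rw [show d = (d - 2) + 2 by omega, pow_add, pow_two]

/-- the top odd exponent, `d` odd -/
theorem eq_of_odd (hdo : Odd d) (h : l ∣ q ^ d + 1) : (q + 1) * l = q ^ d + 1 := by
  obtain ⟨c, hc⟩ := exists_cof hq hd h32 h42 hl hL hdo h
  have hodd := odd_cof hq hd h32 h42 hl hL hdo hc
  have hc1 : Odd c := (Nat.odd_mul.1 hodd).2
  by_cases h1 : c = 1
  · rw [hc, h1, mul_one]
  exfalso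
  have h3 : 3 ≤ c := by
    obtain ⟨k, rfl⟩ := hc1
    omega
  have h4 : (q + 1) * (l * 3) ≤ q ^ d + 1 := by
    rw [hc]
    exact Nat.mul_le_mul_left _ (Nat.mul_le_mul_left _ h3)
  rw [pow_expand hq hd h32 h42 hl hL] at h4
  obtain ⟨a, rfl⟩ : ∃ a, q = a + 2 := ⟨q - 2, by omega⟩
  generalize (a + 2) ^ (d - 2) = X at *
  rw [show a + 2 - 1 = a + 1 by omega] at hL
  -- `(a+1) X + 3 ≤ 2 l`, `3 (a+3) l ≤ X (a+2)^2 + 1`
  nlinarith [Nat.zero_le (a * X), Nat.zero_le (a * a * X), Nat.zero_le X, Nat.zero_le a,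
    Nat.mul_le_mul_left (3 * (a + 3)) hL]

/-- exponent `d - 1`, `d` even, `q ≥ 3` -/
theorem not_dvd_pred (h3 : 3 ≤ q) (hde : Odd (d - 1)) : ¬ l ∣ q ^ (d - 1) + 1 := by
  intro h
  obtain ⟨c, hc⟩ := exists_cof hq hd h32 h42 hl hL hde h
  have hc0 : c ≠ 0 := by
    rintro rfl
    rw [mul_zero, mul_zero] at hc
    omega
  have h1 : (q + 1) * l ≤ q ^ (d - 2) * q + 1 := by
    calc (q + 1) * l ≤ (q + 1) * (l * c) := Nat.mul_le_mul_left _ (Nat.le_mul_of_pos_right _ (by omega))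
      _ = q ^ (d - 1) + 1 := hc.symm
      _ = _ := by rw [← pow_succ, show d - 2 + 1 = d - 1 by omega]
  obtain ⟨a, rfl⟩ : ∃ a, q = a + 3 := ⟨q - 3, by omega⟩
  generalize (a + 3) ^ (d - 2) = X at *
  rw [show a + 3 - 1 = a + 2 by omega] at hL
  nlinarith [Nat.zero_le (a * X), Nat.zero_le (a * a * X), Nat.zero_le X, Nat.zero_le a,
    Nat.mul_le_mul_left (a + 4) hL]

end

/-- exponent `d - 1`, `d` even, `q = 2` -/
theorem eq_of_two {d l : ℕ} (hd : 5 ≤ d) (hl : l.Prime) (hL : 2 ^ (d - 2) + 3 ≤ 2 * l) (hde : Odd (d - 1))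
    (h : l ∣ 2 ^ (d - 1) + 1) : 3 * l = 2 ^ (d - 1) + 1 := by
  have hL' : (2 - 1) * 2 ^ (d - 2) + 3 ≤ 2 * l := by rw [show 2 - 1 = 1 from rfl, one_mul]; exact hL
  obtain ⟨c, hc⟩ := exists_cof (le_refl 2) (by omega) (by omega) (by omega) hl hL' hde h
  have hodd := odd_cof (le_refl 2) (by omega) (by omega) (by omega) hl hL' hde hc
  have hc1 : Odd c := (Nat.odd_mul.1 hodd).2
  by_cases h1 : c = 1
  · rw [hc, h1, mul_one]
  exfalso
  have h3 : 3 ≤ c := by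
    obtain ⟨k, rfl⟩ := hc1
    omega
  have h4 : (2 + 1) * (l * 3) ≤ 2 ^ (d - 1) + 1 := by
    rw [hc]
    exact Nat.mul_le_mul_left _ (Nat.mul_le_mul_left _ h3)
  have h5 : 2 ^ (d - 1) = 2 * 2 ^ (d - 2) := by
    rw [← pow_succ', show d - 2 + 1 = d - 1 by omega]
  omega

theorem dvd_right_of_not {l X Y : ℕ} (hl : l.Prime) {n : ℕ} (hX : ¬ l ∣ X) (h : l ^ n ∣ X * Y) : l ^ n ∣ Y := by
  have h1 : Nat.Coprime (l ^ n) X := Nat.Coprime.pow_left n ((Nat.Prime.coprime_iff_not_dvd hl).2 hX)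
  exact h1.dvd_of_dvd_mul_left h

/-- the conclusion -/
structure Concl (q d l : ℕ) (N : ℕ) : Prop where
  eq : (Odd d ∧ (q + 1) * l = q ^ d + 1) ∨ (q = 2 ∧ Even d ∧ 5 ≤ d ∧ 3 * l = 2 ^ (d - 1) + 1)
  sq : ¬ l ^ 2 ∣ N

theorem concl {q d l f a : ℕ} (hq : 2 ≤ q) (hd : 3 ≤ d) (h32 : ¬ (d = 3 ∧ q = 2)) (h42 : ¬ (d = 4 ∧ q = 2))
    (hl : l.Prime) (hL : (q - 1) * q ^ (d - 2) + 3 ≤ 2 * l) (hf : 1 ≤ f) (hfq : f < q)
    (h : l ∣ 2 * f * (q ^ a * ∏ i ∈ Finset.range (d - 1), g q i)) :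
    Concl q d l (2 * f * (q ^ a * ∏ i ∈ Finset.range (d - 1), g q i)) := by
  have hf' := not_dvd_f hq hd h32 h42 hl hL hf hfq
  have hq' : ¬ l ∣ q ^ a := fun h => not_dvd_q hq hd h32 h42 hl hL (hl.dvd_of_dvd_pow h)
  -- the small factors
  have hsmall : ∀ i, i + 2 ≤ d - 2 ∨ (Even i ∧ i + 2 ≤ d) → ¬ l ∣ g q i := by
    intro i hi
    rw [g]
    split_ifs with he
    · obtain ⟨j, rfl⟩ := he
      have := not_dvd_even hq hd h32 h42 hl hL (j := j + 1) (by omega) (by omega)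
      rwa [show 2 * (j + 1) = j + j + 2 by ring] at this
    · have ho : Odd (i + 2) := by
        rw [Nat.not_even_iff_odd] at he
        exact Nat.odd_add.2 ⟨fun _ => even_two, fun _ => he⟩
      refine not_dvd_odd hq hd h32 h42 hl hL ho ?_
      rcases hi with hi | hi
      · exact hi
      · exact absurd hi.1 he
  have hprod : ∀ m, m + 3 ≤ d → ¬ l ∣ ∏ i ∈ Finset.range m, g q i := by
    intro m hm hcon
    obtain ⟨i, hi, hdi⟩ := (hl.prime.dvd_finsetProd_iff _).1 hcon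
    rw [Finset.mem_range] at hi
    exact hsmall i (Or.inl (by omega)) hdi
  rcases Nat.even_or_odd d with hde | hdo
  · -- `d` even
    have h4 : 4 ≤ d := by
      obtain ⟨k, rfl⟩ := hde
      omega
    have ho : Odd (d - 1) := by
      obtain ⟨k, rfl⟩ := hde
      exact ⟨k - 1, by omega⟩
    have e1 : ∏ i ∈ Finset.range (d - 1), g q i =
        (∏ i ∈ Finset.range (d - 3), g q i) * g q (d - 3) * g q (d - 2) := by
      rw [show d - 1 = (d - 3) + 1 + 1 by omega, Finset.prod_range_succ, Finset.prod_range_succ,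
        show d - 3 + 1 = d - 2 by omega]
    have e2 : g q (d - 3) = q ^ (d - 1) + 1 := by
      rw [g, if_neg, show d - 3 + 2 = d - 1 by omega]
      obtain ⟨k, hk⟩ := hde
      rw [Nat.not_even_iff_odd]
      exact ⟨k - 2, by omega⟩
    have e3 : ¬ l ∣ g q (d - 2) := by
      apply hsmall
      right
      refine ⟨?_, by omega⟩
      obtain ⟨k, hk⟩ := hde
      exact ⟨k - 1, by omega⟩
    have hmain : ∀ n, l ^ n ∣ 2 * f * (q ^ a * ∏ i ∈ Finset.range (d - 1), g q i) → l ^ n ∣ q ^ (d - 1) + 1 := by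
      intro n hn
      have h1 := dvd_right_of_not hl hf' hn
      have h2 := dvd_right_of_not hl hq' h1
      rw [e1, mul_comm] at h2
      have h3 := dvd_right_of_not hl e3 h2
      have h4 := dvd_right_of_not hl (hprod (d - 3) (by omega)) h3
      rwa [e2] at h4
    have h5 := hmain 1 (by rwa [pow_one])
    rw [pow_one] at h5
    have hq2 : q = 2 := by
      by_contra hne
      exact not_dvd_pred hq hd h32 h42 hl hL (by omega) ho h5
    subst hq2
    have h6 : 5 ≤ d := by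
      by_contra hcon
      have : d = 3 ∨ d = 4 := by omega
      tauto
    have h7 := eq_of_two h6 hl (by rwa [show 2 - 1 = 1 from rfl, one_mul] at hL) ho h5
    refine ⟨Or.inr ⟨rfl, hde, h6, h7⟩, ?_⟩
    intro hcon
    have h8 := hmain 2 hcon
    rw [← h7, pow_two] at h8
    have h9 : l ∣ 3 := Nat.dvd_of_mul_dvd_mul_right hl.pos h8
    exact not_dvd_q_add hq hd h32 h42 hl hL h9
  · -- `d` odd
    have e1 : ∏ i ∈ Finset.range (d - 1), g q i =
        (∏ i ∈ Finset.range (d - 3), g q i) * g q (d - 3) * g q (d - 2) := by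
      rw [show d - 1 = (d - 3) + 1 + 1 by omega, Finset.prod_range_succ, Finset.prod_range_succ,
        show d - 3 + 1 = d - 2 by omega]
    have e2 : g q (d - 2) = q ^ d + 1 := by
      rw [g, if_neg, show d - 2 + 2 = d by omega]
      obtain ⟨k, hk⟩ := hdo
      rw [Nat.not_even_iff_odd]
      exact ⟨k - 1, by omega⟩
    have e3 : ¬ l ∣ g q (d - 3) := by
      apply hsmall
      right
      refine ⟨?_, by omega⟩
      obtain ⟨k, hk⟩ := hdo
      exact ⟨k - 1, by omega⟩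
    have hmain : ∀ n, l ^ n ∣ 2 * f * (q ^ a * ∏ i ∈ Finset.range (d - 1), g q i) → l ^ n ∣ q ^ d + 1 := by
      intro n hn
      have h1 := dvd_right_of_not hl hf' hn
      have h2 := dvd_right_of_not hl hq' h1
      rw [e1, mul_assoc] at h2
      have h3 := dvd_right_of_not hl (hprod (d - 3) (by omega)) h2
      have h4 := dvd_right_of_not hl e3 h3
      rwa [e2] at h4
    have h5 := hmain 1 (by rwa [pow_one])
    rw [pow_one] at h5
    have h7 := eq_of_odd hq hd h32 h42 hl hL hdo h5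
    refine ⟨Or.inl ⟨hdo, h7⟩, ?_⟩
    intro hcon
    have h8 := hmain 2 hcon
    rw [← h7, pow_two] at h8
    have h9 : l ∣ q + 1 := Nat.dvd_of_mul_dvd_mul_right hl.pos h8
    exact not_dvd_q_add hq hd h32 h42 hl hL h9

/-- the bound `l ≤ 2 k + 1` -/
theorem le_of_concl {q d l N k : ℕ} (hq : 2 ≤ q) (hd : 3 ≤ d) (h : Concl q d l N)
    (hk : (q - 1) * q ^ (d - 2) + 1 ≤ 2 * k) (hdvd : k ∣ l - 1) : l ≤ 2 * k + 1 := by
  rcases h.eq with ⟨-, h1⟩ | ⟨rfl, -, h5, h1⟩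
  · obtain ⟨t, ht⟩ := hdvd
    by_contra hcon
    push Not at hcon
    have ht3 : 3 ≤ t := by
      by_contra h3
      have : t ≤ 2 := by omega
      have h4 : k * t ≤ k * 2 := Nat.mul_le_mul_left _ this
      omega
    have h4 : k * 3 ≤ l - 1 := by rw [ht]; exact Nat.mul_le_mul_left _ ht3
    have e : q ^ d = q ^ (d - 2) * (q * q) := by
      conv_lhs => rw [show d = (d - 2) + 2 by omega, pow_add, pow_two]
    rw [e] at h1
    obtain ⟨a, rfl⟩ : ∃ a, q = a + 2 := ⟨q - 2, by omega⟩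
    generalize (a + 2) ^ (d - 2) = X at *
    rw [show a + 2 - 1 = a + 1 by omega] at hk
    have h6 : k * 3 + 1 ≤ l := by omega
    nlinarith [Nat.zero_le (a * X), Nat.zero_le (a * a * X), Nat.zero_le X, Nat.zero_le a,
      Nat.mul_le_mul_left (3 * (a + 3)) hk, Nat.mul_le_mul_left (2 * (a + 3)) h6]
  · rw [show 2 - 1 = 1 from rfl, one_mul] at hk
    have h5 : 2 ^ (d - 1) = 2 * 2 ^ (d - 2) := by
      rw [← pow_succ', show d - 2 + 1 = d - 1 by omega]
    omega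

/-- uniqueness -/
theorem Concl.unique {q d l l' N N' : ℕ} (hq : 2 ≤ q) (h : Concl q d l N) (h' : Concl q d l' N') : l = l' := by
  rcases h.eq with ⟨ho, h1⟩ | ⟨rfl, he, -, h1⟩
  · rcases h'.eq with ⟨-, h2⟩ | ⟨-, he, -, -⟩
    · exact Nat.eq_of_mul_eq_mul_left (show 0 < q + 1 by omega) (h1.trans h2.symm)
    · exact absurd he (Nat.not_even_iff_odd.2 ho)
  · rcases h'.eq with ⟨ho, -⟩ | ⟨-, -, -, h2⟩
    · exact absurd he (Nat.not_even_iff_odd.2 ho)
    · exact Nat.eq_of_mul_eq_mul_left (show 0 < 3 by norm_num) (h1.trans h2.symm)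

end Cfsg.Agent.H623.PpdPsu
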