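import Cfsg.Agent.H100.Ppd.Basic
import Cfsg.Agent.H277.ClsPsu
import Cfsg.Agent.H175.BdSU
import Cfsg.Agent.H912.MultChar
import Cfsg.Agent.H623.PpdPsuArith

/-!
# TEAM PPD (S5948): the row PSU, cross characteristic (helper623, task 2409)
-/

set_option autoImplicit false
set_option linter.unusedSectionVars false

namespace Cfsg.Agent.H623.PpdPsu

open Cfsg Cfsg.Geo Matrix
open Cfsg.Agent.H915.LD Cfsg.Agent.H100.Ppd

universe u v

/-- The order of the automorphism group. -/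
theorem card_aut {K : Type*} [Field K] [Fintype K] {r : ℕ} (hr : r.Prime) [CharP K r] {N q : ℕ}
    (hK : Fintype.card K = q ^ 2) (hN : 3 ≤ N) (h32 : ¬ (N = 3 ∧ q = 2)) :
    ∃ f, 1 ≤ f ∧ q = r ^ f ∧ Nat.card (MulAut (PSU N K q)) =
      2 * f * (q ^ (N * (N - 1) / 2) * ∏ i ∈ Finset.range (N - 1), g q i) := by
  have : Fact r.Prime := ⟨hr⟩
  obtain ⟨j, -, hj⟩ := FiniteField.card K r
  obtain ⟨f, -, hq⟩ := (Nat.dvd_prime_pow hr).1
    (show q ∣ r ^ (j : ℕ) by rw [← hj, hK]; exact dvd_pow_self q (by norm_num))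
  have hf : f ≠ 0 := by
    rintro rfl
    have := Fintype.one_lt_card (α := K)
    rw [hK, hq, pow_zero, one_pow] at this
    omega
  refine ⟨f, by omega, hq, ?_⟩
  rw [S0815.result r f (by omega) hq hK N hN h32]
  have h1 := H277.ClsPsu.card_psu hK hN
  have h2 : Nat.gcd N (q + 1) * (2 * f) * Nat.card (PSU N K q) =
      2 * f * (Nat.gcd N (q + 1) * Nat.card (PSU N K q)) := by ring
  rw [h2, h1]
  rfl

variable {n : ℕ} {F : Type u} [Field F] [Finite F] {k m : ℕ} {P : Subgroup (GL (Fin n) F)}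

/-- small groups -/
theorem kill_small (h : Row k m P) {T : Type v} [Group T] (e : Soc P ≃* T)
    (hd : Nat.card (MulAut T) ∣ 2 ^ 16 * 3 ^ 7 * 5 * 7 * 11) : False := by
  have key : ∀ l : ℕ, l.Prime → l ∣ m → (l = 7 ∧ k = 6) ∨ (l = 11 ∧ k = 10) := by
    intro l hl hlm
    have h7 := h.num.seven_le hl hlm
    have h1 : l ∣ 2 ^ 16 * 3 ^ 7 * 5 * 7 * 11 := (hlm.trans (h.dvd_card e)).trans hd
    have h6 := h.num.six_le
    have hk := h.num.dvd_sub_one hl hlm
    have hcases : l = 7 ∨ l = 11 := by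
      rcases (hl.dvd_mul).1 h1 with h2 | h2
      · rcases (hl.dvd_mul).1 h2 with h3 | h3
        · rcases (hl.dvd_mul).1 h3 with h4 | h4
          · rcases (hl.dvd_mul).1 h4 with h5 | h5
            · have := (Nat.prime_dvd_prime_iff_eq hl Nat.prime_two).1 (hl.dvd_of_dvd_pow h5)
              omega
            · have := (Nat.prime_dvd_prime_iff_eq hl Nat.prime_three).1 (hl.dvd_of_dvd_pow h5)
              omega
          · have := (Nat.prime_dvd_prime_iff_eq hl Nat.prime_five).1 h4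
            omega
        · exact Or.inl ((Nat.prime_dvd_prime_iff_eq hl (by norm_num)).1 h3)
      · exact Or.inr ((Nat.prime_dvd_prime_iff_eq hl (by norm_num)).1 h2)
    rcases hcases with rfl | rfl
    · left
      have h8 : k ≤ 6 := Nat.le_of_dvd (by norm_num) hk
      exact ⟨rfl, by omega⟩
    · right
      have h8 : k ≤ 10 := Nat.le_of_dvd (by norm_num) hk
      refine ⟨rfl, ?_⟩
      interval_cases k <;> revert hk <;> decide
  obtain ⟨l, hl, hlm⟩ := h.num.exists_prime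
  refine h.num.kill (r₀ := l) ?_ ?_ ?_
  · rcases key l hl hlm with ⟨h1, h2⟩ | ⟨h1, h2⟩ <;> omega
  · intro r hr hrm
    rcases key l hl hlm with ⟨h1, h2⟩ | ⟨h1, h2⟩ <;> rcases key r hr hrm with ⟨h3, h4⟩ | ⟨h3, h4⟩ <;> omega
  · intro h1
    have h2 := (h1.trans (h.dvd_card e)).trans hd
    rcases key l hl hlm with ⟨rfl, -⟩ | ⟨rfl, -⟩ <;> revert h2 <;> norm_num

theorem f_eq_one {r f q : ℕ} (hr : r.Prime) (hf : 1 ≤ f) (hq : q = r ^ f) (h3 : q ≤ 3) : f = 1 := by
  by_contra hne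
  have h1 : 2 ^ 2 ≤ r ^ f :=
    (Nat.pow_le_pow_right (by norm_num) (by omega : 2 ≤ f)).trans (Nat.pow_le_pow_left hr.two_le f)
  omega

/-- **The row PSU in cross characteristic.** -/
theorem row_psu (h : Row k m P) {r : ℕ} (hr : r.Prime) (hrF : (r : F) ≠ 0) {K : Type} [Field K] [Fintype K]
    [CharP K r] {N q₀ : ℕ} (hK : Fintype.card K = q₀ ^ 2) (hN : 3 ≤ N) (h32 : ¬ (N = 3 ∧ q₀ = 2))
    (e : Soc P ≃* PSU N K q₀) : False := by
  obtain ⟨f, hf, hq, hcard⟩ := card_aut hr hK hN h32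
  have hq2 : 2 ≤ q₀ := by
    rw [hq]
    exact le_trans hr.two_le (Nat.le_self_pow (by omega) r)
  have hfq : f < q₀ := by
    rw [hq]
    exact Nat.lt_pow_self hr.one_lt
  by_cases hexc : (N, q₀) ∈ ({(4, 2), (4, 3), (6, 2)} : Set (ℕ × ℕ))
  · simp only [Set.mem_insert_iff, Set.mem_singleton_iff, Prod.mk.injEq] at hexc
    have hf1 := f_eq_one hr hf hq (by omega)
    subst hf1
    rcases hexc with ⟨rfl, rfl⟩ | ⟨rfl, rfl⟩ | ⟨rfl, rfl⟩
    · refine kill_small h e ?_
      rw [hcard]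
      decide
    · refine kill_small h e ?_
      rw [hcard]
      decide
    · refine kill_small h e ?_
      rw [hcard]
      decide
  have h42 : ¬ (N = 4 ∧ q₀ = 2) := by
    rintro ⟨rfl, rfl⟩
    exact hexc (by simp)
  have hd : r ∣ q₀ := by
    rw [hq]
    exact dvd_pow_self r (by omega)
  have hno : H912.Bd.NoR.{u} r (PSU N K q₀) :=
    H912.Bd.NoR.of_cyclic (S2089.result (F := K) N q₀ hK hN h32 hexc) (H912.Bd.coprime_gcd_add hr hd)
  have hB : (q₀ - 1) * q₀ ^ (N - 2) ≤ n :=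
    H175.BdSU.bd_psu hr hK hN hrF (MulEquiv.refl (PSU N K q₀)) n (H912.Bd.PR.of_noR hno P h.core.perfect e)
  have hC : ∀ l : ℕ, l.Prime → l ∣ m → Concl q₀ N l (Nat.card (MulAut (PSU N K q₀))) := by
    intro l hl hlm
    have h1 := h.num.le_two_mul hl hlm
    have h2 := hlm.trans (h.dvd_card e)
    rw [hcard] at h2 ⊢
    exact concl hq2 hN h32 h42 hl (by omega) hf hfq h2
  obtain ⟨l, hl, hlm⟩ := h.num.exists_prime
  have hCl := hC l hl hlm
  refine h.num.kill (r₀ := l) ?_ ?_ ?_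
  · refine le_of_concl hq2 hN hCl ?_ (h.num.dvd_sub_one hl hlm)
    have := h.num.nlt
    omega
  · intro s hs hsm
    exact (hC s hs hsm).unique hq2 hCl
  · intro h1
    exact hCl.sq (h1.trans (h.dvd_card e))

end Cfsg.Agent.H623.PpdPsu
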