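import Mathlib

/-!
# S3325, piece Lin: two elements of order two and a subgroup of odd index (helper623)
-/

set_option autoImplicit false

namespace Cfsg.Agent.H623.OiLinG

open Subgroup

variable {A : Type*} [Group A] [Finite A]

omit [Finite A] in
theorem comm_eq {b b' : A} (hb : b * b = 1) (hb' : b' * b' = 1) : b * b' * b⁻¹ * b'⁻¹ = (b * b') ^ 2 := by
  have h1 : b⁻¹ = b := inv_eq_of_mul_eq_one_left hb
  have h2 : b'⁻¹ = b' := inv_eq_of_mul_eq_one_left hb'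
  rw [h1, h2, pow_two]
  group

/-- two involutions `b`, `b'`: an odd power of the commutator is a commutator of `b` and `b''`, both of which lie in a
conjugate of a subgroup of odd index -/
theorem exists_pair (Γ : Subgroup A) (hΓ : Odd Γ.index) {b b' : A} (hb : b * b = 1) (hb' : b' * b' = 1) :
    ∃ (g b'' : A) (o : ℕ), Odd o ∧ b'' * b'' = 1 ∧ g * b * g⁻¹ ∈ Γ ∧ g * b'' * g⁻¹ ∈ Γ ∧
      b * b'' * b⁻¹ * b''⁻¹ = (b * b' * b⁻¹ * b'⁻¹) ^ o := by
  classical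
  have h2 : Fact (Nat.Prime 2) := ⟨Nat.prime_two⟩
  have i1 : b⁻¹ = b := inv_eq_of_mul_eq_one_left hb
  have i2 : b'⁻¹ = b' := inv_eq_of_mul_eq_one_left hb'
  set a := b * b' with ha
  obtain ⟨k, o, ho, hao⟩ := Nat.exists_eq_two_pow_mul_odd (orderOf_pos a).ne'
  have hba : b * a * b⁻¹ = a⁻¹ := by
    rw [ha, mul_inv_rev, i1, i2]
    calc b * (b * b') * b = (b * b) * b' * b := by group
      _ = b' * b := by rw [hb, one_mul]
  have hbao : b * a ^ o * b⁻¹ = (a ^ o)⁻¹ := by rw [← conj_pow, hba, inv_pow]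
  have hbb : (b * a ^ o) * (b * a ^ o) = 1 := by
    have : b * a ^ o = (a ^ o)⁻¹ * b := by rw [← hbao]; group
    calc (b * a ^ o) * (b * a ^ o) = ((a ^ o)⁻¹ * b) * (b * a ^ o) := by rw [← this]
      _ = (a ^ o)⁻¹ * (b * b) * a ^ o := by group
      _ = 1 := by rw [hb]; group
  obtain ⟨b'', hb''⟩ : ∃ b'', b'' = b * a ^ o := ⟨_, rfl⟩
  rw [← hb''] at hbb
  -- a 2-group
  have hK : IsPGroup 2 ↥(zpowers (a ^ o)) := by
    refine IsPGroup.of_card (n := k) ?_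
    rw [Nat.card_zpowers, orderOf_pow_of_dvd ho.pos.ne' (by rw [hao]; exact dvd_mul_left _ _), hao,
      Nat.mul_div_cancel _ ho.pos]
  have hH : IsPGroup 2 ↥(zpowers b) := by
    have h1 : orderOf b ∣ 2 := orderOf_dvd_of_pow_eq_one (by rw [pow_two, hb])
    obtain ⟨j, -, hj⟩ := (Nat.dvd_prime_pow Nat.prime_two).1 (show orderOf b ∣ 2 ^ 1 by simpa using h1)
    exact IsPGroup.of_card (n := j) (by rw [Nat.card_zpowers, hj])
  have hn : zpowers b ≤ normalizer (zpowers (a ^ o) : Set A) := by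
    rw [zpowers_le, mem_normalizer_iff]
    intro x
    constructor
    · rintro ⟨m, rfl⟩
      refine ⟨-m, ?_⟩
      change (a ^ o) ^ (-m) = b * (a ^ o) ^ m * b⁻¹
      rw [← conj_zpow, hbao, inv_zpow, zpow_neg]
    · rintro ⟨m, hm⟩
      refine ⟨-m, ?_⟩
      change (a ^ o) ^ (-m) = x
      have h3 : x = b⁻¹ * (a ^ o) ^ m * b := by
        have h4 : (a ^ o) ^ m = b * x * b⁻¹ := hm
        rw [h4]; group
      rw [h3, i1]
      have h5 : b * (a ^ o) ^ m * b⁻¹ = (a ^ o) ^ (-m) := by rw [← conj_zpow, hbao, inv_zpow, zpow_neg]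
      rw [← h5, i1]
  have hS : IsPGroup 2 ↥(zpowers b ⊔ zpowers (a ^ o)) := IsPGroup.to_sup_of_normal_right' hH hK hn
  -- the fixed point
  have hfin : Finite (A ⧸ Γ) := inferInstance
  have hnd : ¬ 2 ∣ Nat.card (A ⧸ Γ) := by
    rw [← Subgroup.index_eq_card, ← even_iff_two_dvd, Nat.not_even_iff_odd]
    exact hΓ
  obtain ⟨x, hx⟩ := hS.nonempty_fixed_point_of_prime_not_dvd_card (A ⧸ Γ) hnd
  obtain ⟨x, rfl⟩ := QuotientGroup.mk_surjective x
  have key : ∀ s ∈ zpowers b ⊔ zpowers (a ^ o), x⁻¹ * s * x⁻¹⁻¹ ∈ Γ := by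
    intro s hs
    have h6 : (QuotientGroup.mk (s * x) : A ⧸ Γ) = QuotientGroup.mk x := hx ⟨s, hs⟩
    rw [eq_comm, QuotientGroup.eq] at h6
    rw [inv_inv, mul_assoc]
    exact h6
  have hbS : b ∈ zpowers b ⊔ zpowers (a ^ o) := mem_sup_left (mem_zpowers b)
  refine ⟨x⁻¹, b'', o, ho, hbb, key _ hbS, key _ (by rw [hb'']; exact mul_mem hbS (mem_sup_right (mem_zpowers _))), ?_⟩
  rw [comm_eq hb hbb, comm_eq hb hb', ← ha]
  have h7 : b * b'' = a ^ o := by
    rw [hb'', ← mul_assoc, hb, one_mul]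
  rw [h7, ← pow_mul, ← pow_mul, mul_comm]

/-- an involution which is a power of `c` modulo a normal subgroup -/
theorem odd_pow {I : Subgroup A} [hI : I.Normal] {α s c : A} {j o : ℕ} (hα : α * α = 1) (ho : Odd o) (hs : s ∈ I)
    (h : α = s * c ^ j) : ∃ s' ∈ I, α = s' * (c ^ o) ^ j := by
  have h1 : α ^ o = α := by
    obtain ⟨m, rfl⟩ := ho
    rw [pow_succ, pow_mul, pow_two, hα, one_pow, one_mul]
  have h2 : (QuotientGroup.mk α : A ⧸ I) = QuotientGroup.mk ((c ^ o) ^ j) := by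
    rw [← h1, QuotientGroup.mk_pow, h, QuotientGroup.mk_mul, (QuotientGroup.eq_one_iff s).2 hs, one_mul,
      ← QuotientGroup.mk_pow, ← pow_mul, ← pow_mul, mul_comm]
  refine ⟨α * ((c ^ o) ^ j)⁻¹, ?_, by group⟩
  rw [← QuotientGroup.eq_one_iff, QuotientGroup.mk_mul, h2, QuotientGroup.mk_inv, mul_inv_cancel]

end Cfsg.Agent.H623.OiLinG
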