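import Cfsg.Agent.H323.OI.Pieces
import Cfsg.Agent.H208.SimForm
import Cfsg.Agent.H160.QSemi
import Cfsg.Agent.AutOrth.Final
import Cfsg.Agent.H623.OiLinG

/-!
# S3325, piece Lin (helper623)

An automorphism of order two of `PΩ(Q)` which is inner times a power of a commutator of two automorphisms of order two is
conjugate to one induced by an isometry `T`, `T² = ±1`.

* `odd_index` : the automorphisms induced by semisimilitudes form a subgroup of odd index (1 or 3);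
* `exists_isom_comm` : commutators of semisimilitudes are isometries up to scalars;
* `pLin`.
-/

set_option autoImplicit false
set_option linter.unusedSectionVars false

namespace Cfsg.Agent.H623.OiLin

open QuadraticMap Module Cfsg.Agent.LieClassical.OrthCore Cfsg.Agent.LieClassical.OrthTrans
open Cfsg.Agent.LieClassical.OrthSimple Cfsg.Agent.ClassicalGeometry.OrthSemi
  Cfsg.Agent.ClassicalGeometry.OrthAut1 Cfsg.Agent.LieClassical.OrthFinite
open Cfsg.Agent.H208.SimForm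

/-! ### Transport of the group of automorphisms induced by semisimilitudes -/

section transport

variable {F V V' : Type*} [Field F] [AddCommGroup V] [Module F V] [AddCommGroup V'] [Module F V']
  {Q : QuadraticForm F V} {Q' : QuadraticForm F V'} {T : V' ≃ₗ[F] V}

/-- the conjugate semisimilitude -/
theorem exists_gam (hT : ∀ v, Q (T v) = Q' v) (N : Gam Q') : ∃ M : Gam Q, ∀ v, M.1 (T v) = T (N.1 v) := by
  obtain ⟨σ, c, hN⟩ := N.2
  refine ⟨⟨(T.symm.toEquiv.trans N.1).trans T.toEquiv, σ, c, hN.ne, ?_, ?_, ?_⟩, ?_⟩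
  · intro u v
    change T (N.1 (T.symm (u + v))) = T (N.1 (T.symm u)) + T (N.1 (T.symm v))
    rw [map_add, hN.add, map_add]
  · intro a v
    change T (N.1 (T.symm (a • v))) = σ a • T (N.1 (T.symm v))
    rw [map_smul, hN.smul, map_smul]
  · intro v
    change Q (T (N.1 (T.symm v))) = c * σ (Q v)
    rw [hT, hN.form, ← hT, LinearEquiv.apply_symm_apply]
  · intro v
    change T (N.1 (T.symm (T v))) = _
    rw [LinearEquiv.symm_apply_apply]

theorem index_range_eq (hT : ∀ v, Q (T v) = Q' v) : (Psi Q).range.index = (Psi Q').range.index := by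
  have hT1 : ∀ v, Q (T v) = 1 * Q' v := fun v => by rw [one_mul, hT]
  have hTs : ∀ v, Q' (T.symm v) = Q v := fun v => by rw [← hT, LinearEquiv.apply_symm_apply]
  have h1 : (Psi Q').range.map (MulAut.congr (sP one_ne_zero hT1)).toMonoidHom = (Psi Q).range := by
    ext α
    constructor
    · rintro ⟨_, ⟨N, rfl⟩, rfl⟩
      obtain ⟨M, hM⟩ := exists_gam hT N
      refine ⟨M, ?_⟩
      ext x
      obtain ⟨x, rfl⟩ := (sP one_ne_zero hT1).surjective x
      rw [sP_psi one_ne_zero hT1 hM]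
      change _ = sP one_ne_zero hT1 (Psi Q' N ((sP one_ne_zero hT1).symm (sP one_ne_zero hT1 x)))
      rw [MulEquiv.symm_apply_apply]
    · rintro ⟨M, rfl⟩
      obtain ⟨N, hN⟩ := exists_gam hTs M
      have hM : ∀ v, M.1 (T v) = T (N.1 v) := by
        intro v
        have := hN (T v)
        rw [LinearEquiv.symm_apply_apply] at this
        rw [this, LinearEquiv.apply_symm_apply]
      refine ⟨Psi Q' N, ⟨N, rfl⟩, ?_⟩
      ext x
      obtain ⟨x, rfl⟩ := (sP one_ne_zero hT1).surjective x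
      rw [sP_psi one_ne_zero hT1 hM]
      change sP one_ne_zero hT1 (Psi Q' N ((sP one_ne_zero hT1).symm (sP one_ne_zero hT1 x))) = _
      rw [MulEquiv.symm_apply_apply]
  rw [← h1]
  exact Subgroup.index_map_equiv _ (MulAut.congr (sP one_ne_zero hT1))

end transport

open Cfsg.Agent.H160.QSpin Cfsg.Agent.H160.QDisc Cfsg.Agent.H160.QSplit Cfsg.Agent.H160.QSemi in
theorem odd_index {F : Type*} [Field F] [Finite F] (h2 : (2 : F) ≠ 0) {V : Type*} [AddCommGroup V] [Module F V]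
    [FiniteDimensional F V] {Q : QuadraticForm F V} (hQ : Nondeg Q) (h7 : 7 ≤ finrank F V) :
    Odd (Psi Q).range.index := by
  classical
  have := Fintype.ofFinite F
  have hG : Good Q := good_of_finite hQ (by omega)
  by_cases h8 : finrank F V = 8 → ∀ W : Submodule F V, TS Q W → finrank F W ≠ 4
  · rw [MonoidHom.range_eq_top.2 (Cfsg.Agent.AutOrth.Final.surjective_of_no_four hG h7 h8), Subgroup.index_top]
    exact odd_one
  · push Not at h8
    obtain ⟨h8, W, hW, hW4⟩ := h8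
    have hd : dc Q = quadraticChar F (-1) ^ 4 := dc_of_isotropic hQ (m := 4) (by omega) W hW4
      (fun x hx y hy => hW.polar hx hy)
    have hn : Nondeg (LieClassical.OrthForms.plusForm 4 F) := LieClassical.OrthForms.nondeg_plusForm 4 F
    have hdp : dc (LieClassical.OrthForms.plusForm 4 F) = quadraticChar F (-1) ^ 4 := by
      let e : ((Fin 4 → F) × (Fin 4 → F)) ≃ₗ[F] (Fin 4 ⊕ Fin 4 → F) :=
        (LinearEquiv.sumArrowLequivProdArrow (Fin 4) (Fin 4) F F).symm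
      have he : IsIso (hyp F 4) (LieClassical.OrthForms.plusForm 4 F) e := by
        rintro ⟨x, y⟩
        rw [LieClassical.OrthForms.coe_plusForm, LieClassical.OrthForms.quadFormPlus_apply, hyp_apply]
        rfl
      rw [dc_iso he, dc_hyp]
    obtain ⟨e, he⟩ := exists_iso h2 hn hQ (by rw [h8]; simp) (by rw [hd, hdp])
    rw [index_range_eq (T := e) he, Cfsg.Agent.AutOrth.Final.index_plus_four]
    decide

/-! ### Isometries -/

section isom

variable {F V : Type*} [Field F] [AddCommGroup V] [Module F V] {Q : QuadraticForm F V}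

/-- isometries as semisimilitudes -/
def oG (Q : QuadraticForm F V) : ↥(O Q) →* Gam Q where
  toFun T := ⟨(T : V ≃ₗ[F] V).toEquiv, RingEquiv.refl F, 1, one_ne_zero, fun u v => map_add (T : V ≃ₗ[F] V) u v,
    fun a v => map_smul (T : V ≃ₗ[F] V) a v, fun v => by rw [one_mul]; exact T.2 v⟩
  map_one' := Subtype.ext (Equiv.ext fun _ => rfl)
  map_mul' _ _ := Subtype.ext (Equiv.ext fun _ => rfl)

theorem oG_apply (T : ↥(O Q)) (v : V) : (oG Q T).1 v = (T : V ≃ₗ[F] V) v := rfl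

theorem conjE_oG (T : ↥(O Q)) (h : ↥(E Q)) :
    (conjE Q (oG Q T) h : V ≃ₗ[F] V) = (T : V ≃ₗ[F] V) * h * (T : V ≃ₗ[F] V)⁻¹ := by
  ext v
  rfl

theorem psi_oG_E (x : ↥(E Q)) : Psi Q (oG Q ⟨x, E_le_O x.2⟩) = MulAut.conj (QuotientGroup.mk x : P Q) := by
  ext y
  obtain ⟨y, rfl⟩ := QuotientGroup.mk_surjective y
  rw [Psi_mk, MulAut.conj_apply, ← QuotientGroup.mk_inv, ← QuotientGroup.mk_mul, ← QuotientGroup.mk_mul]
  rfl

/-- automorphisms of a finite field commute -/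
theorem aut_comm [Finite F] (σ τ : F ≃+* F) (c : F) : σ (τ c) = τ (σ c) := by
  by_cases hc : c = 0
  · rw [hc, map_zero, map_zero, map_zero]
  obtain ⟨a, ha⟩ := MonoidHom.map_cyclic (Units.map (σ : F →* F))
  obtain ⟨b, hb⟩ := MonoidHom.map_cyclic (Units.map (τ : F →* F))
  have h1 : Units.map (σ : F →* F) (Units.map (τ : F →* F) (Units.mk0 c hc)) =
      Units.map (τ : F →* F) (Units.map (σ : F →* F) (Units.mk0 c hc)) := by
    rw [ha, hb, ha, hb, ← zpow_mul, ← zpow_mul, mul_comm]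
  exact congrArg Units.val h1

theorem isSquare_div [Finite F] (τ : F ≃+* F) (c : F) : IsSquare (c * τ c⁻¹) := by
  by_cases hc : IsSquare c
  · obtain ⟨r, rfl⟩ := hc
    exact ⟨r * τ r⁻¹, by rw [mul_inv, map_mul]; ring⟩
  · refine ClassicalGeometry.SymmNormalForm.isSquare_div_of_not hc ?_
    rintro ⟨r, hr⟩
    apply hc
    refine ⟨τ.symm r⁻¹, ?_⟩
    rw [← map_mul, ← mul_inv, ← hr, ← map_inv₀ τ, inv_inv, RingEquiv.symm_apply_apply]

/-- a commutator of semisimilitudes is an isometry up to a scalar -/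
theorem exists_isom_comm [Finite F] (M N : Gam Q) :
    ∃ K : ↥(O Q), Psi Q (M * N * M⁻¹ * N⁻¹) = Psi Q (oG Q K) := by
  obtain ⟨σ, c, hM⟩ := M.2
  obtain ⟨τ, d, hN⟩ := N.2
  have hK := ((hM.mul hN).mul hM.inv).mul hN.inv
  obtain ⟨K, hKdef⟩ : ∃ K : Gam Q, K = M * N * M⁻¹ * N⁻¹ := ⟨_, rfl⟩
  have hK' : M.1 * N.1 * M.1⁻¹ * N.1⁻¹ = K.1 := by rw [hKdef]; rfl
  rw [hK'] at hK
  rw [← hKdef]
  have hadd := hK.add
  have hsmul : ∀ (a : F) (v : V), K.1 (a • v) = a • K.1 v := by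
    intro a v
    rw [hK.smul]
    congr 1
    change σ (τ (σ.symm (τ.symm a))) = a
    rw [aut_comm σ τ, RingEquiv.apply_symm_apply, RingEquiv.apply_symm_apply]
  obtain ⟨k, hk0, hkf, hksq⟩ : ∃ k : F, k ≠ 0 ∧ (∀ v, Q (K.1 v) = k * Q v) ∧ IsSquare k := by
    refine ⟨_, hK.ne, fun v => ?_, ?_⟩
    · rw [hK.form]
      congr 1
      change σ (τ (σ.symm (τ.symm (Q v)))) = Q v
      rw [aut_comm σ τ, RingEquiv.apply_symm_apply, RingEquiv.apply_symm_apply]
    · change IsSquare (c * σ d * σ (τ (σ.symm c⁻¹)) * σ (τ (σ.symm (τ.symm d⁻¹))))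
      rw [aut_comm σ τ (σ.symm c⁻¹), aut_comm σ τ (σ.symm _), RingEquiv.apply_symm_apply,
        RingEquiv.apply_symm_apply, RingEquiv.apply_symm_apply]
      have e : c * σ d * τ c⁻¹ * d⁻¹ = (c * τ c⁻¹) * (d⁻¹ * σ (d⁻¹)⁻¹) := by rw [inv_inv]; ring
      rw [e]
      exact (isSquare_div τ c).mul (isSquare_div σ d⁻¹)
  obtain ⟨a, rfl⟩ := hksq
  have ha : a ≠ 0 := fun h => hk0 (by rw [h, mul_zero])
  let K' : V ≃ₗ[F] V :=
    { toFun := fun v => a⁻¹ • K.1 v
      invFun := fun v => K.1⁻¹ (a • v)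
      map_add' := fun u v => by rw [hadd, smul_add]
      map_smul' := fun b v => by rw [hsmul, smul_smul, smul_smul, mul_comm]; rfl
      left_inv := fun v => by
        change K.1⁻¹ (a • a⁻¹ • K.1 v) = v
        rw [smul_smul, mul_inv_cancel₀ ha, one_smul, inv_apply]
      right_inv := fun v => by
        change a⁻¹ • K.1 (K.1⁻¹ (a • v)) = v
        rw [apply_inv, smul_smul, inv_mul_cancel₀ ha, one_smul] }
  have hK'v : ∀ v, K' v = a⁻¹ • K.1 v := fun v => rfl
  have hK'O : K' ∈ O Q := by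
    intro v
    rw [hK'v, QuadraticMap.map_smul, hkf, smul_eq_mul]
    field_simp
  refine ⟨⟨K', hK'O⟩, ?_⟩
  have h1 : conjE Q K = conjE Q (oG Q ⟨K', hK'O⟩) := by
    apply MulEquiv.ext
    intro h
    apply Subtype.ext
    rw [coe_conjE, coe_conjE]
    ext v
    obtain ⟨w, rfl⟩ := K'.surjective v
    have h2 : conjLin (oG Q ⟨K', hK'O⟩) h.1 (K' w) = K' (h.1 w) := conjLin_apply' (oG Q ⟨K', hK'O⟩) h.1 w
    rw [h2, hK'v, hK'v, map_smul, conjLin_apply']
  change ClassicalGeometry.SympAutSemi.quotAut (conjE Q K) = ClassicalGeometry.SympAutSemi.quotAut (conjE Q _)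
  rw [h1]

/-- `T² = ±1` -/
theorem sq_eq (hG : Good Q) {T : ↥(O Q)} (h : Psi Q (oG Q T) * Psi Q (oG Q T) = 1) :
    (∀ v, (T : V ≃ₗ[F] V) ((T : V ≃ₗ[F] V) v) = v) ∨ ∀ v, (T : V ≃ₗ[F] V) ((T : V ≃ₗ[F] V) v) = -v := by
  rw [← map_mul, ← map_mul] at h
  have h1 : conjE Q (oG Q (T * T)) = 1 := eq_one_of_quotAut (commutator_E hG) _ h
  obtain ⟨a, ha, hv⟩ := exists_scalar_of_conjE hG _ h1
  have hv' : ∀ v, (T : V ≃ₗ[F] V) ((T : V ≃ₗ[F] V) v) = a • v := hv
  obtain ⟨v, hQv⟩ : ∃ v, Q v ≠ 0 := by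
    by_contra hcon
    push Not at hcon
    obtain ⟨u, hu0, hu⟩ := hG.sing
    obtain ⟨v, hv⟩ := hG.nondeg.exists_polar_eq hu0 1
    rw [QuadraticMap.polar, hcon, hcon, hcon, sub_zero, sub_zero] at hv
    exact zero_ne_one hv
  have h2 : Q (a • v) = Q v := by
    rw [← hv']
    exact (T.2 _).trans (T.2 _)
  rw [QuadraticMap.map_smul, smul_eq_mul] at h2
  have h3 : a * a = 1 := by
    apply mul_right_cancel₀ hQv
    rw [h2, one_mul]
  rcases mul_self_eq_one_iff.1 h3 with h4 | h4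
  · left
    intro v
    rw [hv', h4, one_smul]
  · right
    intro v
    rw [hv', h4, neg_smul, one_smul]

end isom

theorem conj_normal {G : Type*} [Group G] : (MulAut.conj : G →* MulAut G).range.Normal := by
  constructor
  rintro _ ⟨x, rfl⟩ φ
  refine ⟨φ x, ?_⟩
  ext y
  rw [MulAut.mul_apply, MulAut.mul_apply, MulAut.conj_apply, MulAut.conj_apply, map_mul, map_mul, map_inv,
    MulAut.apply_inv_self]

theorem conj_conj {G : Type*} [Group G] (φ : MulAut G) (x : G) : φ * MulAut.conj x * φ⁻¹ = MulAut.conj (φ x) := by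
  ext y
  rw [MulAut.mul_apply, MulAut.mul_apply, MulAut.conj_apply, MulAut.conj_apply, map_mul, map_mul, map_inv,
    MulAut.apply_inv_self]

/-- the theorem for `P Q` -/
theorem lin_P {F V : Type*} [Field F] [Finite F] [AddCommGroup V] [Module F V] [Finite V] [FiniteDimensional F V]
    {Q : QuadraticForm F V} (h2 : (2 : F) ≠ 0) (hQ : Nondeg Q) (h7 : 7 ≤ finrank F V) (α β β' : MulAut (P Q)) (s : P Q)
    (j : ℕ) (hα : α * α = 1) (hβ : β * β = 1) (hβ' : β' * β' = 1)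
    (h : α = MulAut.conj s * (β * β' * β⁻¹ * β'⁻¹) ^ j) :
    ∃ (g : MulAut (P Q)) (T : ↥(O Q)),
      ((∀ v, (T : V ≃ₗ[F] V) ((T : V ≃ₗ[F] V) v) = v) ∨ ∀ v, (T : V ≃ₗ[F] V) ((T : V ≃ₗ[F] V) v) = -v) ∧
      g * α * g⁻¹ = Psi Q (oG Q T) := by
  have hG : Good Q := good_of_finite hQ (by omega)
  have hfV : Finite (V ≃ₗ[F] V) := DFunLike.finite _
  have hfE : Finite ↥(E Q) := inferInstance
  have hfP : Finite (P Q) := inferInstance
  have hfA : Finite (MulAut (P Q)) := inferInstance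
  obtain ⟨g, β'', o, ho, hb, ⟨M, hM⟩, ⟨N, hN⟩, hc⟩ := OiLinG.exists_pair (Psi Q).range (odd_index h2 hQ h7) hβ hβ'
  have hnorm : (MulAut.conj : P Q →* MulAut (P Q)).range.Normal := conj_normal
  obtain ⟨_, ⟨s₁, rfl⟩, hα'⟩ := OiLinG.odd_pow (I := (MulAut.conj : P Q →* MulAut (P Q)).range) hα ho ⟨s, rfl⟩ h
  rw [← hc] at hα'
  obtain ⟨K, hK⟩ := exists_isom_comm M N
  obtain ⟨x, hx⟩ := QuotientGroup.mk_surjective (g s₁)
  have h1 : g * α * g⁻¹ = Psi Q (oG Q (⟨x, E_le_O x.2⟩ * K ^ j)) := by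
    rw [map_mul, map_mul, map_pow, map_pow, ← hK, psi_oG_E, hx, ← conj_conj, map_mul, map_mul, map_mul, map_inv, map_inv,
      hM, hN]
    conv_lhs => rw [hα']
    have e1 : g * β * g⁻¹ * (g * β'' * g⁻¹) * (g * β * g⁻¹)⁻¹ * (g * β'' * g⁻¹)⁻¹ =
        g * (β * β'' * β⁻¹ * β''⁻¹) * g⁻¹ := by group
    rw [e1, conj_pow]
    group
  refine ⟨g, _, sq_eq hG ?_, h1⟩
  rw [← h1]
  calc g * α * g⁻¹ * (g * α * g⁻¹) = g * (α * α) * g⁻¹ := by group
    _ = 1 := by rw [hα]; group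

/-! ### `POmega` -/

open Cfsg.Agent.AutOrth.Main Cfsg.Agent.H323.OI
open scoped Matrix

theorem pLin : Cfsg.Agent.H323.OI.PLin := by
  intro F _ _ h2 ι _ _ Q hQ h7 α β β' s j hα hβ hβ' h
  have h7' : 7 ≤ finrank F (ι → F) := by rwa [Module.finrank_fintype_fun_eq_card]
  have hG : Good Q := good_of_finite hQ (by omega)
  let e := MulAut.congr (pe hG)
  have he : ∀ (γ : MulAut (Cfsg.POmega F ⇑Q)) (y : Cfsg.POmega F ⇑Q), e γ (pe hG y) = pe hG (γ y) := by
    intro γ y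
    change pe hG (γ ((pe hG).symm (pe hG y))) = _
    rw [MulEquiv.symm_apply_apply]
  have hconj : e (MulAut.conj s) = MulAut.conj (pe hG s) := by
    ext y
    obtain ⟨y, rfl⟩ := (pe hG).surjective y
    rw [he, MulAut.conj_apply, MulAut.conj_apply, map_mul, map_mul, map_inv]
  obtain ⟨g, T, hT, hg⟩ := lin_P h2 hQ h7' (e α) (e β) (e β') (pe hG s) j (by rw [← map_mul, hα, map_one])
    (by rw [← map_mul, hβ, map_one]) (by rw [← map_mul, hβ', map_one])
    (by rw [← hconj, ← map_inv, ← map_inv, ← map_mul, ← map_mul, ← map_mul, ← map_pow, ← map_mul, ← h])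
  obtain ⟨g, rfl⟩ := e.surjective g
  obtain ⟨T₀, hT₀⟩ : ∃ T₀ : ↥(Cfsg.isometryGroup F ⇑Q), isometryHom Q T₀ = T := by
    have h9 : (T : (ι → F) ≃ₗ[F] (ι → F)) ∈ (isometryHom Q).range := by
      rw [isometryHom_range]
      exact T.2
    exact h9
  have hmx : ∀ v, mx T₀ *ᵥ v = (T : (ι → F) ≃ₗ[F] (ι → F)) v := fun v => by
    rw [← hT₀]; rfl
  refine ⟨g, T₀, ?_, fun x => ?_⟩
  · rcases hT with hT | hT
    · left
      apply isometryHom_injective Q
      rw [map_mul, map_one, hT₀]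
      exact LinearEquiv.ext hT
    · right
      apply Matrix.ext_of_mulVec_single
      intro i
      have h3 : mx (T₀ * T₀) = mx T₀ * mx T₀ := rfl
      rw [h3, ← Matrix.mulVec_mulVec, hmx, hmx, hT, Matrix.neg_mulVec, Matrix.one_mulVec]
  · apply (pe hG).injective
    rw [← he, map_mul, map_mul, map_inv, hg, pe_mk, pe_mk, Psi_mk]
    congr 1
    apply Subtype.ext
    rw [conjE_oG]
    ext1 v
    change (T : (ι → F) ≃ₗ[F] (ι → F)) ((oe hG x : (ι → F) ≃ₗ[F] (ι → F)) ((T : (ι → F) ≃ₗ[F] (ι → F))⁻¹ v)) = _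
    rw [oe_apply, oe_apply, ← hT₀]
    have h4 : (((cj T₀ x : Cfsg.Omega F ⇑Q) : Cfsg.isometryGroup F ⇑Q)) = T₀ * x * T₀⁻¹ := MulAut.conjNormal_apply _ _
    rw [h4]
    have h5 : (isometryHom Q T₀)⁻¹ v = mx T₀⁻¹ *ᵥ v := by rw [← map_inv]; rfl
    rw [h5]
    change mx T₀ *ᵥ (mx (x : Cfsg.isometryGroup F ⇑Q) *ᵥ (mx T₀⁻¹ *ᵥ v)) = (mx T₀ * mx (x : Cfsg.isometryGroup F ⇑Q) * mx T₀⁻¹) *ᵥ v
    rw [Matrix.mulVec_mulVec, Matrix.mulVec_mulVec, mul_assoc]

end Cfsg.Agent.H623.OiLin
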