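import Cfsg.Agent.H623.DpSz
import Cfsg.Agent.H228.RegCent
import Cfsg.Agent.LieRecognition.ReeFinal
import Cfsg.Agent.ClassicalGeometry.PSL2Basic
import Cfsg.Agent.S1073
import Cfsg.Agent.S1152
import Cfsg.Agent.S1157
import Cfsg.Agent.S1158
import Cfsg.Agent.S2343

/-!
# S2454: the small Ree groups (helper623)

For every prime `p` there is a `p`-element with centralizer of order at most `q³`; criterion K with `k = 10`.
-/

set_option autoImplicit false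

namespace Cfsg.Agent.H623.DpRee

open Subgroup Cfsg Cfsg.Agent.H514.DP Cfsg.Lie
open Cfsg.Agent.ChevalleyStructure Cfsg.Agent.ChevalleyStructure.Elts
  Cfsg.Agent.ChevalleyStructure.RootVec Cfsg.Agent.Nodes.RGDChev Cfsg.Agent.H115 Cfsg.Agent.H228.RegUnip

universe u

variable {K : Type u} [Field K] [Fintype K] {m : ℕ}

/-- a regular unipotent element -/
theorem exists_three (hK : Fintype.card K = 3 ^ (2 * m + 1)) :
    ∃ x : ↥(twistedG2 K (3 ^ m)), IsPE 3 x ∧ Nat.card (Subgroup.centralizer ({x} : Set ↥(twistedG2 K (3 ^ m)))) ≤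
      (3 ^ (2 * m + 1)) ^ 3 := by
  have hp : IsType chevG2 2 CoxeterMatrix.G₂ := by simp [IsType, typeList]
  obtain ⟨p, hch⟩ := CharP.exists K
  have : Fact p.Prime := ⟨CharP.char_is_prime K p⟩
  have hwH : wordG hp.inList (reeWordU (3 ^ m) (1 : K) 0 0) ∈ twistedG2 K (3 ^ m) :=
    wordG_mem_gen hp.inList ⟨1, 0, 0, Or.inl rfl⟩
  have hreg : IsReg hp CoxeterMatrix.G₂.toCoxeterSystem (wordG hp.inList (reeWordU (3 ^ m) (1 : K) 0 0)) := by
    refine isReg_wordG (hp := hp) p _ ?_ ?_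
    · have key : ∀ r ∈ [7, 6, 8, 9, 10, 11], chevG2.IsPosRoot r := by decide +kernel
      intro c hc
      apply key
      simp only [reeWordU, List.mem_cons, List.not_mem_nil, or_false] at hc
      rcases hc with rfl | rfl | rfl | rfl | rfl | rfl <;> simp [g2a, g2b, g2ab, g2aab, g2aaab, g2aaabb]
    · have hs : chevG2.simple 0 = 7 ∧ chevG2.simple 1 = 6 := by decide +kernel
      obtain ⟨h0, h1⟩ := hs
      intro i
      fin_cases i <;> simp [cw, reeWordU, g2a, g2b, g2ab, g2aab, g2aaab, g2aaabb, h0, h1]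
  refine ⟨⟨_, hwH⟩, ?_, ?_⟩
  · have h2 : wordG hp.inList (reeWordU (3 ^ m) (1 : K) 0 0) ∈ chevG2.posUnipotent K ⊓ twistedG2 K (3 ^ m) :=
      ⟨hreg.1, hwH⟩
    have h3 := Subgroup.orderOf_dvd_natCard _ h2
    rw [(Cfsg.Agent.S1101.result hK).2, ← pow_mul] at h3
    exact ⟨(2 * m + 1) * 3, Subtype.ext (orderOf_dvd_iff_pow_eq_one.1 h3)⟩
  · rw [← (Cfsg.Agent.S1101.result hK).2]
    exact card_centralizer_le (hp := hp) p (genSubgroup_le hp.inList _) hwH hreg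

/-- an involution -/
theorem exists_two (hK : Fintype.card K = 3 ^ (2 * m + 1)) :
    ∃ x : ↥(twistedG2 K (3 ^ m)), IsPE 2 x ∧ Nat.card (Subgroup.centralizer ({x} : Set ↥(twistedG2 K (3 ^ m)))) ≤
      (3 ^ (2 * m + 1)) ^ 3 := by
  obtain ⟨a, haH, ha1, ha2⟩ := Cfsg.Agent.S1157.exists_involution hK
  obtain ⟨⟨f⟩, -⟩ := Cfsg.Agent.S1152.result hK a haH ha1 ha2
  refine ⟨a, ⟨1, by rw [pow_one, pow_two, ha2]⟩, ?_⟩
  have hodd : Odd (Fintype.card K) := by rw [hK]; exact Odd.pow (by decide)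
  have hcard : Nat.card (Matrix.ProjectiveSpecialLinearGroup (Fin 2) K) * 2 =
      (3 ^ (2 * m + 1)) * ((3 ^ (2 * m + 1)) ^ 2 - 1) := by
    rw [ClassicalGeometry.PSL2Basic.card_PSL2_odd K hodd, hK]
  have h2 : Nat.card (Multiplicative (ZMod 2)) = 2 := by
    rw [Nat.card_eq_fintype_card]; exact ZMod.card 2
  rw [Nat.card_congr f.toEquiv, Nat.card_prod, h2, mul_comm, hcard, pow_succ' (3 ^ (2 * m + 1)) 2]
  exact Nat.mul_le_mul_left _ (Nat.sub_le _ _)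

/-- elements of the tori -/
theorem exists_torus (hm : 1 ≤ m) (hK : Fintype.card K = 3 ^ (2 * m + 1)) {p : ℕ} (hp : p.Prime) (hp2 : p ≠ 2)
    (hp3 : p ≠ 3) (hd : p ∣ Nat.card ↥(twistedG2 K (3 ^ m))) :
    ∃ x : ↥(twistedG2 K (3 ^ m)), IsPE p x ∧ Nat.card (Subgroup.centralizer ({x} : Set ↥(twistedG2 K (3 ^ m)))) ≤
      (3 ^ (2 * m + 1)) ^ 3 := by
  have hfin : Finite ↥(twistedG2 K (3 ^ m)) := inferInstance
  have hpF : Fact p.Prime := ⟨hp⟩
  have h27 : 27 ≤ 3 ^ (2 * m + 1) := by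
    calc 27 = 3 ^ 3 := by norm_num
      _ ≤ 3 ^ (2 * m + 1) := Nat.pow_le_pow_right (by norm_num) (by omega)
  have hrq : 3 ^ (m + 1) ≤ 3 ^ (2 * m + 1) := Nat.pow_le_pow_right (by norm_num) (by omega)
  have hr2 : 3 ^ (m + 1) * 3 ^ (m + 1) = 3 * 3 ^ (2 * m + 1) := by
    rw [← pow_add, ← pow_succ']
    congr 1
    omega
  have hS := Cfsg.Agent.S1158.result hm hK
  rw [LieRecognition.ReeFinal.card hK] at hd
  -- one torus
  have key : ∀ kn : ℕ × ℕ, kn ∈ ({((3 ^ (2 * m + 1) - 1) / 2, 2 * (3 ^ (2 * m + 1) - 1)),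
      ((3 ^ (2 * m + 1) + 1) / 4, 6 * (3 ^ (2 * m + 1) + 1)),
      (3 ^ (2 * m + 1) - 3 ^ (m + 1) + 1, 6 * (3 ^ (2 * m + 1) - 3 ^ (m + 1) + 1)),
      (3 ^ (2 * m + 1) + 3 ^ (m + 1) + 1, 6 * (3 ^ (2 * m + 1) + 3 ^ (m + 1) + 1))} : Set (ℕ × ℕ)) →
      kn.2 ≤ (3 ^ (2 * m + 1)) ^ 3 → p ∣ kn.1 →
      ∃ x : ↥(twistedG2 K (3 ^ m)), IsPE p x ∧ Nat.card (Subgroup.centralizer ({x} : Set ↥(twistedG2 K (3 ^ m)))) ≤
        (3 ^ (2 * m + 1)) ^ 3 := by
    intro kn hkn hle hpk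
    obtain ⟨A, -, cA, nA, zA⟩ := hS kn hkn
    rw [← cA] at hpk
    obtain ⟨y, hy⟩ := exists_prime_orderOf_dvd_card' p hpk
    have hy' : orderOf (y : ↥(twistedG2 K (3 ^ m))) = p := by rw [Subgroup.orderOf_coe, hy]
    refine ⟨y, IsPE.of_prime hy', le_trans ?_ hle⟩
    rw [← nA, ← zA (zpowers (y : ↥(twistedG2 K (3 ^ m)))) (zpowers_le.2 y.2) ?_]
    · apply Subgroup.card_le_of_le
      intro g hg
      rw [mem_centralizer_singleton_iff] at hg
      rw [mem_normalizer_iff]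
      have hcm : ∀ n : ℤ, g * (y : ↥(twistedG2 K (3 ^ m))) ^ n * g⁻¹ = (y : ↥(twistedG2 K (3 ^ m))) ^ n := by
        intro n
        rw [((show Commute g (y : ↥(twistedG2 K (3 ^ m))) from hg).zpow_right n).eq, mul_inv_cancel_right]
      intro h
      constructor
      · rintro ⟨n, rfl⟩
        exact ⟨n, (hcm n).symm⟩
      · rintro ⟨n, hn⟩
        refine ⟨n, ?_⟩
        have hn' : (y : ↥(twistedG2 K (3 ^ m))) ^ n = g * h * g⁻¹ := hn
        change (y : ↥(twistedG2 K (3 ^ m))) ^ n = h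
        have h4 := hcm n
        rw [hn'] at h4
        have h5 : g * h * g⁻¹ = h := by
          have h6 : g * (g * h * g⁻¹) * g⁻¹ = g * h * g⁻¹ := h4
          have h7 := mul_left_cancel (mul_right_cancel h6)
          exact h7
        rw [hn', h5]
    · rw [Ne, zpowers_eq_bot]
      intro h
      rw [h, orderOf_one] at hy'
      exact hp.one_lt.ne hy'
  have hmod : 3 ^ (2 * m + 1) % 8 = 3 := by
    rw [pow_succ, pow_mul, Nat.mul_mod, Nat.pow_mod]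
    norm_num
  have hpq : ¬ p ∣ 3 ^ (2 * m + 1) := fun h =>
    hp3 ((Nat.prime_dvd_prime_iff_eq hp Nat.prime_three).1 (hp.dvd_of_dvd_pow h))
  generalize 3 ^ (2 * m + 1) = q at *
  generalize 3 ^ (m + 1) = r at *
  have hq3 : 18 * q ≤ q ^ 3 := by nlinarith [Nat.mul_le_mul h27 h27]
  rcases hp.dvd_mul.1 hd with h1 | h1
  · rcases hp.dvd_mul.1 h1 with h2 | h2
    · exact absurd (hp.dvd_of_dvd_pow h2) hpq
    · refine key _ (Or.inl rfl) (by simp only; omega) ?_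
      simp only
      obtain ⟨j, hj⟩ : ∃ j, q - 1 = 2 * j := ⟨(q - 1) / 2, by omega⟩
      rw [hj, Nat.mul_div_cancel_left _ (by norm_num)]
      rw [hj] at h2
      exact (hp.dvd_mul.1 h2).resolve_left fun h => hp2 ((Nat.prime_dvd_prime_iff_eq hp Nat.prime_two).1 h)
  · have e1 : q ^ 3 + 1 = (q + 1) * ((q - r + 1) * (q + r + 1)) := by
      obtain ⟨s, hs⟩ : ∃ s, q = s + r := ⟨q - r, by omega⟩
      have e2 : q - r + 1 = s + 1 := by omega
      rw [e2]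
      have : (s + 1) * (q + r + 1) + q = q ^ 2 + 1 := by
        rw [hs] at hr2 ⊢
        nlinarith
      nlinarith
    rw [e1] at h1
    rcases hp.dvd_mul.1 h1 with h2 | h2
    · refine key _ (Or.inr (Or.inl rfl)) (by simp only; omega) ?_
      simp only
      obtain ⟨j, hj⟩ : ∃ j, q + 1 = 4 * j := ⟨(q + 1) / 4, by omega⟩
      rw [hj, Nat.mul_div_cancel_left _ (by norm_num)]
      rw [hj] at h2
      refine (hp.dvd_mul.1 h2).resolve_left fun h => hp2 ?_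
      have h4 : p ∣ 2 ^ 2 := h
      exact (Nat.prime_dvd_prime_iff_eq hp Nat.prime_two).1 (hp.dvd_of_dvd_pow h4)
    · rcases hp.dvd_mul.1 h2 with h3 | h3
      · exact key _ (Or.inr (Or.inr (Or.inl rfl))) (by simp only; omega) h3
      · exact key _ (Or.inr (Or.inr (Or.inr rfl))) (by simp only; omega) h3

theorem num {q : ℕ} (hq : 27 ≤ q) : (q ^ 3 - 1) ^ 10 < (q ^ 2 - q + 1) ^ (2 * 10 - 4) := by
  have h1 : 26 * q ^ 2 ≤ 27 * (q ^ 2 - q + 1) := by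
    have : q ≤ q ^ 2 := by nlinarith
    zify [this]
    nlinarith
  have e : 2 * 10 - 4 = 16 := rfl
  rw [e]
  have h2 : (q ^ 3 - 1) ^ 10 ≤ q ^ 30 := by
    calc (q ^ 3 - 1) ^ 10 ≤ (q ^ 3) ^ 10 := Nat.pow_le_pow_left (Nat.sub_le _ _) 10
      _ = q ^ 30 := by ring
  refine lt_of_le_of_lt h2 ?_
  have h3 : 27 ^ 16 * q ^ 30 < 27 ^ 16 * (q ^ 2 - q + 1) ^ 16 := by
    calc 27 ^ 16 * q ^ 30 < 26 ^ 16 * q ^ 2 * q ^ 30 := by
          apply Nat.mul_lt_mul_of_pos_right _ (by positivity)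
          have : 27 ^ 2 ≤ q ^ 2 := Nat.pow_le_pow_left hq 2
          calc 27 ^ 16 < 26 ^ 16 * 27 ^ 2 := by norm_num
            _ ≤ 26 ^ 16 * q ^ 2 := Nat.mul_le_mul_left _ this
      _ = (26 * q ^ 2) ^ 16 := by ring
      _ ≤ (27 * (q ^ 2 - q + 1)) ^ 16 := Nat.pow_le_pow_left h1 16
      _ = _ := by rw [mul_pow]
  exact Nat.lt_of_mul_lt_mul_left h3

/-- **`²G₂(q)`** -/
theorem pw_ree {S : Type*} [Group S] (h : Lie.IsoRee S) {p : ℕ} (hp : p.Prime) (hd : p ∣ Nat.card S) : PW p 10 S := by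
  obtain ⟨K, _, _, m, hm, hK, ⟨e⟩⟩ := h
  refine PW.congr ?_ e.symm
  rw [Nat.card_congr e.toEquiv] at hd
  have hfin : Finite ↥(twistedG2 K (3 ^ m)) := inferInstance
  have hs : IsSimpleGroup ↥(twistedG2 K (3 ^ m)) := (Cfsg.Agent.S1073.result hm hK).1
  obtain ⟨y, hy, hc⟩ : ∃ x : ↥(twistedG2 K (3 ^ m)), IsPE p x ∧
      Nat.card (Subgroup.centralizer ({x} : Set ↥(twistedG2 K (3 ^ m)))) ≤ (3 ^ (2 * m + 1)) ^ 3 := by
    by_cases hp2 : p = 2
    · subst hp2; exact exists_two hK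
    by_cases hp3 : p = 3
    · subst hp3; exact exists_three hK
    exact exists_torus hm hK hp hp2 hp3 hd
  have h27 : 27 ≤ 3 ^ (2 * m + 1) := by
    calc 27 = 3 ^ 3 := by norm_num
      _ ≤ 3 ^ (2 * m + 1) := Nat.pow_le_pow_right (by norm_num) (by omega)
  have hperf : commutator ↥(twistedG2 K (3 ^ m)) = ⊤ := by
    refine DpSz.perf_of_not_prime ?_
    rw [LieRecognition.ReeFinal.card hK]
    refine Nat.not_prime_mul ?_ ?_
    · intro h1
      have h2 : 0 < 3 ^ (2 * m + 1) - 1 := by omega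
      have h3 : (3 ^ (2 * m + 1)) ^ 3 ≤ (3 ^ (2 * m + 1)) ^ 3 * (3 ^ (2 * m + 1) - 1) := Nat.le_mul_of_pos_right _ h2
      have h4 : 27 ^ 3 ≤ (3 ^ (2 * m + 1)) ^ 3 := Nat.pow_le_pow_left h27 3
      omega
    · have h4 : 27 ^ 3 ≤ (3 ^ (2 * m + 1)) ^ 3 := Nat.pow_le_pow_left h27 3
      omega
  have h1 := PW.of_pe hperf (p := p) (m := 1) (k := 10) hy.pe (Cfsg.Agent.S2343.result m hm hK) (by norm_num)
    (lt_of_le_of_lt (Nat.pow_le_pow_left (Nat.sub_le_sub_right hc 1) 10) (num h27))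
  simpa using h1

end Cfsg.Agent.H623.DpRee
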