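import Cfsg.Agent.H623.DpPsu3

/-!
# S2454: the row `PSU_3(q)` (helper623)
-/

set_option autoImplicit false
set_option linter.unusedSectionVars false

namespace Cfsg.Agent.H623.DpPsu3

open Matrix Subgroup Cfsg Cfsg.Agent.H514.DP

variable {F : Type} [Field F] [Fintype F] {q : ℕ}

theorem pw_b (hF : Fintype.card F = q ^ 2) (hq : 3 ≤ q) {p : ℕ} (hp : p.Prime) (hd : p ∣ q ^ 2 - q + 1)
    (hn : ¬ p ∣ q * (q ^ 2 - 1)) (hcd : p ∣ Nat.card (SU 3 F q)) : PW p 25 (SU 3 F q) := by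
  classical
  have hpF : Fact p.Prime := ⟨hp⟩
  have h3F : Fact (Nat.Prime 3) := ⟨Nat.prime_three⟩
  have hq2 : q ≤ q ^ 2 := Nat.le_self_pow (by norm_num) q
  have hq1 : 1 ≤ q ^ 2 := by omega
  have h0 : (q : ZMod p) ^ 2 - q + 1 = 0 := by
    have := (ZMod.natCast_eq_zero_iff _ p).2 hd
    push_cast [Nat.cast_sub hq2] at this
    exact this
  have h2 : (q : ZMod p) ^ 2 ≠ 1 := by
    intro h
    apply hn
    refine Dvd.dvd.mul_left ?_ q
    rw [← ZMod.natCast_eq_zero_iff]
    push_cast [Nat.cast_sub hq1]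
    rw [h, sub_self]
  have hord : orderOf ((q ^ 2 : ℕ) : ZMod p) = 3 := by
    apply orderOf_eq_prime
    · push_cast
      linear_combination ((q : ZMod p) ^ 3 - 1) * (q + 1) * h0
    · push_cast
      exact h2
  obtain ⟨y, hy⟩ := exists_prime_orderOf_dvd_card' p hcd
  have hpF' : ¬ p ∣ Fintype.card F := by
    rw [hF]
    intro h
    exact hn (Dvd.dvd.mul_right (hp.dvd_of_dvd_pow h) _)
  have hz : orderOf (Cfsg.Agent.H541.CntPsu.toGU 3 F q y) = p := by
    rw [orderOf_injective _ Cfsg.Agent.H541.CntPsu.toGU_injective, hy]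
  have hc := Cfsg.Agent.H541.CntPsu.cent_gu hF hp hpF' hord (by norm_num) hz
  have hc' : Nat.card (centralizer ({y} : Set (SU 3 F q))) ≤ q ^ 3 + 1 := by
    refine le_trans ?_ hc
    refine Nat.card_le_card_of_injective (fun g => ⟨Cfsg.Agent.H541.CntPsu.toGU 3 F q g, ?_⟩) ?_
    · rw [mem_centralizer_singleton_iff, ← map_mul, mem_centralizer_singleton_iff.1 g.2, map_mul]
    · intro a b hab
      exact Subtype.ext (Cfsg.Agent.H541.CntPsu.toGU_injective (congrArg Subtype.val hab))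
  have h1 := PW.of_pe (perf hF hq) (m := 1) (k := 25) (IsPE.of_prime hy).pe (minDeg hF hq) (by norm_num)
    (lt_of_le_of_lt (Nat.pow_le_pow_left (Nat.sub_le_iff_le_add.2 hc') 25) (num_b hq))
  simpa using h1

theorem card_SU3 (hF : Fintype.card F = q ^ 2) : Nat.card (SU 3 F q) = q ^ 3 * ((q ^ 3 + 1) * (q ^ 2 - 1)) := by
  have h := Cfsg.Agent.S0278.result hF 3 (by norm_num)
  simp only [Finset.prod_range_succ, Finset.prod_range_zero, one_mul] at h
  norm_num at h
  have h1 : Even 2 := ⟨1, rfl⟩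
  have h0 : 0 < q + 1 := by omega
  apply Nat.eq_of_mul_eq_mul_left h0
  rw [h]
  ring

theorem pw_su3 (hF : Fintype.card F = q ^ 2) (hq : 3 ≤ q) {p : ℕ} (hp : p.Prime)
    (hcd : p ∣ Nat.card (SU 3 F q)) : PW p 27 (SU 3 F q) := by
  by_cases hn : p ∣ q * (q ^ 2 - 1)
  · exact pw_a hF hq hp hn
  · refine (pw_b hF hq hp ?_ hn hcd).mono (by norm_num)
    have hq2 : q ≤ q ^ 2 := Nat.le_self_pow (by norm_num) q
    have e1 : q ^ 3 + 1 = (q + 1) * (q ^ 2 - q + 1) := by zify [hq2]; ring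
    have e2 : q ^ 2 - 1 = (q + 1) * (q - 1) := by simpa using Nat.sq_sub_sq q 1
    rw [card_SU3 hF, Nat.Prime.dvd_mul hp, Nat.Prime.dvd_mul hp] at hcd
    rcases hcd with h | h | h
    · exact absurd ((hp.dvd_of_dvd_pow h).mul_right _) hn
    · rw [e1, Nat.Prime.dvd_mul hp] at h
      rcases h with h | h
      · refine absurd (Dvd.dvd.mul_left ?_ q) hn
        rw [e2]
        exact h.mul_right _
      · exact h
    · exact absurd (h.mul_left _) hn

universe u

/-- **`PSU_3(q)`** -/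
theorem pw_psu3 {S : Type u} [Group S] (hF : Fintype.card F = q ^ 2) (h32 : q ≠ 2)
    (e : Nonempty (S ≃* PSU 3 F q)) {p : ℕ} (hp : p.Prime) (hd : p ∣ Nat.card S) : PW p 27 S := by
  obtain ⟨e⟩ := e
  have hq : 3 ≤ q := by
    have h1 : 1 < Fintype.card F := Fintype.one_lt_card
    rw [hF] at h1
    rcases Nat.lt_or_ge q 3 with h | h
    · interval_cases q
      · norm_num at h1
      · norm_num at h1
      · exact absurd rfl h32
    · exact h
  rw [Nat.card_congr e.toEquiv] at hd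
  exact ((pw_su3 hF hq hp (hd.trans (Subgroup.card_quotient_dvd_card _))).map
    (QuotientGroup.mk' (center (SU 3 F q))) (QuotientGroup.mk'_surjective _)).congr e.symm

end Cfsg.Agent.H623.DpPsu3
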