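import Cfsg.Agent.H623.PDNum
import Cfsg.Agent.S0679
import Cfsg.Agent.ClassicalGeometry.PSL2Basic

/-!
Degree eleven.
-/

set_option autoImplicit false
set_option linter.unusedSectionVars false

namespace Cfsg.Agent.H623.PD

open MulAction Subgroup
open scoped Pointwise

variable {G Ω : Type*} [Group G] [MulAction G Ω]

/-- The index of the socle in degree eleven. -/
theorem index_dvd_two [Finite G] [FaithfulSMul G Ω] (hΩ : Nat.card Ω = 11) (T : Subgroup G)
    [T.Normal] (hT : Nat.card T = 660 ∨ Nat.card T = 7920) : T.index ∣ 2 := by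
  classical
  have h11 : Fact (Nat.Prime 11) := ⟨by norm_num⟩
  obtain ⟨P⟩ : Nonempty (Sylow 11 T) := inferInstance
  have hPcard : Nat.card P = 11 := by
    rw [P.card_eq_multiplicity]
    rcases hT with h | h
    · have h0 : (Nat.card T).factorization 11 = 1 := by
        rw [h, show (660 : ℕ) = 11 * 60 by norm_num, Nat.factorization_mul (by norm_num) (by norm_num),
          Finsupp.add_apply, Nat.Prime.factorization_self (by norm_num),
          Nat.factorization_eq_zero_of_not_dvd (by norm_num)]
      rw [h0, pow_one]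
    · have h0 : (Nat.card T).factorization 11 = 1 := by
        rw [h, show (7920 : ℕ) = 11 * 720 by norm_num, Nat.factorization_mul (by norm_num) (by norm_num),
          Finsupp.add_apply, Nat.Prime.factorization_self (by norm_num),
          Nat.factorization_eq_zero_of_not_dvd (by norm_num)]
      rw [h0, pow_one]
  set P' : Subgroup G := (P : Subgroup T).map T.subtype with hP'
  have hP'card : Nat.card P' = 11 := by
    exact (Nat.card_congr ((P : Subgroup T).equivMapOfInjective _
      T.subtype_injective).toEquiv).symm.trans hPcard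
  have hN : Nat.card (normalizer (P' : Set G)) ∣ 11 * 10 :=
    SporadicA.PrimeDegNorm.card_normalizer_dvd hΩ P' hP'card
  have hNT : (normalizer (P' : Set G)).subgroupOf T = normalizer ((P : Subgroup T) : Set T) := by
    ext x
    rw [mem_subgroupOf, mem_normalizer_iff, mem_normalizer_iff]
    constructor
    · intro h y
      have h1 := h (y : G)
      constructor
      · intro hy
        obtain ⟨z, hz, hzy⟩ := h1.1 ⟨y, hy, rfl⟩
        have : z = x * y * x⁻¹ := Subtype.ext hzy
        rw [← this]; exact hz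
      · intro hy
        obtain ⟨z, hz, hzy⟩ := h1.2 ⟨x * y * x⁻¹, hy, rfl⟩
        have : z = y := Subtype.ext hzy
        rw [← this]; exact hz
    · intro h y
      constructor
      · rintro ⟨z, hz, rfl⟩
        exact ⟨x * z * x⁻¹, (h z).1 hz, rfl⟩
      · rintro ⟨z, hz, hzy⟩
        have hy : y = ((x⁻¹ * z * x : T) : G) := by
          have h3 : (z : G) = x * y * x⁻¹ := hzy
          simp only [Subgroup.coe_mul, Subgroup.coe_inv, h3]
          group
        rw [hy]
        refine ⟨x⁻¹ * z * x, ?_, rfl⟩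
        apply (h _).2
        have h4 : x * (x⁻¹ * z * x) * x⁻¹ = z := by group
        rw [h4]
        exact hz
  -- the order of the normaliser in `T`
  set N1 := (normalizer ((P : Subgroup T) : Set T)) with hN1
  have hN1dvd : Nat.card N1 ∣ 110 := by
    refine dvd_trans ?_ hN
    rw [← hNT]
    exact Subgroup.card_dvd_of_injective
      ((T.subtype).subgroupComap _) (by
        rintro ⟨⟨x, hx⟩, hx'⟩ ⟨⟨y, hy⟩, hy'⟩ h
        have : x = y := congrArg Subtype.val h
        subst this
        rfl)
  have hPN : (P : Subgroup T) ≤ N1 := le_normalizer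
  have h11N : 11 ∣ Nat.card N1 := by
    have := card_dvd_of_le hPN
    rw [hPcard] at this
    exact this
  have hsyl : N1.index ≡ 1 [MOD 11] := by
    have h0 : Nat.card (Sylow 11 T) = N1.index := P.card_eq_index_normalizer
    rw [← h0]
    exact card_sylow_modEq_one 11 T
  have hidx := N1.index_mul_card
  have hN55 : Nat.card N1 = 55 := by
    obtain ⟨m, hm⟩ := h11N
    have hm10 : m ∣ 10 := by
      rw [hm, show (110 : ℕ) = 11 * 10 by norm_num] at hN1dvd
      exact Nat.dvd_of_mul_dvd_mul_left (by norm_num) hN1dvd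
    have hm' : m ∈ Nat.divisors 10 := Nat.mem_divisors.2 ⟨hm10, by norm_num⟩
    have hd : Nat.divisors 10 = {1, 2, 5, 10} := by decide
    rw [hd] at hm'
    simp only [Finset.mem_insert, Finset.mem_singleton] at hm'
    unfold Nat.ModEq at hsyl
    rw [hm] at hidx
    rcases hm' with rfl | rfl | rfl | rfl <;> rcases hT with h | h <;> rw [h] at hidx <;> omega
  -- Frattini
  have hfrat : normalizer (P' : Set G) ⊔ T = ⊤ := P.normalizer_sup_eq_top
  have h1 : T.relIndex (normalizer (P' : Set G) ⊔ T) = T.relIndex (normalizer (P' : Set G)) :=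
    relIndex_sup_right _ _
  rw [hfrat, relIndex_top_right] at h1
  have h2 : T.relIndex (normalizer (P' : Set G)) *
      Nat.card (T ⊓ normalizer (P' : Set G) : Subgroup G) = Nat.card (normalizer (P' : Set G)) := by
    rw [← inf_relIndex_right, relIndex_mul_card' inf_le_right]
  have h3 : Nat.card (T ⊓ normalizer (P' : Set G) : Subgroup G) = 55 := by
    rw [← hN55, ← hNT, inf_comm]
    rw [← inf_subgroupOf_right]
    exact (Nat.card_congr (subgroupOfEquivOfLe inf_le_right).toEquiv).symm
  rw [← h1, h3] at h2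
  rw [← h2, show (11 * 10 : ℕ) = 2 * 55 by norm_num] at hN
  exact Nat.dvd_of_mul_dvd_mul_right (by norm_num) hN

theorem card_stab_inf [Finite G] (T : Subgroup G) [IsPretransitive T Ω] (a : Ω) :
    Nat.card T = Nat.card Ω * Nat.card (stabilizer G a ⊓ T : Subgroup G) := by
  have h10 := (stabilizer T a).index_mul_card
  rw [index_stabilizer_of_transitive] at h10
  rw [← h10]
  congr 1
  have : (stabilizer T a) = (stabilizer G a).subgroupOf T := by
    ext x; rfl
  rw [this, ← inf_subgroupOf_right]
  exact (Nat.card_congr (subgroupOfEquivOfLe inf_le_right).toEquiv)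

theorem rr_le_ten [Finite G] [Finite Ω] (hΩ : Nat.card Ω = 11) {a : Ω} {B Γ : Set Ω}
    (hbad : Bad G a B Γ) (hb : B.ncard = 2) : rr G a B ≤ 10 := by
  obtain ⟨x, hx, hxa⟩ := hbad.ne
  have hB : B = {a, x} := by
    symm
    apply Set.eq_of_subset_of_ncard_le _ _ (Set.toFinite _)
    · rintro y (rfl | rfl)
      · exact hbad.mem
      · exact hx
    · rw [hb, Set.ncard_pair hxa.symm]
  have h1 := card_of_transOn (K := stabilizer G a) (a := x) _ rfl
  have h2 : (orbit (stabilizer G a) x).ncard ≤ 10 := by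
    have h3 : orbit (stabilizer G a) x ⊆ {a}ᶜ := by
      rintro _ ⟨g, rfl⟩
      exact smul_ne_of_mem g.2 hxa
    have h4 := Set.ncard_le_ncard h3
    rwa [Set.ncard_compl, Set.ncard_singleton, hΩ] at h4
  have h5 : stabilizer G x ⊓ stabilizer G a ≤ UU G a B := by
    rintro g ⟨hg1, hg2⟩
    refine ⟨hg2, ?_⟩
    rw [hB]
    change g • ({a, x} : Set Ω) = {a, x}
    rw [Set.smul_set_insert, Set.smul_set_singleton]
    rw [show g • a = a from hg2, show g • x = x from hg1]
  have h6 : Nat.card (stabilizer G x ⊓ stabilizer G a : Subgroup G) ≤ Nat.card (UU G a B) :=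
    Nat.card_le_card_of_injective _ (Subgroup.inclusion_injective h5)
  have h7 : rr G a B * Nat.card (UU G a B) = Nat.card (stabilizer G a) := relIndex_mul_card' UU_le
  rw [h1] at h7
  have hpos : 0 < Nat.card (UU G a B) := Nat.card_pos
  have h8 : rr G a B * Nat.card (UU G a B) ≤ 10 * Nat.card (UU G a B) := by
    rw [h7]
    exact Nat.mul_le_mul h2 h6
  exact Nat.le_of_mul_le_mul_right h8 hpos

/-- Degree eleven, the first case. -/
theorem false_660 [Finite G] [Finite Ω] [FaithfulSMul G Ω] [IsPretransitive G Ω]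
    (hΩ : Nat.card Ω = 11) (T : Subgroup G) [T.Normal] (hT : Nat.card T = 660) (h2T : TwoTr T Ω)
    [IsPretransitive T Ω] {a : Ω} {B Γ : Set Ω} (hbad : Bad G a B Γ) : False := by
  classical
  have hp : (Nat.card Ω).Prime := by rw [hΩ]; norm_num
  have h2 : TwoTr G Ω := by
    intro x y z w hxy hzw
    obtain ⟨n, hn1, hn2⟩ := h2T x y z w hxy hzw
    exact ⟨n, hn1, hn2⟩
  have h1 := hbad.two_mul_le
  have h3 := hbad.add_two_le
  have h4 := hbad.dvd
  have h5 := hbad.dvdB hp
  have h6 := hbad.dvdΓ hp
  have h7 := hbad.dvd_numB h2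
  have h8 := hbad.dvd_numΓ h2
  have h9 := hbad.one_lt
  have hr := hbad.r_mul T h2T
  have hTa : Nat.card (stabilizer G a ⊓ T : Subgroup G) = 60 := by
    have h10 := card_stab_inf (G := G) (Ω := Ω) T a
    rw [hΩ, hT] at h10
    omega
  rw [hTa] at hr
  have hr60 : rr G a B ∣ 60 := ⟨_, hr.symm⟩
  rw [hΩ] at h3 h7 h8
  have hb2 : B.ncard = 2 → rr G a B ≤ 10 := rr_le_ten hΩ hbad
  set r := rr G a B with hrdef
  set b := B.ncard with hb
  set g := Γ.ncard with hg
  clear_value b g
  have hcases : 30 ∣ r := by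
    have hrdiv : r ∈ Nat.divisors 60 := Nat.mem_divisors.2 ⟨hr60, by norm_num⟩
    have hd : Nat.divisors 60 = {1, 2, 3, 4, 5, 6, 10, 12, 15, 20, 30, 60} := by decide
    rw [hd] at hrdiv
    simp only [Finset.mem_insert, Finset.mem_singleton] at hrdiv
    have hb' : b = 2 ∨ b = 3 ∨ b = 4 := by omega
    have hg' : g = 4 ∨ g = 5 ∨ g = 6 ∨ g = 7 ∨ g = 8 ∨ g = 9 := by omega
    rcases hb' with rfl | rfl | rfl
    · have := hb2 rfl
      rcases hg' with rfl | rfl | rfl | rfl | rfl | rfl <;> omega
    · rcases hg' with rfl | rfl | rfl | rfl | rfl | rfl <;> omega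
    · rcases hg' with rfl | rfl | rfl | rfl | rfl | rfl <;> omega
  -- `U` is a small 2-group
  have hidx := index_dvd_two hΩ T (Or.inl hT)
  have hH := index_mul_card T
  have hG : Nat.card G = Nat.card Ω * Nat.card (stabilizer G a) := by
    rw [← index_stabilizer_of_transitive G a, index_mul_card]
  have hrU : r * Nat.card (UU G a B) = Nat.card (stabilizer G a) := relIndex_mul_card' UU_le
  rw [hT, hG, hΩ] at hH
  have hi : T.index = 1 ∨ T.index = 2 := (Nat.dvd_prime Nat.prime_two).1 hidx
  obtain ⟨k, hk⟩ := hcases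
  have hUH : Nat.card (UU G a B) ≠ 0 := Nat.card_pos.ne'
  set u := Nat.card (UU G a B) with hu
  have h2 : Fact (Nat.Prime 2) := ⟨Nat.prime_two⟩
  have hkey : (u ∣ 2 ∧ Nat.card (stabilizer G a) = 60) ∨ (u ∣ 4 ∧ Nat.card (stabilizer G a) = 120) := by
    rcases hi with hi | hi
    · left
      rw [hi] at hH
      have h12 : Nat.card (stabilizer G a) = 60 := by omega
      refine ⟨⟨k, ?_⟩, h12⟩
      rw [h12, hk] at hrU
      have : 30 * (u * k) = 30 * 2 := by rw [← hrU.trans (show 60 = 30 * 2 by norm_num)]; ring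
      exact (Nat.eq_of_mul_eq_mul_left (by norm_num) this).symm
    · right
      rw [hi] at hH
      have h12 : Nat.card (stabilizer G a) = 120 := by omega
      refine ⟨⟨k, ?_⟩, h12⟩
      rw [h12, hk] at hrU
      have : 30 * (u * k) = 30 * 4 := by rw [← hrU.trans (show 120 = 30 * 4 by norm_num)]; ring
      exact (Nat.eq_of_mul_eq_mul_left (by norm_num) this).symm
  have hpg : IsPGroup 2 ((UU G a B).subgroupOf (stabilizer G a)) := by
    have h13 : Nat.card ((UU G a B).subgroupOf (stabilizer G a)) = u :=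
      Nat.card_congr (subgroupOfEquivOfLe UU_le).toEquiv
    have h14 : u ∣ 2 ^ 2 := by
      rcases hkey with ⟨h, -⟩ | ⟨h, -⟩
      · exact h.trans (by norm_num)
      · exact h
    obtain ⟨j, -, hj⟩ := (Nat.dvd_prime_pow Nat.prime_two).1 h14
    exact IsPGroup.of_card (h13.trans hj)
  obtain ⟨S, hS⟩ := hpg.exists_le_sylow
  set S' : Subgroup G := (S : Subgroup (stabilizer G a)).map (stabilizer G a).subtype with hS'
  have hS'card : Nat.card S' = Nat.card S :=
    (Nat.card_congr ((S : Subgroup (stabilizer G a)).equivMapOfInjective _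
      (stabilizer G a).subtype_injective).toEquiv).symm
  have hUS : UU G a B ≤ S' := by
    intro x hx
    exact ⟨⟨x, UU_le hx⟩, hS (show (⟨x, UU_le hx⟩ : stabilizer G a) ∈
      (UU G a B).subgroupOf (stabilizer G a) from hx), rfl⟩
  obtain ⟨n, hn⟩ := IsPGroup.iff_card.1 S.isPGroup'
  rcases hbad.max S' hUS (map_subtype_le _) with h15 | h15
  · have h16 : Nat.card S = u := by rw [← hS'card, h15]; rfl
    rcases hkey with ⟨h17, h18⟩ | ⟨h17, h18⟩
    · have h19 : 2 ^ 2 ∣ Nat.card S := S.pow_dvd_card_of_pow_dvd_card (by rw [h18]; norm_num)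
      rw [h16] at h19
      have := (Nat.le_of_dvd (by norm_num) (h19.trans h17))
      omega
    · have h19 : 2 ^ 3 ∣ Nat.card S := S.pow_dvd_card_of_pow_dvd_card (by rw [h18]; norm_num)
      rw [h16] at h19
      have := (Nat.le_of_dvd (by norm_num) (h19.trans h17))
      omega
  · have h16 : Nat.card S = Nat.card (stabilizer G a) := by rw [← hS'card, h15]
    have h20 : 3 ∣ Nat.card (stabilizer G a) := by
      rcases hkey with ⟨-, h⟩ | ⟨-, h⟩ <;> rw [h] <;> norm_num
    rw [← h16, hn] at h20
    have := Nat.Prime.dvd_of_dvd_pow (by norm_num) h20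
    omega

/-- A simple group of order 7920 in degree eleven is sharply 4-transitive. -/
theorem four_of_7920 [Finite G] [Finite Ω] [FaithfulSMul G Ω] (hΩ : Nat.card Ω = 11)
    (T : Subgroup G) [IsPretransitive T Ω] (hT : Nat.card T = 7920)
    (hns : ¬ Group.IsSolvable T) :
    (∀ f f' : Fin 4 ↪ Ω, ∃ t ∈ T, ∀ i, t • f i = f' i) ∧
      ∀ (f : Fin 4 ↪ Ω), ∀ t ∈ T, (∀ i, t • f i = f i) → t = 1 := by
  classical
  have := Fintype.ofFinite Ω
  have hcard : Fintype.card Ω = 11 := by rw [← Nat.card_eq_fintype_card, hΩ]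
  let φ : T →* Equiv.Perm Ω := (MulAction.toPermHom G Ω).comp T.subtype
  have hφ : Function.Injective φ := by
    intro x y hxy
    apply Subtype.ext
    apply FaithfulSMul.eq_of_smul_eq_smul (α := Ω)
    intro c
    exact DFunLike.congr_fun hxy c
  have htr : IsPretransitive φ.range Ω := by
    constructor
    intro x y
    obtain ⟨t, ht⟩ := exists_smul_eq T x y
    exact ⟨⟨φ t, t, rfl⟩, ht⟩
  have e : T ≃* φ.range := MonoidHom.ofInjective hφ
  have hcardr : Nat.card φ.range = 7920 := by rw [← hT]; exact (Nat.card_congr e.toEquiv).symm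
  have hns' : ¬ Group.IsSolvable φ.range := fun h =>
    hns (Group.isSolvable_of_isSolvable_injective (f := e.toMonoidHom) e.injective)
  have hA : ¬ alternatingGroup Ω ≤ φ.range := by
    intro h
    have h1 := card_dvd_of_le h
    have hnt : Nontrivial Ω := by
      rw [← Finite.one_lt_card_iff_nontrivial, hΩ]; norm_num
    have h2 := two_mul_nat_card_alternatingGroup (α := Ω)
    rw [Nat.card_perm, hΩ] at h2
    rw [hcardr] at h1
    have h3 : 2 * Nat.card (alternatingGroup Ω) ∣ 2 * 7920 := Nat.mul_dvd_mul_left 2 h1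
    rw [h2] at h3
    revert h3
    decide
  rcases Cfsg.Agent.S0679.result hcard φ.range hns' hA with ⟨h1, h2⟩ | ⟨⟨e'⟩⟩
  · constructor
    · intro f f'
      have h3 : IsPretransitive φ.range (Fin 4 ↪ Ω) := h1
      obtain ⟨⟨_, t, rfl⟩, ht⟩ := exists_smul_eq φ.range f f'
      refine ⟨t, t.2, fun i => ?_⟩
      have := DFunLike.congr_fun ht i
      exact this
    · intro f t ht hf
      have h3 : (⟨φ ⟨t, ht⟩, ⟨t, ht⟩, rfl⟩ : φ.range) ∈ stabilizer φ.range f := by
        rw [mem_stabilizer_iff]
        ext i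
        exact hf i
      rw [h2 f, mem_bot] at h3
      have h4 : φ ⟨t, ht⟩ = 1 := congrArg Subtype.val h3
      have h5 : (⟨t, ht⟩ : T) = 1 := hφ (h4.trans (map_one φ).symm)
      exact congrArg Subtype.val h5
  · exfalso
    have : Fact (Nat.Prime 11) := ⟨by norm_num⟩
    have h3 := Nat.card_congr e'.toEquiv
    have h4 := Cfsg.Agent.ClassicalGeometry.PSL2Basic.card_PSL2_odd (F := ZMod 11)
      (by rw [ZMod.card]; decide)
    rw [← h3, hcardr, ZMod.card] at h4
    norm_num at h4

/-- Degree eleven, order 7920. -/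
theorem false_7920 [Finite G] [Finite Ω] [FaithfulSMul G Ω] [IsPretransitive G Ω]
    (hΩ : Nat.card Ω = 11) (T : Subgroup G) [hTn : T.Normal] (hT : Nat.card T = 7920)
    (hns : ¬ Group.IsSolvable T) (h2T : TwoTr T Ω)
    [IsPretransitive T Ω] {a : Ω} {B Γ : Set Ω} (hbad : Bad G a B Γ) : False := by
  classical
  obtain ⟨h4t, hsharp⟩ := four_of_7920 hΩ T hT hns
  have hp : (Nat.card Ω).Prime := by rw [hΩ]; norm_num
  have h2 : TwoTr G Ω := by
    intro x y z w hxy hzw
    obtain ⟨n, hn1, hn2⟩ := h2T x y z w hxy hzw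
    exact ⟨n, hn1, hn2⟩
  have h1 := hbad.two_mul_le
  have h3 := hbad.add_two_le
  have h4 := hbad.dvd
  have h5 := hbad.dvdB hp
  have h6 := hbad.dvdΓ hp
  have h7 := hbad.dvd_numB h2
  have hmt : IsMultiplyPretransitive T Ω 4 := ⟨fun f f' => by
    obtain ⟨t, ht, h⟩ := h4t f f'
    exact ⟨⟨t, ht⟩, by ext i; exact h i⟩⟩
  have h9 := hbad.le_of_multi 4 (by rw [hΩ]; norm_num) T hmt
  have hr := hbad.r_mul T h2T
  have hTa : Nat.card (stabilizer G a ⊓ T : Subgroup G) = 720 := by
    have h10 := card_stab_inf (G := G) (Ω := Ω) T a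
    rw [hΩ, hT] at h10
    omega
  rw [hTa] at hr
  rw [hΩ] at h3 h7
  have hb4 : B.ncard = 4 := by omega
  have hg8 : Γ.ncard = 8 := by
    obtain ⟨c, hc⟩ := h4
    rw [hb4] at hc h1
    omega
  rw [hb4] at h7
  rw [hg8] at h6
  -- the three other points
  have hB3 : (B \ {a}).ncard = 3 := by
    rw [Set.ncard_sdiff_singleton_of_mem hbad.mem, hb4]
  obtain ⟨x, y, z, hxy, hxz, hyz, hxyz⟩ := Set.ncard_eq_three.1 hB3
  have hxB : x ∈ B \ {a} := by rw [hxyz]; simp
  have hyB : y ∈ B \ {a} := by rw [hxyz]; simp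
  have hzB : z ∈ B \ {a} := by rw [hxyz]; simp
  have hxa : x ≠ a := hxB.2
  have hya : y ≠ a := hyB.2
  have hza : z ≠ a := hzB.2
  have hBeq : ∀ w, w ∈ B ↔ w = a ∨ w = x ∨ w = y ∨ w = z := by
    intro w
    constructor
    · intro hw
      by_cases hwa : w = a
      · exact Or.inl hwa
      · right
        have : w ∈ B \ {a} := ⟨hw, hwa⟩
        rw [hxyz] at this
        exact this
    · rintro (rfl | rfl | rfl | rfl)
      · exact hbad.mem
      · exact hxB.1
      · exact hyB.1
      · exact hzB.1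
  set U0 : Subgroup G := UU G a B ⊓ T with hU0
  -- pointwise stabiliser
  have hfix : ∀ t ∈ T, t • a = a → t • x = x → t • y = y → t • z = z → t = 1 := by
    intro t ht h1 h2 h3 h4
    refine hsharp ⟨![a, x, y, z], ?_⟩ t ht ?_
    · intro i j h
      fin_cases i <;> fin_cases j <;>
        simp [hxa, hya, hza, hxy, hxz, hyz, hxa.symm, hya.symm, hza.symm, hxy.symm, hxz.symm,
          hyz.symm] at h ⊢
    · intro i
      fin_cases i
      · exact h1
      · exact h2
      · exact h3
      · exact h4
  -- an element of order three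
  obtain ⟨t, htT, ht⟩ := h4t ⟨![a, x, y, z], by
      intro i j h
      fin_cases i <;> fin_cases j <;>
        simp [hxa, hya, hza, hxy, hxz, hyz, hxa.symm, hya.symm, hza.symm, hxy.symm, hxz.symm,
          hyz.symm] at h ⊢⟩ ⟨![a, y, z, x], by
      intro i j h
      fin_cases i <;> fin_cases j <;>
        simp [hxa, hya, hza, hxy, hxz, hyz, hxa.symm, hya.symm, hza.symm, hxy.symm, hxz.symm,
          hyz.symm] at h ⊢⟩
  have hta : t • a = a := ht 0
  have htx : t • x = y := ht 1
  have hty : t • y = z := ht 2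
  have htz : t • z = x := ht 3
  have htU : t ∈ U0 := by
    refine ⟨⟨hta, ?_⟩, htT⟩
    change t • B = B
    have hsub : t • B ⊆ B := by
      rintro _ ⟨w, hw, rfl⟩
      change t • w ∈ B
      rcases (hBeq w).1 hw with rfl | rfl | rfl | rfl
      · rw [hta]; exact hw
      · rw [htx]; exact hyB.1
      · rw [hty]; exact hzB.1
      · rw [htz]; exact hxB.1
    apply Set.eq_of_subset_of_ncard_le hsub _ (Set.toFinite _)
    rw [Set.ncard_smul_set]
  have ht3 : t ^ 3 = 1 := by
    apply hfix _ (T.pow_mem htT 3)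
    · rw [pow_succ, pow_two, mul_smul, mul_smul, hta, hta, hta]
    · rw [pow_succ, pow_two, mul_smul, mul_smul, htx, hty, htz]
    · rw [pow_succ, pow_two, mul_smul, mul_smul, hty, htz, htx]
    · rw [pow_succ, pow_two, mul_smul, mul_smul, htz, htx, hty]
  have ht1 : t ≠ 1 := by
    intro h
    rw [h, one_smul] at htx
    exact hxy htx
  have hord : orderOf t = 3 := orderOf_eq_prime ht3 ht1
  have h3U0 : 3 ∣ Nat.card U0 := by
    have : orderOf (⟨t, htU⟩ : U0) = 3 := by rw [← hord]; exact Subgroup.orderOf_mk t htU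
    rw [← this]
    exact orderOf_dvd_natCard _
  have hU06 : Nat.card U0 ≤ 6 := by
    have hc : Nat.card (Fin 3 ↪ (B \ {a} : Set Ω)) = 6 := by
      have := Fintype.ofFinite (B \ {a} : Set Ω)
      have h20 : Fintype.card (B \ {a} : Set Ω) = 3 := by
        rw [← Nat.card_eq_fintype_card, Nat.card_coe_set_eq, hB3]
      rw [Nat.card_eq_fintype_card, Fintype.card_embedding_eq, Fintype.card_fin, h20]
      decide
    rw [← hc]
    let base : Fin 3 → (B \ {a} : Set Ω) := ![⟨x, hxB⟩, ⟨y, hyB⟩, ⟨z, hzB⟩]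
    have hbase : Function.Injective base := by
      intro i j h
      fin_cases i <;> fin_cases j <;>
        simp [base, hxy, hxz, hyz, hxy.symm, hxz.symm, hyz.symm] at h ⊢
    refine Nat.card_le_card_of_injective (fun u : U0 => (⟨fun i =>
      ⟨(u : G) • (base i : Ω), UU_smul_memB u.2.1 (base i).2.1,
        smul_ne_of_mem (UU_le u.2.1) (base i).2.2⟩, ?_⟩ : Fin 3 ↪ (B \ {a} : Set Ω))) ?_
    · intro i j h
      have h21 : (u : G) • (base i : Ω) = (u : G) • (base j : Ω) := congrArg Subtype.val h
      exact hbase (Subtype.ext (MulAction.injective _ h21))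
    · intro u v huv
      have h22 : ∀ i, (u : G) • (base i : Ω) = (v : G) • (base i : Ω) := fun i =>
        congrArg Subtype.val (DFunLike.congr_fun huv i)
      have h23 : (v : G)⁻¹ * (u : G) = 1 := by
        apply hfix _ (T.mul_mem (T.inv_mem v.2.2) u.2.2)
        · rw [mul_smul, show (u : G) • a = a from UU_le u.2.1, inv_smul_eq_iff]
          exact (show (v : G) • a = a from UU_le v.2.1).symm
        · rw [mul_smul, inv_smul_eq_iff]; exact h22 0
        · rw [mul_smul, inv_smul_eq_iff]; exact h22 1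
        · rw [mul_smul, inv_smul_eq_iff]; exact h22 2
      apply Subtype.ext
      rw [inv_mul_eq_one] at h23
      exact h23.symm
  have hU0cases : Nat.card U0 = 3 ∨ Nat.card U0 = 6 := by
    have h0 : 0 < Nat.card U0 := Nat.card_pos
    omega
  -- the Sylow 3-subgroup of `U0`
  have hf3 : Fact (Nat.Prime 3) := ⟨by norm_num⟩
  obtain ⟨P⟩ : Nonempty (Sylow 3 U0) := inferInstance
  have hPcard : Nat.card P = 3 := by
    obtain ⟨n, hn⟩ := IsPGroup.iff_card.1 P.isPGroup'
    have h24 : Nat.card P ∣ Nat.card U0 := card_subgroup_dvd_card _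
    have h25 : 3 ^ 1 ∣ Nat.card P := P.pow_dvd_card_of_pow_dvd_card (by rwa [pow_one])
    have h26 : Nat.card P ≤ 6 := (Nat.le_of_dvd Nat.card_pos h24).trans hU06
    rw [hn] at h25 h26 ⊢
    have hn2 : n < 2 := by
      by_contra hcon
      push Not at hcon
      have := Nat.pow_le_pow_right (show 0 < 3 by norm_num) hcon
      omega
    have hn1 : 1 ≤ n := by
      by_contra hcon
      have : n = 0 := by omega
      subst this
      norm_num at h25
    have : n = 1 := by omega
    rw [this, pow_one]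
  have huniq : ∀ u : U0, u ^ 3 = 1 → u ∈ P := by
    have h27 : Nat.card (Sylow 3 U0) = 1 := by
      have h28 := card_sylow_modEq_one 3 U0
      have h29 : Nat.card (Sylow 3 U0) ∣ (P : Subgroup U0).index := P.card_dvd_index
      have h30 : (P : Subgroup U0).index * Nat.card P = Nat.card U0 := index_mul_card _
      rw [hPcard] at h30
      have h31 : (P : Subgroup U0).index = 1 ∨ (P : Subgroup U0).index = 2 := by omega
      have h32 : Nat.card (Sylow 3 U0) = 1 ∨ Nat.card (Sylow 3 U0) = 2 := by
        rcases h31 with h | h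
        · rw [h] at h29
          exact Or.inl (Nat.dvd_one.1 h29)
        · rw [h] at h29
          exact (Nat.dvd_prime Nat.prime_two).1 h29
      unfold Nat.ModEq at h28
      omega
    intro u hu
    have hss : Subsingleton (Sylow 3 U0) := (Nat.card_eq_one_iff_unique.1 h27).1
    have hz : IsPGroup 3 (zpowers u) := by
      rcases eq_or_ne u 1 with rfl | hne
      · rw [zpowers_one_eq_bot]
        exact IsPGroup.of_bot
      · exact IsPGroup.of_card (n := 1) (by rw [Nat.card_zpowers, orderOf_eq_prime hu hne, pow_one])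
    obtain ⟨Q, hQ⟩ := hz.exists_le_sylow
    have : Q = P := Subsingleton.elim _ _
    rw [← this]
    exact hQ (mem_zpowers u)
  have hcube : ∀ u : U0, u ∈ P → u ^ 3 = 1 := by
    intro u hu
    have h := pow_card_eq_one' (x := (⟨u, hu⟩ : (P : Subgroup U0)))
    rw [show Nat.card (P : Subgroup U0) = 3 from hPcard] at h
    exact congrArg Subtype.val h
  set Z : Subgroup G := (P : Subgroup U0).map U0.subtype with hZ
  have hZmem : ∀ g : G, g ∈ Z ↔ g ∈ U0 ∧ g ^ 3 = 1 := by
    intro g
    constructor
    · rintro ⟨u, hu, rfl⟩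
      exact ⟨u.2, congrArg Subtype.val (hcube u hu)⟩
    · rintro ⟨h1, h2⟩
      exact ⟨⟨g, h1⟩, huniq ⟨g, h1⟩ (Subtype.ext h2), rfl⟩
  have hZcard : Nat.card Z = 3 := by
    rw [← hPcard]
    exact (Nat.card_congr ((P : Subgroup U0).equivMapOfInjective _
      U0.subtype_injective).toEquiv).symm
  have hUN : UU G a B ≤ stabilizer G a ⊓ normalizer (Z : Set G) := by
    refine le_inf UU_le ?_
    intro u hu
    rw [mem_normalizer_iff]
    intro g
    rw [hZmem, hZmem]
    have hconj : (u * g * u⁻¹) ^ 3 = u * g ^ 3 * u⁻¹ := by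
      simp only [pow_succ, pow_zero]
      group
    constructor
    · rintro ⟨⟨h1, h2⟩, h3⟩
      refine ⟨⟨(UU G a B).mul_mem ((UU G a B).mul_mem hu h1) ((UU G a B).inv_mem hu),
        hTn.conj_mem g h2 u⟩, ?_⟩
      rw [hconj, h3, mul_one, mul_inv_cancel]
    · rintro ⟨⟨h1, h2⟩, h3⟩
      have h4 : u⁻¹ * (u * g * u⁻¹) * u⁻¹⁻¹ = g := by group
      refine ⟨⟨?_, ?_⟩, ?_⟩
      · rw [← h4, inv_inv]
        exact (UU G a B).mul_mem ((UU G a B).mul_mem ((UU G a B).inv_mem hu) h1) hu
      · rw [← h4]
        exact hTn.conj_mem _ h2 u⁻¹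
      · rw [hconj, mul_inv_eq_one] at h3
        have : u * g ^ 3 = u * 1 := by rw [h3, mul_one]
        exact mul_left_cancel this
  have hZT : Z ≤ stabilizer G a ⊓ T := by
    intro g hg
    exact ⟨UU_le ((hZmem g).1 hg).1.1, ((hZmem g).1 hg).1.2⟩
  rcases hbad.max _ hUN inf_le_left with h33 | h33
  · -- the Sylow 3-subgroup of `T_a` normalises `Z`
    have hpgZ : IsPGroup 3 (Z.subgroupOf (stabilizer G a ⊓ T)) := by
      apply IsPGroup.of_card (n := 1)
      rw [pow_one, ← hZcard]
      exact Nat.card_congr (subgroupOfEquivOfLe hZT).toEquiv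
    obtain ⟨S, hS⟩ := hpgZ.exists_le_sylow
    have hScard : Nat.card S = 3 ^ 2 := by
      obtain ⟨n, hn⟩ := IsPGroup.iff_card.1 S.isPGroup'
      have h34 : 3 ^ 2 ∣ Nat.card S := S.pow_dvd_card_of_pow_dvd_card (by rw [hTa]; norm_num)
      have h35 : Nat.card S ∣ 720 := by rw [← hTa]; exact card_subgroup_dvd_card _
      rw [hn] at h34 h35 ⊢
      have h36 : n < 3 := by
        by_contra hcon
        push Not at hcon
        have h37 : 3 ^ 3 ∣ 720 := (pow_dvd_pow 3 hcon).trans h35
        revert h37; decide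
      have h38 : 2 ≤ n := by
        by_contra hcon
        have h39 := Nat.le_of_dvd (by positivity) h34
        have h40 : 3 ^ n ≤ 3 ^ 1 := Nat.pow_le_pow_right (by norm_num) (by omega)
        omega
      have : n = 2 := by omega
      rw [this]
    have hcommS := (IsPGroup.isMulCommutative_of_card_eq_prime_sq (p := 3) hScard).is_comm.comm
    set S' : Subgroup G := (S : Subgroup (stabilizer G a ⊓ T : Subgroup G)).map
      (stabilizer G a ⊓ T).subtype with hS'
    have hSN : S' ≤ stabilizer G a ⊓ normalizer (Z : Set G) := by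
      rintro _ ⟨s, hs, rfl⟩
      refine ⟨s.2.1, ?_⟩
      have hcomm : ∀ g ∈ Z, (s : G) * g = g * s := by
        intro g hg
        have hgS : (⟨g, hZT hg⟩ : (stabilizer G a ⊓ T : Subgroup G)) ∈ S :=
          hS (show (⟨g, hZT hg⟩ : (stabilizer G a ⊓ T : Subgroup G)) ∈
            Z.subgroupOf (stabilizer G a ⊓ T) from hg)
        have := hcommS ⟨s, hs⟩ ⟨_, hgS⟩
        have h41 := congrArg Subtype.val this
        exact congrArg Subtype.val h41
      change (s : G) ∈ normalizer (Z : Set G)
      rw [mem_normalizer_iff]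
      intro g
      constructor
      · intro hg
        rw [hcomm g hg, mul_inv_cancel_right]
        exact hg
      · intro hg
        have h42 := hcomm _ hg
        have h43 : g = (s : G) * g * (s : G)⁻¹ := by
          have : (s : G) * ((s : G) * g * (s : G)⁻¹) = (s : G) * g := by
            rw [h42]; group
          exact (mul_left_cancel this).symm
        rw [h43]
        exact hg
    have hSU : S' ≤ U0 := by
      intro g hg
      have h44 := hSN hg
      rw [h33] at h44
      obtain ⟨s, hs, rfl⟩ := hg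
      exact ⟨h44, s.2.2⟩
    have h45 := card_dvd_of_le hSU
    have h46 : Nat.card S' = 9 := by
      rw [show (9 : ℕ) = 3 ^ 2 by norm_num, ← hScard]
      exact (Nat.card_congr ((S : Subgroup (stabilizer G a ⊓ T : Subgroup G)).equivMapOfInjective _
        (stabilizer G a ⊓ T).subtype_injective).toEquiv).symm
    rw [h46] at h45
    have := Nat.le_of_dvd Nat.card_pos h45
    omega
  · -- `Z` is normal in `H`
    have hZpg : IsPGroup 3 Z := IsPGroup.of_card (n := 1) (by rw [hZcard, pow_one])
    have hfixc := hZpg.card_modEq_card_fixedPoints Ω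
    rw [hΩ] at hfixc
    have hexc : ∃ c : Ω, c ≠ a ∧ ∀ g ∈ Z, g • c = c := by
      by_contra hcon
      push Not at hcon
      have h47 : fixedPoints Z Ω ⊆ {a} := by
        intro c hc
        by_contra hca
        obtain ⟨g, hg, hgc⟩ := hcon c hca
        exact hgc (hc ⟨g, hg⟩)
      have h48 := Set.ncard_le_ncard h47
      rw [Set.ncard_singleton] at h48
      rw [Nat.card_coe_set_eq] at hfixc
      unfold Nat.ModEq at hfixc
      omega
    obtain ⟨c, hca, hc⟩ := hexc
    have hall : ∀ g ∈ Z, ∀ w : Ω, g • w = w := by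
      intro g hg w
      by_cases hwa : w = a
      · rw [hwa]; exact (hZT hg).1
      · obtain ⟨h, hh1, hh2⟩ := h2 a c a w hca.symm (Ne.symm hwa)
        have h49 : h ∈ stabilizer G a ⊓ normalizer (Z : Set G) := by rw [h33]; exact hh1
        have h50 : h⁻¹ * g * h ∈ Z := by
          have := (mem_normalizer_iff.1 h49.2) (h⁻¹ * g * h)
          apply this.2
          have h51 : h * (h⁻¹ * g * h) * h⁻¹ = g := by group
          rw [h51]; exact hg
        have h52 := hc _ h50
        rw [mul_smul, mul_smul, hh2, inv_smul_eq_iff, hh2] at h52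
        exact h52
    apply ht1
    have htZ : t ∈ Z := (hZmem t).2 ⟨htU, ht3⟩
    apply FaithfulSMul.eq_of_smul_eq_smul (α := Ω)
    intro w
    rw [one_smul]
    exact hall t htZ w

end Cfsg.Agent.H623.PD
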