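import Cfsg.Agent.H514.DP.Core
import Cfsg.Agent.H514.DP.TTwo
import Cfsg.Agent.H541.CntPsu
import Cfsg.Agent.H724.UThreeE
import Cfsg.Agent.LieClassical.HermPerfect
import Cfsg.Agent.S0281
import Cfsg.Agent.S0278
import Cfsg.Agent.S2334

/-!
# S2454: the groups `PSU_3(q)`, `q ≥ 3` (helper623)

* `p ∣ q (q² - 1)`: `y = diag(1, c, c⁻¹)`, `c` of order `q + 1`, lies in `SU_2(q) ≅ SL_2(q)` and is a product of three
  `p`-elements; `|C(y)| ≤ (q+1)²`, criterion K with `k = 9`.
* otherwise `p ∣ q² - q + 1`: `y` of order `p`, `|C(y)| ≤ q³ + 1`, criterion K with `k = 25`.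
-/

set_option autoImplicit false
set_option linter.unusedSectionVars false

namespace Cfsg.Agent.H623.DpPsu3

open Matrix Subgroup Cfsg Cfsg.Agent.H514.DP
open Cfsg.Agent.H724.UThree
open Cfsg.Agent.LieClassical.HermSiegel
open Cfsg.Agent.LieClassical.GUOrder (ext1)

/-- trace `± 2` -/
theorem pow_of_trace {K : Type*} [Field K] {r : ℕ} [CharP K r] (hr : r.Prime) (M : SpecialLinearGroup (Fin 2) K)
    (hM : M.1.trace ^ 2 = 4) : M ^ (2 * r) = 1 := by
  have hrF : Fact r.Prime := ⟨hr⟩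
  have hdet : M.1 0 0 * M.1 1 1 - M.1 0 1 * M.1 1 0 = 1 := by
    rw [← Matrix.det_fin_two]; exact M.2
  have htr : M.1.trace = M.1 0 0 + M.1 1 1 := Matrix.trace_fin_two _
  rw [htr] at hM
  -- the sign
  have h1 : (M.1 0 0 + M.1 1 1 - 2) * (M.1 0 0 + M.1 1 1 + 2) = 0 := by linear_combination hM
  obtain ⟨ε, hε, hε2⟩ : ∃ ε : K, M.1 0 0 + M.1 1 1 = 2 * ε ∧ ε ^ 2 = 1 := by
    rcases mul_eq_zero.1 h1 with h | h
    · exact ⟨1, by linear_combination h, by ring⟩
    · exact ⟨-1, by linear_combination h, by ring⟩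
  have h2 : (M.1 - ε • (1 : Matrix (Fin 2) (Fin 2) K)) ^ 2 = 0 := by
    rw [pow_two]
    ext i j
    fin_cases i <;> fin_cases j <;>
      simp only [Matrix.mul_apply, Fin.sum_univ_two, Matrix.sub_apply, Matrix.smul_apply, Matrix.one_apply,
        Matrix.zero_apply, Fin.zero_eta, Fin.mk_one, Fin.isValue, if_true, if_false, one_ne_zero, zero_ne_one,
        smul_eq_mul, mul_one, mul_zero, sub_zero]
    · linear_combination M.1 0 0 * hε - hdet + hε2
    · linear_combination M.1 0 1 * hε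
    · linear_combination M.1 1 0 * hε
    · linear_combination M.1 1 1 * hε - hdet + hε2
  have h3 : (M.1 - ε • (1 : Matrix (Fin 2) (Fin 2) K)) ^ r = 0 := by
    obtain ⟨k, hk⟩ := Nat.exists_eq_add_of_le' hr.two_le
    rw [hk, pow_add, h2, mul_zero]
  have h4 : M.1 ^ r = (ε ^ r) • (1 : Matrix (Fin 2) (Fin 2) K) := by
    have hc : Commute M.1 (ε • (1 : Matrix (Fin 2) (Fin 2) K)) := by
      show M.1 * (ε • (1 : Matrix (Fin 2) (Fin 2) K)) = (ε • (1 : Matrix (Fin 2) (Fin 2) K)) * M.1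
      rw [Matrix.mul_smul, Matrix.smul_mul, mul_one, one_mul]
    have h5 := sub_pow_char_of_commute r hc
    rw [h3] at h5
    have h6 := (sub_eq_zero.1 h5.symm)
    rw [h6, smul_pow, one_pow]
  apply Subtype.ext
  rw [val_pow, val_one, mul_comm, pow_mul, h4, smul_pow, one_pow, ← pow_mul, mul_comm r 2, pow_mul, hε2, one_pow, one_smul]

variable {F : Type*} [Field F] [Fintype F] {q : ℕ}

theorem mat_pow {n : ℕ} (g : SU n F q) (k : ℕ) : mat (g ^ k) = mat g ^ k := by
  induction k with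
  | zero => rw [pow_zero, pow_zero, mat_one]
  | succ k ih => rw [pow_succ, pow_succ, mat_mul, ih]

theorem mat_dg (hF : Fintype.card F = q ^ 2) (c : F) (hc : c * c ^ q = 1) : mat (dg hF c hc) = !![c, 0; 0, c ^ q] := rfl

theorem mat_dg_pow (hF : Fintype.card F = q ^ 2) (c : F) (hc : c * c ^ q = 1) (k : ℕ) :
    mat (dg hF c hc ^ k) 0 0 = c ^ k ∧ mat (dg hF c hc ^ k) 0 1 = 0 := by
  induction k with
  | zero =>
    rw [pow_zero, mat_one]
    simp
  | succ k ih =>
    rw [pow_succ, mat_mul, mat_dg]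
    simp [Matrix.mul_apply, Fin.sum_univ_two, ih.1, ih.2, pow_succ]

/-- the order of `diag(c, c⁻¹)` -/
theorem dvd_of_dg_pow (hF : Fintype.card F = q ^ 2) (c : F) (hc : c * c ^ q = 1) (hcg : ∀ k : ℕ, c ^ k = 1 → q + 1 ∣ k)
    {k : ℕ} (h : dg hF c hc ^ k = 1) : q + 1 ∣ k := by
  apply hcg
  have h1 := (mat_dg_pow hF c hc k).1
  rw [h, mat_one] at h1
  simpa using h1.symm

theorem charP_of_dvd (hF : Fintype.card F = q ^ 2) {p : ℕ} (hp : p.Prime) (h : p ∣ q) : CharP F p := by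
  obtain ⟨r, hr⟩ := CharP.exists F
  have hrp : r.Prime := by
    rcases CharP.char_is_prime_or_zero F r with h | h
    · exact h
    · subst h
      have := CharP.charP_to_charZero F
      exact absurd (Nat.card_eq_zero.2 (Or.inr (inferInstance : Infinite F))) (by rw [Nat.card_eq_fintype_card]; exact Fintype.card_ne_zero)
  have : Fact r.Prime := ⟨hrp⟩
  obtain ⟨k, -, hk⟩ := FiniteField.card F r
  have h1 : p ∣ r ^ (k : ℕ) := by
    rw [← hk, hF]
    exact h.trans (dvd_pow_self q two_ne_zero)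
  have h2 := (Nat.prime_dvd_prime_iff_eq hp hrp).1 (hp.dvd_of_dvd_pow h1)
  rw [h2]
  exact hr

/-- `diag(c, c⁻¹)` is a product of three `p`-elements -/
theorem pe_dg (hF : Fintype.card F = q ^ 2) (hq : 3 ≤ q) {p : ℕ} (hp : p.Prime) (hd : p ∣ q * (q ^ 2 - 1)) (c : F)
    (hc : c * c ^ q = 1) (hcg : ∀ k : ℕ, c ^ k = 1 → q + 1 ∣ k) : PE p 3 (dg hF c hc) := by
  classical
  have hK : Nat.card (FF hF) = q := card_FF hF
  have hKf : Fintype.card (FF hF) = q := by rw [← Nat.card_eq_fintype_card, hK]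
  obtain ⟨φ⟩ := Cfsg.Agent.S0281.result (F := F) (K := FF hF) hF hKf
  obtain ⟨M, hM⟩ : ∃ M, M = φ (dg hF c hc) := ⟨_, rfl⟩
  -- the characteristic
  obtain ⟨r, hr⟩ := CharP.exists (FF hF)
  have hrp : r.Prime := (CharP.char_is_prime_or_zero (FF hF) r).resolve_right (by
    rintro rfl
    have := CharP.charP_to_charZero (FF hF)
    exact absurd (Nat.card_eq_zero.2 (Or.inr (inferInstance : Infinite (FF hF)))) (by omega))
  have hrF : Fact r.Prime := ⟨hrp⟩
  have hrq : ∃ k : ℕ, q = r ^ k := by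
    obtain ⟨k, -, hk⟩ := FiniteField.card (FF hF) r
    exact ⟨k, by rw [← hk, hKf]⟩
  have htr : M.1.trace ^ 2 ≠ 4 := by
    intro h
    have h1 := pow_of_trace hrp M h
    rw [hM, ← map_pow] at h1
    have h2 : dg hF c hc ^ (2 * r) = 1 := φ.injective (by rw [h1, map_one])
    have h3 := dvd_of_dg_pow hF c hc hcg h2
    obtain ⟨k, hk⟩ := hrq
    have hk0 : k ≠ 0 := by
      rintro rfl
      rw [pow_zero] at hk
      omega
    have h4 : (q + 1).Coprime r := by
      rw [Nat.coprime_comm, Nat.Prime.coprime_iff_not_dvd hrp]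
      intro h5
      have h6 : r ∣ q := by rw [hk]; exact dvd_pow_self r hk0
      have h7 : r ∣ 1 := (Nat.dvd_add_right h6).1 h5
      exact hrp.one_lt.ne' (Nat.dvd_one.1 h7)
    have h5 := Nat.le_of_dvd (by norm_num) (h4.dvd_of_dvd_mul_right h3)
    omega
  have h1 : PE p 3 M := by
    rcases (Nat.Prime.dvd_mul hp).1 hd with h | h
    · have h2 : CharP (FF hF) p := by
        obtain ⟨k, hk⟩ := hrq
        rw [hk] at h
        have h3 := (Nat.prime_dvd_prime_iff_eq hp hrp).1 (hp.dvd_of_dvd_pow h)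
        rw [h3]; exact hr
      refine pe_three_of_nonscalar hp (Or.inl h2) M ?_
      rintro a ha
      apply htr
      have h3 := M.2
      rw [ha, Matrix.det_smul, Matrix.det_one, Fintype.card_fin, mul_one] at h3
      rw [ha, Matrix.trace_smul, Matrix.trace_one, Fintype.card_fin, smul_eq_mul]
      push_cast
      linear_combination 4 * h3
    · exact (pe_two_of_trace hp (by rw [hK]; exact h) M htr).mono (by norm_num)
  have h2 := h1.map φ.symm.toMonoidHom
  rw [hM] at h2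
  simpa using h2

/-- the centralizer of `diag(1, c, c⁻¹)` -/
theorem card_cent_dg (hF : Fintype.card F = q ^ 2) (hq : 3 ≤ q) (c : F) (hc : c * c ^ q = 1)
    (hcg : ∀ k : ℕ, c ^ k = 1 → q + 1 ∣ k) :
    Nat.card (centralizer ({blk F q (dg hF c hc)} : Set (SU 3 F q))) ≤ (q + 1) ^ 2 := by
  classical
  have hc0 : c ≠ 0 := left_ne_zero_of_mul_eq_one hc
  have hc1 : c ≠ 1 := by
    intro h
    have := Nat.le_of_dvd (by norm_num) (hcg 1 (by rw [h, one_pow]))
    omega
  have hc1' : c ^ q ≠ 1 := by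
    intro h
    rw [h, mul_one] at hc
    exact hc1 hc
  have hc2 : c ≠ c ^ q := by
    intro h
    have h1 : c ^ 2 = 1 := by rw [pow_two]; conv_lhs => rw [show c * c = c * c ^ q by rw [← h]]; exact hc
    have := Nat.le_of_dvd (by norm_num) (hcg 2 h1)
    omega
  -- elements of norm one
  let N := {x : F // x ^ (q + 1) = 1}
  have hN : Nat.card N ≤ q + 1 := by
    rw [Nat.card_eq_fintype_card]
    have h1 : Fintype.card N = (Finset.univ.filter fun x : F => x ^ (q + 1) = 1).card := Fintype.card_subtype _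
    rw [h1]
    calc (Finset.univ.filter fun x : F => x ^ (q + 1) = 1).card ≤ (Polynomial.nthRootsFinset (q + 1) (1 : F)).card := by
          apply Finset.card_le_card
          intro x hx
          rw [Polynomial.mem_nthRootsFinset (by omega)]
          exact (Finset.mem_filter.1 hx).2
      _ ≤ q + 1 := by
          rw [Polynomial.nthRootsFinset]
          exact (Multiset.toFinset_card_le _).trans (Polynomial.card_nthRoots _ _)
  -- the shape of a commuting matrix
  have key : ∀ g ∈ centralizer ({blk F q (dg hF c hc)} : Set (SU 3 F q)), ∀ i j, i ≠ j → mat g i j = 0 := by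
    intro g hg i j hij
    rw [mem_centralizer_singleton_iff] at hg
    have h1 := congrArg mat hg
    rw [mat_mul, mat_mul, mat_blk, mat_dg] at h1
    have h2 := congrFun (congrFun h1 i) j
    have hE : ext1 (1 : F) !![c, 0; 0, c ^ q] = Matrix.diagonal ![1, c, c ^ q] := by
      ext a b
      fin_cases a <;> fin_cases b <;> rfl
    rw [hE, Matrix.mul_diagonal, Matrix.diagonal_mul] at h2
    have h3 : mat g i j * (![1, c, c ^ q] j - ![1, c, c ^ q] i) = 0 := by linear_combination h2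
    rcases mul_eq_zero.1 h3 with h | h
    · exact h
    · exfalso
      rw [sub_eq_zero] at h
      fin_cases i <;> fin_cases j <;> first | exact hij rfl | skip
      all_goals
        simp only [Fin.zero_eta, Fin.mk_one, Fin.reduceFinMk, Matrix.cons_val_zero, Matrix.cons_val_one,
          Matrix.cons_val] at h
      · exact hc1 h
      · exact hc1' h
      · exact hc1 h.symm
      · exact hc2 h.symm
      · exact hc1' h.symm
      · exact hc2 h
  have hdiag : ∀ g ∈ centralizer ({blk F q (dg hF c hc)} : Set (SU 3 F q)), ∀ i, mat g i i ^ (q + 1) = 1 := by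
    intro g hg i
    have h1 := mat_isom g (Pi.single i 1) (Pi.single i 1)
    have h2 : mat g *ᵥ Pi.single i 1 = Pi.single i (mat g i i) := by
      rw [Matrix.mulVec_single_one]
      ext j
      by_cases h : j = i
      · subst h; simp
      · rw [Matrix.col_apply, key g hg j i h, Pi.single_eq_of_ne h]
    rw [h2] at h1
    have h3 : ∀ a : F, hermForm 3 F q (Pi.single i a) (Pi.single i a) = a ^ (q + 1) := by
      intro a
      unfold hermForm
      rw [Finset.sum_eq_single i]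
      · rw [Pi.single_eq_same, pow_succ']
      · intro j _ hj
        rw [Pi.single_eq_of_ne hj, zero_mul]
      · intro h; exact absurd (Finset.mem_univ i) h
    rw [h3, h3, one_pow] at h1
    exact h1
  let f : centralizer ({blk F q (dg hF c hc)} : Set (SU 3 F q)) → N × N := fun g =>
    (⟨mat g.1 0 0, hdiag g.1 g.2 0⟩, ⟨mat g.1 1 1, hdiag g.1 g.2 1⟩)
  have hf : Function.Injective f := by
    rintro ⟨g, hg⟩ ⟨h, hh⟩ hgh
    apply Subtype.ext
    apply mat_ext
    have e0 : mat g 0 0 = mat h 0 0 := congrArg (fun x => (x.1 : N).1) hgh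
    have e1 : mat g 1 1 = mat h 1 1 := congrArg (fun x => (x.2 : N).1) hgh
    have dg' : mat g = Matrix.diagonal fun i => mat g i i := by
      ext i j
      by_cases hij : i = j
      · subst hij; rw [Matrix.diagonal_apply_eq]
      · rw [Matrix.diagonal_apply_ne _ hij, key g hg i j hij]
    have dh' : mat h = Matrix.diagonal fun i => mat h i i := by
      ext i j
      by_cases hij : i = j
      · subst hij; rw [Matrix.diagonal_apply_eq]
      · rw [Matrix.diagonal_apply_ne _ hij, key h hh i j hij]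
    have d1 := mat_det g
    have d2 := mat_det h
    rw [dg', Matrix.det_diagonal, Fin.prod_univ_three] at d1
    rw [dh', Matrix.det_diagonal, Fin.prod_univ_three, ← e0, ← e1] at d2
    have e2 : mat g 2 2 = mat h 2 2 := by
      have h0 : mat g 0 0 * mat g 1 1 ≠ 0 := left_ne_zero_of_mul_eq_one d1
      exact mul_left_cancel₀ h0 (d1.trans d2.symm)
    rw [dg', dh']
    congr 1
    funext i
    fin_cases i
    · exact e0
    · exact e1
    · exact e2
  calc Nat.card (centralizer ({blk F q (dg hF c hc)} : Set (SU 3 F q))) ≤ Nat.card (N × N) :=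
        Nat.card_le_card_of_injective f hf
    _ = Nat.card N * Nat.card N := Nat.card_prod _ _
    _ ≤ (q + 1) * (q + 1) := Nat.mul_le_mul hN hN
    _ = (q + 1) ^ 2 := (pow_two _).symm

theorem minDeg (hF : Fintype.card F = q ^ 2) (hq : 3 ≤ q) : MinDeg (SU 3 F q) (q * (q - 1)) := by
  classical
  intro k ρ hρ hk
  have h1 := Cfsg.Agent.S2334.result 3 q le_rfl (by decide) hF (by
    intro h
    have := (Prod.mk.inj h).2
    omega) k ρ hρ hk
  refine le_trans (le_of_eq ?_) h1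
  obtain ⟨t, rfl⟩ : ∃ t, q = t + 1 := ⟨q - 1, by omega⟩
  have e : (t + 1) ^ 3 - (t + 1) = (t + 1) * t * (t + 1 + 1) := by
    have : (t + 1) ^ 3 = (t + 1) * t * (t + 1 + 1) + (t + 1) := by ring
    omega
  rw [e, Nat.mul_div_cancel _ (by omega), Nat.add_sub_cancel]

theorem num_a (hq : 3 ≤ q) : ((q + 1) ^ 2 - 1) ^ 9 < (q * (q - 1)) ^ (2 * 9 - 4) := by
  obtain ⟨t, rfl⟩ : ∃ t, q = t + 1 := ⟨q - 1, by omega⟩
  have ht : 2 ≤ t := by omega
  have e1 : (t + 1 + 1) ^ 2 - 1 = (t + 1) * (t + 3) := by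
    have : (t + 1 + 1) ^ 2 = (t + 1) * (t + 3) + 1 := by ring
    omega
  have e2 : 2 * 9 - 4 = 14 := rfl
  rw [e1, e2, Nat.add_sub_cancel, mul_pow, mul_pow]
  have h1 : 2 * (t + 3) ≤ 5 * t := by omega
  have h2 : 5 ^ 9 * t ^ 9 < 2 ^ 9 * ((t + 1) ^ 5 * t ^ 14) := by
    have h3 : 3 ^ 5 ≤ (t + 1) ^ 5 := Nat.pow_le_pow_left (by omega) 5
    have h4 : 2 ^ 5 ≤ t ^ 5 := Nat.pow_le_pow_left ht 5
    have h5 : 0 < t ^ 9 := by positivity
    calc 5 ^ 9 * t ^ 9 < 2 ^ 9 * (3 ^ 5 * (2 ^ 5 * t ^ 9)) := by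
          have : (5 : ℕ) ^ 9 < 2 ^ 9 * 3 ^ 5 * 2 ^ 5 := by norm_num
          nlinarith
      _ ≤ 2 ^ 9 * ((t + 1) ^ 5 * (t ^ 5 * t ^ 9)) := by gcongr
      _ = _ := by ring
  have h3 : 2 ^ 9 * (t + 3) ^ 9 < 2 ^ 9 * ((t + 1) ^ 5 * t ^ 14) := by
    refine lt_of_le_of_lt ?_ h2
    rw [← mul_pow, ← mul_pow]
    exact Nat.pow_le_pow_left h1 9
  have h4 := Nat.lt_of_mul_lt_mul_left h3
  calc (t + 1) ^ 9 * (t + 3) ^ 9 < (t + 1) ^ 9 * ((t + 1) ^ 5 * t ^ 14) := by
        apply Nat.mul_lt_mul_of_pos_left h4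
        positivity
    _ = _ := by ring

theorem num_b (hq : 3 ≤ q) : (q ^ 3) ^ 25 < (q * (q - 1)) ^ (2 * 25 - 4) := by
  obtain ⟨t, rfl⟩ : ∃ t, q = t + 1 := ⟨q - 1, by omega⟩
  have ht : 2 ≤ t := by omega
  have e2 : 2 * 25 - 4 = 46 := rfl
  rw [e2, Nat.add_sub_cancel, mul_pow]
  have h1 : 2 * (t + 1) ≤ 3 * t := by omega
  have h2 : 2 ^ 46 * (t + 1) ^ 46 ≤ 3 ^ 46 * t ^ 46 := by
    rw [← mul_pow, ← mul_pow]
    exact Nat.pow_le_pow_left h1 46
  have h3 : 3 ^ 46 * (t + 1) ^ 29 < 2 ^ 46 * (t + 1) ^ 46 := by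
    have h4 : 3 ^ 17 ≤ (t + 1) ^ 17 := Nat.pow_le_pow_left (by omega) 17
    have h5 : 0 < (t + 1) ^ 29 := by positivity
    calc 3 ^ 46 * (t + 1) ^ 29 < 2 ^ 46 * (3 ^ 17 * (t + 1) ^ 29) := by
          have : (3 : ℕ) ^ 46 < 2 ^ 46 * 3 ^ 17 := by norm_num
          nlinarith
      _ ≤ 2 ^ 46 * ((t + 1) ^ 17 * (t + 1) ^ 29) := by gcongr
      _ = _ := by ring
  have h4 := Nat.lt_of_mul_lt_mul_left (h3.trans_le h2)
  calc ((t + 1) ^ 3) ^ 25 = (t + 1) ^ 46 * (t + 1) ^ 29 := by ring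
    _ < (t + 1) ^ 46 * t ^ 46 := by
        apply Nat.mul_lt_mul_of_pos_left h4
        positivity

theorem perf (hF : Fintype.card F = q ^ 2) (hq : 3 ≤ q) : commutator (SU 3 F q) = ⊤ :=
  Cfsg.Agent.LieClassical.HermPerfect.commutator_SU_eq_top hF le_rfl (by omega)

theorem pw_a (hF : Fintype.card F = q ^ 2) (hq : 3 ≤ q) {p : ℕ} (hp : p.Prime) (hd : p ∣ q * (q ^ 2 - 1)) :
    PW p 27 (SU 3 F q) := by
  obtain ⟨c, hc, hcg⟩ := exists_gen_norm hF
  have h1 := (pe_dg hF hq hp hd c hc hcg).map (blk F q)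
  exact PW.of_pe (perf hF hq) (m := 3) (k := 9) h1 (minDeg hF hq) (by norm_num)
    (lt_of_le_of_lt (Nat.pow_le_pow_left (Nat.sub_le_sub_right (card_cent_dg hF hq c hc hcg) 1) 9) (num_a hq))

end Cfsg.Agent.H623.DpPsu3
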