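import Cfsg.Agent.H514.DP.Core
import Cfsg.Agent.H98.SzPartition
import Cfsg.Agent.OddCyclic.ClaimC.SzIso
import Cfsg.Agent.S0330
import Cfsg.Agent.S1162
import Cfsg.Agent.S2337

/-!
# S2454: the Suzuki groups (helper623)

Every element of prime order has a centralizer of order at most `q²`; criterion K with `k = 10`.
-/

set_option autoImplicit false

namespace Cfsg.Agent.H623.DpSz

open Subgroup Cfsg Cfsg.Agent.H514.DP Cfsg.Agent.H98.SzPartition

universe u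

open scoped commutatorElement in
/-- simple groups of composite order are perfect -/
theorem perf_of_not_prime {G : Type*} [Group G] [IsSimpleGroup G] (h : ¬ (Nat.card G).Prime) : commutator G = ⊤ := by
  rcases (inferInstance : (commutator G).Normal).eq_bot_or_eq_top with h1 | h1
  · exfalso
    have hcomm : ∀ a b : G, a * b = b * a := by
      intro a b
      have h2 : ⁅a, b⁆ ∈ commutator G := commutator_mem_commutator (mem_top a) (mem_top b)
      rw [h1, mem_bot] at h2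
      exact commutatorElement_eq_one_iff_mul_comm.1 h2
    let _ : CommGroup G := { (inferInstance : Group G) with mul_comm := hcomm }
    exact h (IsSimpleGroup.prime_card (α := G))
  · exact h1

theorem card_cent_le {F : Type*} [Field F] [Fintype F] {m : ℕ} (hm : 1 ≤ m) (hF : Fintype.card F = 2 ^ (2 * m + 1))
    {p : ℕ} (hp : p.Prime) {y : Cfsg.Sz F m} (hy : orderOf y = p) :
    Nat.card (centralizer ({y} : Set (Cfsg.Sz F m))) ≤ (2 ^ (2 * m + 1)) ^ 2 := by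
  classical
  have hfin : Finite (Cfsg.Sz F m) := inferInstance
  have hy1 : y ≠ 1 := by
    rintro rfl
    rw [orderOf_one] at hy
    exact hp.one_lt.ne hy
  have h2 : Fact (Nat.Prime 2) := ⟨Nat.prime_two⟩
  have hq : 8 ≤ 2 ^ (2 * m + 1) := by
    calc 8 = 2 ^ 3 := by norm_num
      _ ≤ 2 ^ (2 * m + 1) := Nat.pow_le_pow_right (by norm_num) (by omega)
  have hr : 2 ^ (m + 1) ≤ 2 ^ (2 * m + 1) := Nat.pow_le_pow_right (by norm_num) (by omega)
  -- elements of odd prime order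
  have hodd : ∀ {s : ℕ} (x : Cfsg.Sz F m), s.Prime → s ≠ 2 → orderOf x = s →
      Nat.card (centralizer ({x} : Set (Cfsg.Sz F m))) ∈ torusOrders m := by
    intro s x hs hs2 hx
    have hx1 : x ≠ 1 := by
      rintro rfl
      rw [orderOf_one] at hx
      exact hs.one_lt.ne hx
    rcases sylow_or_torus hm hF hx1 with ⟨P, hP⟩ | ⟨-, h⟩
    · exfalso
      obtain ⟨k, hk⟩ := P.2 ⟨x, hP⟩
      have h2 : x ^ 2 ^ k = 1 := congrArg Subtype.val hk
      have h3 := orderOf_dvd_of_pow_eq_one h2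
      rw [hx] at h3
      exact hs2 ((Nat.prime_dvd_prime_iff_eq hs Nat.prime_two).1 (hs.dvd_of_dvd_pow h3))
    · exact h
  by_cases hp2 : p = 2
  · subst hp2
    -- a 2-group
    have h3 : ∀ s : ℕ, s.Prime → s ∣ Nat.card (centralizer ({y} : Set (Cfsg.Sz F m))) → s = 2 := by
      intro s hs hd
      by_contra hs2
      have hsF : Fact s.Prime := ⟨hs⟩
      obtain ⟨x, hx⟩ := exists_prime_orderOf_dvd_card' s hd
      have hx' : orderOf (x : Cfsg.Sz F m) = s := by rw [Subgroup.orderOf_coe, hx]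
      have h4 := odd_of_mem (hodd (x : Cfsg.Sz F m) hs hs2 hx')
      have h5 : y ∈ centralizer ({(x : Cfsg.Sz F m)} : Set (Cfsg.Sz F m)) := by
        rw [mem_centralizer_singleton_iff]
        exact (mem_centralizer_singleton_iff.1 x.2).symm
      have h6 := Subgroup.orderOf_dvd_natCard _ h5
      rw [hy] at h6
      exact (Nat.not_even_iff_odd.2 h4) (even_iff_two_dvd.2 h6)
    have h4 : IsPGroup 2 (centralizer ({y} : Set (Cfsg.Sz F m))) :=
      IsPGroup.of_card (Nat.eq_prime_pow_of_unique_prime_dvd Nat.card_pos.ne' (fun {s} hs hd => h3 s hs hd))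
    obtain ⟨P, hP⟩ := h4.exists_le_sylow
    have h5 := (Cfsg.Agent.S0330.result hm hF P).1
    rw [← h5]
    exact Subgroup.card_le_of_le hP
  · have h3 := hodd y hp hp2 hy
    rcases (mem_torusOrders_iff m _).1 h3 with h | h | h <;> rw [h]
    · nlinarith [Nat.sub_le (2 ^ (2 * m + 1)) 1]
    · nlinarith
    · nlinarith [Nat.sub_le (2 ^ (2 * m + 1)) (2 ^ (m + 1))]

theorem num {m : ℕ} (hm : 1 ≤ m) :
    ((2 ^ (2 * m + 1)) ^ 2 - 1) ^ 10 < (2 ^ m * (2 ^ (2 * m + 1) - 1)) ^ (2 * 10 - 4) := by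
  obtain ⟨t, ht⟩ : ∃ t, t = 2 ^ m := ⟨_, rfl⟩
  have ht2 : 2 ≤ t := by
    rw [ht]
    calc 2 = 2 ^ 1 := rfl
      _ ≤ 2 ^ m := Nat.pow_le_pow_right (by norm_num) hm
  have hq : 2 ^ (2 * m + 1) = 2 * t ^ 2 := by rw [ht, ← pow_mul, pow_succ]; ring
  rw [hq, ← ht]
  obtain ⟨s, hs⟩ : ∃ s, t ^ 2 = s + 4 := ⟨t ^ 2 - 4, by
    have : 4 ≤ t ^ 2 := by nlinarith
    omega⟩
  rw [hs]
  have e1 : (2 * (s + 4)) ^ 2 - 1 = (2 * s + 9) * (2 * s + 7) := by
    have : (2 * (s + 4)) ^ 2 = (2 * s + 9) * (2 * s + 7) + 1 := by ring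
    omega
  have e2 : 2 * (s + 4) - 1 = 2 * s + 7 := by omega
  rw [e1, e2]
  have e3 : 2 * 10 - 4 = 16 := rfl
  rw [e3, mul_pow, mul_pow]
  have h1 : 7 * (2 * s + 9) ≤ 9 * (2 * s + 7) := by omega
  have h2 : 4 * (2 * s + 9) ≤ 9 * (s + 4) := by omega
  have e4 : t ^ 16 = (s + 4) ^ 8 := by rw [← hs]; ring
  rw [e4]
  have h3 : (7 * (2 * s + 9)) ^ 6 * (4 * (2 * s + 9)) ^ 4 ≤ (9 * (2 * s + 7)) ^ 6 * (9 * (s + 4)) ^ 4 :=
    Nat.mul_le_mul (Nat.pow_le_pow_left h1 6) (Nat.pow_le_pow_left h2 4)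
  have h4 : 9 ^ 10 < 7 ^ 6 * 4 ^ 4 * (s + 4) ^ 4 := by
    have : 4 ^ 4 ≤ (s + 4) ^ 4 := Nat.pow_le_pow_left (by omega) 4
    nlinarith
  have h5 : 7 ^ 6 * 4 ^ 4 * (2 * s + 9) ^ 10 < 7 ^ 6 * 4 ^ 4 * ((s + 4) ^ 8 * (2 * s + 7) ^ 6) := by
    calc 7 ^ 6 * 4 ^ 4 * (2 * s + 9) ^ 10 = (7 * (2 * s + 9)) ^ 6 * (4 * (2 * s + 9)) ^ 4 := by ring
      _ ≤ (9 * (2 * s + 7)) ^ 6 * (9 * (s + 4)) ^ 4 := h3
      _ = 9 ^ 10 * ((2 * s + 7) ^ 6 * (s + 4) ^ 4) := by ring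
      _ < 7 ^ 6 * 4 ^ 4 * (s + 4) ^ 4 * ((2 * s + 7) ^ 6 * (s + 4) ^ 4) := by
        apply Nat.mul_lt_mul_of_pos_right h4
        positivity
      _ = _ := by ring
  have h6 := Nat.lt_of_mul_lt_mul_left h5
  calc (2 * s + 9) ^ 10 * (2 * s + 7) ^ 10 < (s + 4) ^ 8 * (2 * s + 7) ^ 6 * (2 * s + 7) ^ 10 := by
        apply Nat.mul_lt_mul_of_pos_right h6
        positivity
    _ = (s + 4) ^ 8 * (2 * s + 7) ^ 16 := by ring

/-- **`Sz(q)`** -/
theorem pw_sz {S : Type u} [Group S] (h : Lie.IsoSuzuki S) {p : ℕ} (hp : p.Prime) (hd : p ∣ Nat.card S) : PW p 10 S := by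
  obtain ⟨F, _, _, m, hm, hF, ⟨e⟩⟩ := h
  obtain ⟨f⟩ := Cfsg.Agent.OddCyclic.ClaimC.SzIso.iso (F := F) hm hF
  refine PW.congr ?_ e.symm
  have hs : IsSimpleGroup ↥(Cfsg.Lie.Sz F (2 ^ (m + 1))) := Cfsg.Agent.S1162.result hm hF
  have hpF : Fact p.Prime := ⟨hp⟩
  rw [Nat.card_congr e.toEquiv] at hd
  obtain ⟨y, hy⟩ := exists_prime_orderOf_dvd_card' p hd
  have hfy : orderOf (f.symm y) = p := by rw [MulEquiv.orderOf_eq, hy]
  have hc : Nat.card (centralizer ({y} : Set ↥(Cfsg.Lie.Sz F (2 ^ (m + 1))))) ≤ (2 ^ (2 * m + 1)) ^ 2 := by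
    refine le_trans ?_ (card_cent_le hm hF hp hfy)
    refine Nat.card_le_card_of_injective (fun g => ⟨f.symm g, ?_⟩) ?_
    · rw [mem_centralizer_singleton_iff, ← map_mul, mem_centralizer_singleton_iff.1 g.2, map_mul]
    · intro a b hab
      exact Subtype.ext (f.symm.injective (congrArg Subtype.val hab))
  have hperf : commutator ↥(Cfsg.Lie.Sz F (2 ^ (m + 1))) = ⊤ := by
    refine perf_of_not_prime ?_
    rw [(Cfsg.Agent.S1163.result hm hF).1]
    exact Nat.not_prime_mul (by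
      have h6 : 8 ≤ 2 ^ (2 * m + 1) := by
        calc 8 = 2 ^ 3 := by norm_num
          _ ≤ 2 ^ (2 * m + 1) := Nat.pow_le_pow_right (by norm_num) (by omega)
      generalize 2 ^ (2 * m + 1) = q at h6
      obtain ⟨r, rfl⟩ : ∃ r, q = r + 8 := ⟨q - 8, by omega⟩
      have e : r + 8 - 1 = r + 7 := by omega
      rw [e]
      intro h7
      have h8 : 0 < (r + 8) ^ 2 := by positivity
      nlinarith) (by
      have h8 : 0 < (2 ^ (2 * m + 1)) ^ 2 := by positivity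
      omega)
  have h1 := PW.of_pe hperf (p := p) (m := 1) (k := 10) (IsPE.of_prime hy).pe (Cfsg.Agent.S2337.result m hm hF) (by norm_num)
    (lt_of_le_of_lt (Nat.pow_le_pow_left (Nat.sub_le_sub_right hc 1) 10) (num hm))
  simpa using h1

end Cfsg.Agent.H623.DpSz
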