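import Cfsg.Agent.H623.InvDick

/-!
# Involutions of `GU_2(q)`, `q ≥ 5` odd, generating a non-solvable group with a given matrix (helper623, for S3830)

* `Yb q b` : the involution with axis `(1, b)`;
* `exists_b` : the choice of `b`;
* `not_solvable_Yb` : `C ^ p` a scalar, `C` not a scalar: `⟨C, Yb q b⟩` is not solvable.
-/

set_option autoImplicit false
set_option linter.unusedSectionVars false

namespace Cfsg.Agent.H623.InvPsu3

open Matrix Subgroup Polynomial
open Cfsg.Agent.H623.InvDick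

section Count

variable {F : Type*} [Field F]

/-- a sparse polynomial -/
noncomputable def sp (q : ℕ) (a b c d : F) : F[X] := C a + C b * X + C c * X ^ q + C d * X ^ (q + 1)

theorem eval_sp (q : ℕ) (a b c d x : F) : (sp q a b c d).eval x = a + b * x + c * x ^ q + d * x ^ (q + 1) := by
  simp [sp]

theorem natDegree_sp {q : ℕ} (hq : 2 ≤ q) (a b c d : F) : (sp q a b c d).natDegree ≤ q + 1 := by
  unfold sp
  refine (natDegree_add_le _ _).trans (max_le ((natDegree_add_le _ _).trans (max_le ((natDegree_add_le _ _).trans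
    (max_le ?_ ?_)) ?_)) ?_)
  · simp
  · exact (natDegree_C_mul_le _ _).trans (by rw [natDegree_X]; omega)
  · exact (natDegree_C_mul_X_pow_le _ _).trans (by omega)
  · exact (natDegree_C_mul_X_pow_le _ _)

theorem sp_ne_zero {q : ℕ} (hq : 2 ≤ q) {a b c d : F} (h : ¬ (a = 0 ∧ b = 0 ∧ c = 0 ∧ d = 0)) : sp q a b c d ≠ 0 := by
  intro h0
  apply h
  have hc : ∀ n, (sp q a b c d).coeff n = 0 := fun n => by rw [h0, coeff_zero]
  have h1 : ∀ n, (sp q a b c d).coeff n = (if n = 0 then a else 0) + (if n = 1 then b else 0) +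
      (if n = q then c else 0) + (if n = q + 1 then d else 0) := by
    intro n
    unfold sp
    simp only [coeff_add, coeff_C_mul, coeff_X_pow, coeff_C, coeff_X]
    congr 1
    · congr 1
      · congr 1
        by_cases hn : n = 1
        · simp [hn]
        · rw [if_neg (fun h => hn h.symm), if_neg hn, mul_zero]
      · split_ifs <;> simp
    · split_ifs <;> simp
  refine ⟨?_, ?_, ?_, ?_⟩
  · have := (h1 0).symm.trans (hc 0)
    rw [if_pos rfl, if_neg (by omega), if_neg (by omega), if_neg (by omega)] at this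
    simpa using this
  · have := (h1 1).symm.trans (hc 1)
    rw [if_neg (by omega), if_pos rfl, if_neg (by omega), if_neg (by omega)] at this
    simpa using this
  · have := (h1 q).symm.trans (hc q)
    rw [if_neg (by omega), if_neg (by omega), if_pos rfl, if_neg (by omega)] at this
    simpa using this
  · have := (h1 (q + 1)).symm.trans (hc (q + 1))
    rw [if_neg (by omega), if_neg (by omega), if_neg (by omega), if_pos rfl] at this
    simpa using this

/-- **The choice of `b`.** -/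
theorem exists_b [Fintype F] {q : ℕ} (hF : Fintype.card F = q ^ 2) (hq : 5 ≤ q) (h2 : (2 : F) ≠ 0) {x y z : F}
    (h : ¬ (x = 0 ∧ y = 0 ∧ z = 0)) (D : F) : ∃ b : F, 1 + b ^ (q + 1) ≠ 0 ∧
      x * (1 - b ^ (q + 1)) + 2 * y * b + 2 * z * b ^ q ≠ 0 ∧
      (x * (1 - b ^ (q + 1)) + 2 * y * b + 2 * z * b ^ q) ^ 2 ≠ D * (1 + b ^ (q + 1)) ^ 2 := by
  classical
  have hx2 : ∀ t : F, 2 * t = 0 → t = 0 := fun t ht => (mul_eq_zero.1 ht).resolve_left h2
  have hcard : 4 * (q + 1) < Fintype.card F := by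
    rw [hF]
    nlinarith
  have key : ∀ e : F, ¬ (x - e = 0 ∧ 2 * y = 0 ∧ 2 * z = 0 ∧ -x - e = 0) := by
    rintro e ⟨h3, h4, h5, h6⟩
    apply h
    refine ⟨?_, hx2 _ h4, hx2 _ h5⟩
    apply hx2
    linear_combination h3 - h6
  have ev : ∀ e b : F, (sp q (x - e) (2 * y) (2 * z) (-x - e)).eval b =
      (x * (1 - b ^ (q + 1)) + 2 * y * b + 2 * z * b ^ q) - e * (1 + b ^ (q + 1)) := by
    intro e b
    rw [eval_sp]
    ring
  have nh : sp q (1 : F) 0 0 1 ≠ 0 := sp_ne_zero (by omega) (fun h => one_ne_zero h.1)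
  have evh : ∀ b : F, (sp q (1 : F) 0 0 1).eval b = 1 + b ^ (q + 1) := by
    intro b
    rw [eval_sp]
    ring
  have n0 := sp_ne_zero (q := q) (by omega) (key 0)
  by_cases hD : ∃ e : F, e * e = D
  · obtain ⟨e, he⟩ := hD
    have n1 := sp_ne_zero (q := q) (by omega) (key e)
    have n2 := sp_ne_zero (q := q) (by omega) (key (-e))
    obtain ⟨b, hb⟩ := exists_eval_ne_zero_of_natDegree_lt_card
      (sp q (1 : F) 0 0 1 * sp q (x - 0) (2 * y) (2 * z) (-x - 0) * sp q (x - e) (2 * y) (2 * z) (-x - e) *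
        sp q (x - -e) (2 * y) (2 * z) (-x - -e)) (mul_ne_zero (mul_ne_zero (mul_ne_zero nh n0) n1) n2) (by
      refine lt_of_le_of_lt ?_ (Nat.cast_lt.2 hcard |>.trans_eq (Cardinal.mk_fintype F).symm)
      refine Nat.cast_le.2 ?_
      refine (natDegree_mul_le.trans (Nat.add_le_add (natDegree_mul_le.trans (Nat.add_le_add (natDegree_mul_le.trans
        (Nat.add_le_add (natDegree_sp (by omega) _ _ _ _) (natDegree_sp (by omega) _ _ _ _)))
        (natDegree_sp (by omega) _ _ _ _))) (natDegree_sp (by omega) _ _ _ _))).trans ?_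
      omega)
    rw [eval_mul, eval_mul, eval_mul, ev, ev, ev, evh] at hb
    have hb1 := right_ne_zero_of_mul hb
    have hb2 := left_ne_zero_of_mul hb
    have hb3 := right_ne_zero_of_mul hb2
    have hb4 := left_ne_zero_of_mul hb2
    have hb5 := right_ne_zero_of_mul hb4
    have hb6 := left_ne_zero_of_mul hb4
    refine ⟨b, hb6, by simpa using hb5, fun h3 => ?_⟩
    rw [← he] at h3
    have h4 : ((x * (1 - b ^ (q + 1)) + 2 * y * b + 2 * z * b ^ q) - e * (1 + b ^ (q + 1))) *
        ((x * (1 - b ^ (q + 1)) + 2 * y * b + 2 * z * b ^ q) - -e * (1 + b ^ (q + 1))) = 0 := by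
      linear_combination h3
    rcases mul_eq_zero.1 h4 with h5 | h5
    · exact hb3 h5
    · exact hb1 h5
  · obtain ⟨b, hb⟩ := exists_eval_ne_zero_of_natDegree_lt_card
      (sp q (1 : F) 0 0 1 * sp q (x - 0) (2 * y) (2 * z) (-x - 0)) (mul_ne_zero nh n0) (by
      refine lt_of_le_of_lt ?_ (Nat.cast_lt.2 hcard |>.trans_eq (Cardinal.mk_fintype F).symm)
      refine Nat.cast_le.2 ?_
      refine (natDegree_mul_le.trans (Nat.add_le_add (natDegree_sp (by omega) _ _ _ _)
        (natDegree_sp (by omega) _ _ _ _))).trans ?_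
      omega)
    rw [eval_mul, ev, evh] at hb
    have hb5 := right_ne_zero_of_mul hb
    have hb6 := left_ne_zero_of_mul hb
    refine ⟨b, hb6, by simpa using hb5, fun h3 => ?_⟩
    apply hD
    refine ⟨(x * (1 - b ^ (q + 1)) + 2 * y * b + 2 * z * b ^ q) / (1 + b ^ (q + 1)), ?_⟩
    field_simp
    linear_combination h3

end Count

section Inv

variable {F : Type*} [Field F]

/-- the involution with axis `(1, b)` -/
def Yb (q : ℕ) (b : F) : Matrix (Fin 2) (Fin 2) F :=
  !![(1 - b ^ (q + 1)) / (1 + b ^ (q + 1)), 2 * b ^ q / (1 + b ^ (q + 1));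
     2 * b / (1 + b ^ (q + 1)), (b ^ (q + 1) - 1) / (1 + b ^ (q + 1))]

theorem Yb_sq {q : ℕ} {b : F} (h : 1 + b ^ (q + 1) ≠ 0) : Yb q b * Yb q b = 1 := by
  have h1 : b ^ (q + 1) = b ^ q * b := pow_succ b q
  ext i j
  fin_cases i <;> fin_cases j <;>
    simp only [Yb, Matrix.mul_apply, Fin.sum_univ_two, Matrix.of_apply, Matrix.cons_val', Matrix.cons_val_zero,
      Matrix.cons_val_one, Matrix.cons_val_fin_one, Fin.zero_eta, Fin.mk_one, Matrix.one_apply_eq]
  · field_simp
    rw [h1]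
    ring
  · rw [Matrix.one_apply_ne (by decide)]
    field_simp
    ring
  · rw [Matrix.one_apply_ne (by decide)]
    field_simp
    ring
  · field_simp
    rw [h1]
    ring

theorem Yb_det {q : ℕ} {b : F} (h : 1 + b ^ (q + 1) ≠ 0) : (Yb q b).det = -1 := by
  have h1 : b ^ (q + 1) = b ^ q * b := pow_succ b q
  rw [Yb, det_fin_two_of]
  field_simp
  rw [h1]
  ring

theorem Yb_trace {q : ℕ} (b : F) : (Yb q b).trace = 0 := by
  rw [Yb, Matrix.trace_fin_two_of]
  ring

/-- a common eigenvector of `C` and `Y C Y⁻¹` -/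
theorem eig_cond {C Y : Matrix (Fin 2) (Fin 2) F} (hY : Y * Y = 1) (hYd : Y.det = -1) (hC : C.det ≠ 0)
    {v : Fin 2 → F} (hv : v ≠ 0) {a b : F} (h1 : C *ᵥ v = a • v) (h2 : C *ᵥ (Y *ᵥ v) = b • (Y *ᵥ v)) :
    (C * Y).trace = 0 ∨ (C * Y).trace ^ 2 = C.trace ^ 2 - 4 * C.det := by
  have hYY : Y *ᵥ (Y *ᵥ v) = v := by rw [mulVec_mulVec, hY, one_mulVec]
  by_cases h : om v (Y *ᵥ v) = 0
  · right
    obtain ⟨e, he⟩ := exists_smul hv h
    have hee : e * e = 1 := by
      have h3 := hYY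
      rw [he, mulVec_smul, he, smul_smul] at h3
      have h4 : (e * e - 1) • v = 0 := by rw [sub_smul, h3, one_smul, sub_self]
      exact sub_eq_zero.1 ((smul_eq_zero.1 h4).resolve_right hv)
    -- characteristic equations
    have ch : ∀ (M : Matrix (Fin 2) (Fin 2) F) (c : F), M *ᵥ v = c • v → c * c - M.trace * c + M.det = 0 := by
      intro M c hM
      have h3 : (c * c - M.trace * c + M.det) • v = 0 := by
        have h4 : M *ᵥ (M *ᵥ v) = (c * c) • v := by rw [hM, mulVec_smul, hM, smul_smul]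
        have h5 : M *ᵥ (M *ᵥ v) = M.trace • (M *ᵥ v) - M.det • v := by
          apply vext <;>
          · simp only [mv0, mv1, Pi.sub_apply, Pi.smul_apply, smul_eq_mul, trace_fin_two, det_fin_two]
            ring
        rw [h4, hM, smul_smul] at h5
        rw [add_smul, sub_smul, h5]
        abel
      exact (smul_eq_zero.1 h3).resolve_right hv
    have c1 := ch C a h1
    have c2 := ch (C * Y) (a * e) (by rw [← mulVec_mulVec, he, mulVec_smul, h1, smul_smul, mul_comm])
    rw [det_mul, hYd] at c2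
    have ha : a ≠ 0 := by
      rintro rfl
      apply hC
      linear_combination c1
    have h6 : (C * Y).trace * e = 2 * a - C.trace := by
      have h7 : a * ((C * Y).trace * e - (2 * a - C.trace)) = 0 := by linear_combination -c2 + a * a * hee - c1
      exact sub_eq_zero.1 ((mul_eq_zero.1 h7).resolve_left ha)
    have h7 : (C * Y).trace ^ 2 = ((C * Y).trace * e) ^ 2 := by linear_combination -((C * Y).trace ^ 2) * hee
    rw [h7, h6]
    linear_combination 4 * c1
  · left
    have h3 : (C * Y).trace * om v (Y *ᵥ v) = om ((C * Y) *ᵥ v) (Y *ᵥ v) + om v ((C * Y) *ᵥ (Y *ᵥ v)) := by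
      simp only [om, mv0, mv1, trace_fin_two]
      ring
    rw [← mulVec_mulVec, ← mulVec_mulVec, hYY, h2, h1, om_smul_left, om_smul_right, om_self, om_self, mul_zero,
      mul_zero, add_zero] at h3
    exact (mul_eq_zero.1 h3).resolve_right h

/-- **Non-solvable groups.** -/
theorem not_solvable {p : ℕ} (hp : p.Prime) (hp5 : 5 ≤ p) {C Y : GL (Fin 2) F} (hC : Sc (C ^ p).1)
    (hY : Y.1 * Y.1 = 1) (hYd : Y.1.det = -1) (h1 : (C.1 * Y.1).trace ≠ 0)
    (h2 : (C.1 * Y.1).trace ^ 2 ≠ C.1.trace ^ 2 - 4 * C.1.det) :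
    ¬ Group.IsSolvable ↥(closure ({C, Y} : Set (GL (Fin 2) F))) := by
  intro hs
  let i : F →+* AlgebraicClosure F := algebraMap F (AlgebraicClosure F)
  let f : GL (Fin 2) F →* GL (Fin 2) (AlgebraicClosure F) := Matrix.GeneralLinearGroup.map i
  have hf : ∀ A : GL (Fin 2) F, (f A).1 = A.1.map i := fun A => rfl
  have hYY : Y * Y = 1 := Units.ext hY
  have hY' : Y⁻¹ = Y := inv_eq_of_mul_eq_one_left hYY
  have hs' : Group.IsSolvable ↥(closure ({f C, f (Y * C * Y)} : Set (GL (Fin 2) (AlgebraicClosure F)))) := by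
    have h3 : closure ({f C, f (Y * C * Y)} : Set (GL (Fin 2) (AlgebraicClosure F))) ≤
        (closure ({C, Y} : Set (GL (Fin 2) F))).map f := by
      rw [closure_le]
      have hCm : C ∈ closure ({C, Y} : Set (GL (Fin 2) F)) := Subgroup.subset_closure (Set.mem_insert _ _)
      have hYm : Y ∈ closure ({C, Y} : Set (GL (Fin 2) F)) :=
        Subgroup.subset_closure (Set.mem_insert_of_mem _ rfl)
      rintro z (rfl | rfl)
      · exact ⟨C, hCm, rfl⟩
      · exact ⟨Y * C * Y, mul_mem (mul_mem hYm hCm) hYm, rfl⟩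
    have h4 : Group.IsSolvable ↥((closure ({C, Y} : Set (GL (Fin 2) F))).map f) :=
      Group.isSolvable_of_surjective (f := f.subgroupMap (closure ({C, Y} : Set (GL (Fin 2) F))))
        (f.subgroupMap_surjective _)
    exact Group.isSolvable_of_isSolvable_injective (f := Subgroup.inclusion h3) (Subgroup.inclusion_injective h3)
  obtain ⟨c, hc⟩ := hC
  have hpow : (Y * C * Y) ^ p = Y * C ^ p * Y := by
    have h3 : ∀ k : ℕ, (Y * C * Y) ^ k = Y * C ^ k * Y := by
      intro k
      induction k with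
      | zero => rw [pow_zero, pow_zero, mul_one, hYY]
      | succ k ih =>
        rw [pow_succ, ih, pow_succ]
        calc Y * C ^ k * Y * (Y * C * Y) = Y * C ^ k * (Y * Y) * C * Y := by simp only [mul_assoc]
          _ = _ := by rw [hYY]; simp only [mul_assoc, one_mul]
    exact h3 p
  have hsc : ∀ A : GL (Fin 2) F, (∃ c : F, A.1 = c • 1) → Sc (f A).1 := by
    rintro A ⟨c, hc⟩
    refine ⟨i c, ?_⟩
    rw [hf, hc]
    ext s t
    rw [Matrix.map_apply, Matrix.smul_apply, Matrix.smul_apply, Matrix.one_apply, Matrix.one_apply, smul_eq_mul,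
      smul_eq_mul, map_mul]
    split_ifs <;> simp
  obtain ⟨v, hv, ⟨a, ha⟩, ⟨b, hb⟩⟩ := common_eigen hp hp5 (A := f C) (B := f (Y * C * Y))
    (by rw [← map_pow]; exact hsc _ ⟨c, hc⟩)
    (by
      rw [← map_pow, hpow]
      refine hsc _ ⟨c, ?_⟩
      rw [Units.val_mul, Units.val_mul, hc, Matrix.mul_smul, mul_one, Matrix.smul_mul, hY]) hs'
  have hYf : (f Y).1 * (f Y).1 = 1 := by
    rw [← Units.val_mul, ← map_mul, hYY, map_one]
    rfl
  have h3 : (f C).1 *ᵥ ((f Y).1 *ᵥ v) = b • ((f Y).1 *ᵥ v) := by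
    rw [map_mul, map_mul, Units.val_mul, Units.val_mul, ← mulVec_mulVec, ← mulVec_mulVec] at hb
    have h4 := congrArg (fun w => (f Y).1 *ᵥ w) hb
    rw [mulVec_smul] at h4
    have h5 : (f Y).1 *ᵥ ((f Y).1 *ᵥ ((f C).1 *ᵥ ((f Y).1 *ᵥ v))) = (f C).1 *ᵥ ((f Y).1 *ᵥ v) := by
      rw [mulVec_mulVec, hYf, one_mulVec]
    rw [← h5]
    exact h4
  have hdet : ∀ A : GL (Fin 2) F, (f A).1.det = i A.1.det := by
    intro A
    rw [hf]
    exact (RingHom.map_det i A.1).symm
  have htr : ∀ A : Matrix (Fin 2) (Fin 2) F, (A.map i).trace = i A.trace := by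
    intro A
    rw [trace_fin_two, trace_fin_two, Matrix.map_apply, Matrix.map_apply, map_add]
  have hCY : (f C).1 * (f Y).1 = (C.1 * Y.1).map i := by
    rw [hf, hf, Matrix.map_mul]
  have h4 := eig_cond hYf (by rw [hdet, hYd, map_neg, map_one]) (gl_det (f C)) hv ha h3
  rw [hCY, htr, hdet, hf, htr] at h4
  have hinj : Function.Injective i := i.injective
  rcases h4 with h4 | h4
  · apply h1
    apply hinj
    rw [h4, map_zero]
  · apply h2
    apply hinj
    rw [map_pow, h4, map_sub, map_pow, map_mul, map_ofNat]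

/-- **The involution.** -/
theorem exists_Y [Fintype F] {q : ℕ} (hF : Fintype.card F = q ^ 2) (hq : 5 ≤ q) (h2 : (2 : F) ≠ 0) {p : ℕ}
    (hp : p.Prime) (hp5 : 5 ≤ p) {C : GL (Fin 2) F} (hC : Sc (C ^ p).1) (hC' : ¬ Sc C.1) :
    ∃ b : F, 1 + b ^ (q + 1) ≠ 0 ∧ ∀ Y : GL (Fin 2) F, Y.1 = Yb q b →
      ¬ Group.IsSolvable ↥(closure ({C, Y} : Set (GL (Fin 2) F))) := by
  have h3 : ¬ (C.1 0 0 - C.1 1 1 = 0 ∧ C.1 0 1 = 0 ∧ C.1 1 0 = 0) := by
    rintro ⟨h3, h4, h5⟩
    apply hC'
    refine ⟨C.1 0 0, ?_⟩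
    ext s t
    fin_cases s <;> fin_cases t
    · simp
    · simpa using h4
    · simpa using h5
    · simp only [Fin.mk_one, Matrix.smul_apply, Matrix.one_apply_eq, smul_eq_mul, mul_one]
      linear_combination -h3
  obtain ⟨b, hb, hb1, hb2⟩ := exists_b hF hq h2 h3 (C.1.trace ^ 2 - 4 * C.1.det)
  refine ⟨b, hb, fun Y hY => ?_⟩
  have h4 : (C.1 * Y.1).trace * (1 + b ^ (q + 1)) =
      (C.1 0 0 - C.1 1 1) * (1 - b ^ (q + 1)) + 2 * C.1 0 1 * b + 2 * C.1 1 0 * b ^ q := by
    rw [hY, trace_fin_two, Matrix.mul_apply, Matrix.mul_apply, Fin.sum_univ_two, Fin.sum_univ_two]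
    simp only [Yb, Matrix.of_apply, Matrix.cons_val', Matrix.cons_val_zero,
      Matrix.cons_val_one, Matrix.cons_val_fin_one]
    field_simp
    ring
  apply not_solvable hp hp5 hC
  · rw [hY, Yb_sq hb]
  · rw [hY, Yb_det hb]
  · intro h5
    apply hb1
    rw [← h4, h5, zero_mul]
  · intro h5
    apply hb2
    rw [← h4, ← h5]
    ring

end Inv

end Cfsg.Agent.H623.InvPsu3
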