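import Cfsg.Agent.H724.UThree
import Cfsg.Agent.H459.Inv.Tools
import Cfsg.Agent.H623.InvPsu3A

/-!
# `PSU_3(q)`, `q` odd: elements of order `p` fixing a nondegenerate line (helper623, for S3830)

* `ns_block` : `mat g = ext1 c C`, `C` not a scalar: `NS (conj (pr g))`;
* `ns_of_Hst` : elements of order `p` conjugate into `Hst hF`.
-/

set_option autoImplicit false
set_option linter.unusedSectionVars false

namespace Cfsg.Agent.H623.InvPsu3

open Matrix Subgroup Cfsg Cfsg.Agent.H459.Inv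
open Cfsg.Agent.H623.InvDick
open Cfsg.Agent.H724.UThree
open Cfsg.Agent.LieClassical.HermBasic Cfsg.Agent.LieClassical.HermSiegel
open Cfsg.Agent.LieClassical.GUOrder (ext1 ext1_isom det_ext1 eq_ext1_of_fix mul_map_eq_one_iff frob frob_apply frob_frob)
open Cfsg.Agent.ClassicalGeometry.PSUAutCount (gm toAut gm_mul gm_one gm_mul_inv gm_inv_mul herm_gm gm_mulVec_inv
  gm_inv_mulVec gm_inj)
open Cfsg.Agent.ClassicalGeometry.UnitAutBasic (pr pr_surjective exists_scalar_of_mem_center)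
open Cfsg.Agent.Schreier.PSU (f₁)

/-- solvability through a correspondence -/
theorem solvable_corr {G H : Type*} [Group G] [Group H] (R : Subgroup (G × H)) (hR : ∀ h, ((1 : G), h) ∈ R → h = 1)
    {g₁ g₂ : G} {h₁ h₂ : H} (h1 : (g₁, h₁) ∈ R) (h2 : (g₂, h₂) ∈ R)
    (hs : Group.IsSolvable ↥(closure ({g₁, g₂} : Set G))) : Group.IsSolvable ↥(closure ({h₁, h₂} : Set H)) := by
  set D := closure ({(g₁, h₁), (g₂, h₂)} : Set (G × H)) with hD
  have hDR : D ≤ R := by
    rw [hD, closure_le]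
    rintro z (rfl | rfl)
    · exact h1
    · exact h2
  have e1 : D.map (MonoidHom.fst G H) = closure ({g₁, g₂} : Set G) := by
    rw [hD, MonoidHom.map_closure, Set.image_pair]
    rfl
  have e2 : D.map (MonoidHom.snd G H) = closure ({h₁, h₂} : Set H) := by
    rw [hD, MonoidHom.map_closure, Set.image_pair]
    rfl
  have hinj : Function.Injective ((MonoidHom.fst G H).subgroupMap D) := by
    rw [injective_iff_map_eq_one]
    rintro ⟨⟨a, b⟩, hab⟩ h3
    have h4 : a = 1 := congrArg Subtype.val h3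
    subst h4
    have h5 := hR b (hDR hab)
    subst h5
    rfl
  rw [← e1] at hs
  have hDs : Group.IsSolvable D := Group.isSolvable_of_isSolvable_injective hinj
  rw [← e2]
  exact Group.isSolvable_of_surjective (f := (MonoidHom.snd G H).subgroupMap D) ((MonoidHom.snd G H).subgroupMap_surjective _)

variable {F : Type*} [Field F] [Fintype F] {q : ℕ}

/-- block matrices in `SU_3` -/
def blkR (F : Type*) [Field F] (q : ℕ) : Subgroup (SU 3 F q × GL (Fin 2) F) where
  carrier := {x | ∃ c : F, mat x.1 = ext1 c x.2.1}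
  one_mem' := ⟨1, by
    show mat (1 : SU 3 F q) = ext1 1 1
    rw [mat_one, ext1_one]⟩
  mul_mem' := by
    rintro x y ⟨a, ha⟩ ⟨b, hb⟩
    exact ⟨a * b, by
      show mat (x.1 * y.1) = ext1 (a * b) (x.2.1 * y.2.1)
      rw [mat_mul, ha, hb, ext1_mul']⟩
  inv_mem' := by
    rintro x ⟨a, ha⟩
    have ha0 : a ≠ 0 := by
      rintro rfl
      have h1 := mat_det x.1
      rw [ha, det_ext1, zero_mul] at h1
      exact zero_ne_one h1
    refine ⟨a⁻¹, ?_⟩
    have h1 : mat x.1 * ext1 a⁻¹ (x.2⁻¹).1 = 1 := by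
      rw [ha, ext1_mul', mul_inv_cancel₀ ha0, ← Units.val_mul, mul_inv_cancel, Units.val_one, ext1_one]
    have h2 : mat (x.1⁻¹) * mat x.1 = 1 := by rw [← mat_mul, inv_mul_cancel, mat_one]
    show mat (x.1⁻¹) = ext1 a⁻¹ (x.2⁻¹).1
    calc mat (x.1⁻¹) = mat (x.1⁻¹) * (mat x.1 * ext1 a⁻¹ (x.2⁻¹).1) := by rw [h1, mul_one]
      _ = _ := by rw [← mul_assoc, h2, one_mul]

theorem mat_pow (g : SU 3 F q) (k : ℕ) : mat (g ^ k) = mat g ^ k := by
  induction k with
  | zero => rw [pow_zero, pow_zero, mat_one]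
  | succ k ih => rw [pow_succ, pow_succ, mat_mul, ih]

theorem ext1_pow {n : ℕ} (c : F) (M : Matrix (Fin n) (Fin n) F) (k : ℕ) : ext1 c M ^ k = ext1 (c ^ k) (M ^ k) := by
  induction k with
  | zero => rw [pow_zero, pow_zero, pow_zero, ext1_one]
  | succ k ih => rw [pow_succ, pow_succ, pow_succ, ih, ext1_mul']

/-- the kernel of `pr` is solvable -/
theorem ker_pr_solvable : Group.IsSolvable (pr 3 F q).ker := by
  apply Group.isSolvable_of_comm
  rintro ⟨a, ha⟩ ⟨b, hb⟩
  apply Subtype.ext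
  have h1 : b ∈ center (SU 3 F q) := (QuotientGroup.eq_one_iff _).1 hb
  exact mem_center_iff.1 h1 a

/-- solvability passes from `PSU_3` to `SU_3` -/
theorem solvable_of_pr {g y : SU 3 F q}
    (h : Group.IsSolvable ↥(closure ({pr 3 F q g, pr 3 F q y} : Set (PSU 3 F q)))) :
    Group.IsSolvable ↥(closure ({g, y} : Set (SU 3 F q))) := by
  have h1 : closure ({g, y} : Set (SU 3 F q)) ≤ (closure ({pr 3 F q g, pr 3 F q y} : Set (PSU 3 F q))).comap (pr 3 F q) := by
    rw [closure_le]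
    rintro z (rfl | rfl)
    · exact Subgroup.subset_closure (Set.mem_insert _ _)
    · exact Subgroup.subset_closure (Set.mem_insert_of_mem _ rfl)
  have h2 : Group.IsSolvable ↥((closure ({pr 3 F q g, pr 3 F q y} : Set (PSU 3 F q))).comap (pr 3 F q)) :=
    isSolvable_comap _ ker_pr_solvable h
  exact Group.isSolvable_of_isSolvable_injective (f := Subgroup.inclusion h1) (Subgroup.inclusion_injective h1)

theorem Yb_isom (hF : Fintype.card F = q ^ 2) {b : F} (hb : 1 + b ^ (q + 1) ≠ 0) (u v : Fin 2 → F) :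
    hermForm 2 F q (Yb q b *ᵥ u) (Yb q b *ᵥ v) = hermForm 2 F q u v := by
  revert u v
  rw [mul_map_eq_one_iff hF]
  have h1 : (Yb q b).map (frob hF) = (Yb q b)ᵀ := by
    have hbb : frob hF (b ^ (q + 1)) = b ^ (q + 1) := by
      rw [pow_succ, map_mul, ← frob_apply hF, frob_frob, mul_comm]
    have hbq : frob hF (b ^ q) = b := by rw [← frob_apply hF, frob_frob]
    have hb' : frob hF b = b ^ q := frob_apply hF b
    ext i j
    fin_cases i <;> fin_cases j <;>
      simp only [Yb, Matrix.map_apply, Matrix.transpose_apply, Matrix.of_apply, Matrix.cons_val', Matrix.cons_val_zero,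
        Matrix.cons_val_one, Matrix.cons_val_fin_one, Fin.zero_eta, Fin.mk_one, map_div₀, map_sub, map_add, map_one,
        hbb, map_mul, hbq, hb', map_ofNat]
  rw [h1, ← Matrix.transpose_mul, Yb_sq hb, Matrix.transpose_one]

theorem odd_of_two_ne (hF : Fintype.card F = q ^ 2) (h2 : (2 : F) ≠ 0) : Odd q := by
  rw [← Nat.not_even_iff_odd]
  intro he
  obtain ⟨r, k, hr, hrc, hk, hk0⟩ := LieClassical.HermBasic.exists_prime_pow hF
  rw [hk, Nat.even_pow] at he
  have h3 : r = 2 := (Nat.Prime.eq_two_or_odd' hr).resolve_right (Nat.not_odd_iff_even.2 he.1)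
  subst h3
  apply h2
  exact_mod_cast CharP.cast_eq_zero F 2

theorem ext1_inj_left {n : ℕ} {A B : Matrix (Fin n) (Fin n) F} {c d : F} (h : ext1 c A = ext1 d B) : c = d := by
  have := congrFun (congrFun h 0) 0
  simpa [ext1] using this

/-- **Block matrices.** -/
theorem ns_block (hF : Fintype.card F = q ^ 2) (hq : 5 ≤ q) (h2 : (2 : F) ≠ 0) {p : ℕ} (hp : p.Prime) (hp5 : 5 ≤ p)
    {g : SU 3 F q} (hg : g ^ p = 1) {c : F} {C : Matrix (Fin 2) (Fin 2) F} (hgc : mat g = ext1 c C) (hC : ¬ Sc C) :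
    NS (MulAut.conj (pr 3 F q g)) := by
  have hdet : C.det ≠ 0 := by
    intro h
    have h1 := mat_det g
    rw [hgc, det_ext1, h, mul_zero] at h1
    exact zero_ne_one h1
  let C' : GL (Fin 2) F := Matrix.GeneralLinearGroup.mkOfDetNeZero C hdet
  have hC'v : C'.1 = C := rfl
  have hCp : C ^ p = 1 := by
    have h1 := congrArg mat hg
    rw [mat_pow, hgc, ext1_pow, mat_one] at h1
    exact ext1_inj (h1.trans ext1_one.symm)
  obtain ⟨b, hb, hY⟩ := exists_Y hF hq h2 hp hp5 (C := C') ⟨1, by rw [Units.val_pow_eq_pow_val, hC'v, hCp, one_smul]⟩ hC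
  have hYd := Yb_det hb
  let Y' : GL (Fin 2) F := Matrix.GeneralLinearGroup.mkOfDetNeZero (Yb q b) (by rw [hYd]; exact neg_ne_zero.2 one_ne_zero)
  have hns := hY Y' rfl
  have hodd := odd_of_two_ne hF h2
  let y : SU 3 F q := mkSU (ext1 (-1) (Yb q b)) (by rw [det_ext1, hYd]; ring)
    (ext1_isom _ (by rw [Even.neg_one_pow hodd.add_one]) _ (Yb_isom hF hb))
  have hym : mat y = ext1 (-1) (Yb q b) := rfl
  have hyy : y * y = 1 := by
    apply mat_ext
    have hm : (-1 : F) * -1 = 1 := by ring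
    rw [mat_mul, hym, ext1_mul', Yb_sq hb, mat_one, hm, ext1_one]
  have hy1 : pr 3 F q y ≠ 1 := by
    intro h
    have h1 : y ∈ center (SU 3 F q) := (QuotientGroup.eq_one_iff _).1 h
    obtain ⟨a, -, ha⟩ := exists_scalar_of_mem_center hF le_rfl h1
    have h3 : ext1 (-1) (Yb q b) = ext1 a (a • (1 : Matrix (Fin 2) (Fin 2) F)) := by
      rw [← hym]
      apply Matrix.ext_of_mulVec_single
      intro i
      have h4 := ha (Pi.single i 1)
      rw [act_def] at h4
      rw [h4]
      have h5 : ext1 a (a • (1 : Matrix (Fin 2) (Fin 2) F)) = a • (1 : Matrix (Fin 3) (Fin 3) F) := by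
        rw [ext1_two]
        ext s t
        fin_cases s <;> fin_cases t <;> simp
      rw [h5, smul_mulVec, one_mulVec]
    have h4 := ext1_inj h3
    have h5 := Yb_trace (q := q) b
    have h6 := ext1_inj_left h3
    rw [h4, trace_smul, trace_one, Fintype.card_fin, smul_eq_mul, ← h6] at h5
    apply h2
    push_cast at h5
    linear_combination -h5
  have hord : orderOf (pr 3 F q y) = 2 := by
    have : Fact (Nat.Prime 2) := ⟨Nat.prime_two⟩
    apply orderOf_eq_prime
    · rw [pow_two, ← map_mul, hyy, map_one]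
    · exact hy1
  refine ns_of_inner hord fun hs => hns ?_
  refine solvable_corr (blkR F q) ?_ (g₁ := g) (g₂ := y) (h₁ := C') (h₂ := Y') ⟨c, hgc⟩ ⟨-1, hym⟩ (solvable_of_pr hs)
  rintro h ⟨a, ha⟩
  apply Units.ext
  have h3 : ext1 a h.1 = ext1 1 (1 : Matrix (Fin 2) (Fin 2) F) := by
    rw [ext1_one]
    exact ha.symm
  exact ext1_inj h3

/-- conjugation -/
theorem ns_conj_GU {g g' : SU 3 F q} {B : GU 3 F q} (h : B⁻¹ * toGU g * B = toGU g')
    (hn : NS (f₁ (toGU g'))) : NS (f₁ (toGU g)) := by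
  refine ns_of_conj (g := f₁ B⁻¹) ?_
  rw [← map_inv, ← map_mul, ← map_mul, inv_inv, h]
  exact hn

theorem exists_su_conj (g : SU 3 F q) (B : GU 3 F q) : ∃ g' : SU 3 F q, B⁻¹ * toGU g * B = toGU g' := by
  obtain ⟨g', hg'⟩ := exists_toGU (B⁻¹ * toGU g * B) (by
    rw [gm_mul, gm_mul, det_mul, det_mul, mul_right_comm, ← det_mul, gm_inv_mul, det_one, one_mul, gm_toGU, mat_det])
  exact ⟨g', hg'.symm⟩

theorem conj_pow_eq_one {g g' : SU 3 F q} {B : GU 3 F q} (h : B⁻¹ * toGU g * B = toGU g') {p : ℕ} (hg : g ^ p = 1) :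
    g' ^ p = 1 := by
  apply toGU_injective
  have h1 : (toGU (1 : SU 3 F q)) = 1 := gm_inj rfl
  have h2 : ∀ k : ℕ, (B⁻¹ * toGU g * B) ^ k = B⁻¹ * toGU g ^ k * B := by
    intro k
    induction k with
    | zero => rw [pow_zero, pow_zero, mul_one, inv_mul_cancel]
    | succ k ih =>
      rw [pow_succ, ih, pow_succ]
      group
  rw [toGU_pow, ← h, h2, ← toGU_pow, hg, h1, mul_one, inv_mul_cancel]

theorem conj_ne_one {g g' : SU 3 F q} {B : GU 3 F q} (h : B⁻¹ * toGU g * B = toGU g') (hg : g ≠ 1) :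
    g' ≠ 1 := by
  rintro rfl
  apply hg
  apply toGU_injective
  have h1 : (toGU (1 : SU 3 F q)) = 1 := gm_inj rfl
  rw [h1] at h ⊢
  have h3 : toGU g = B * (B⁻¹ * toGU g * B) * B⁻¹ := by group
  rw [h3, h, mul_one, mul_inv_cancel]

/-- elements stabilising the first coordinate line are block matrices -/
theorem exists_block (hF : Fintype.card F = q ^ 2) {g : SU 3 F q} (hg : toGU g ∈ Hst hF) :
    ∃ (c : F) (C : Matrix (Fin 2) (Fin 2) F), mat g = ext1 c C := by
  obtain ⟨c, A', hc0, hA', -, hfix, -⟩ := exists_fix hF hg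
  have h1 := eq_ext1_of_fix hF (gm A') (herm_gm A') hfix
  refine ⟨c, c • (gm A').submatrix Fin.succ Fin.succ, ?_⟩
  have h2 : mat g = c • gm A' := by rw [hA', smul_smul, mul_inv_cancel₀ hc0, one_smul, gm_toGU]
  rw [h2]
  conv_lhs => rw [h1]
  ext i j
  refine Fin.cases ?_ (fun i => ?_) i <;> refine Fin.cases ?_ (fun j => ?_) j <;>
    simp [ext1]

/-- **Elements fixing a nondegenerate line, `q` odd.** -/
theorem ns_Hst_odd (hF : Fintype.card F = q ^ 2) (hq : 5 ≤ q) (h2 : (2 : F) ≠ 0) {p : ℕ} (hp : p.Prime)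
    (hp5 : 5 ≤ p) {g : SU 3 F q} (hg : g ^ p = 1) (hg1 : g ≠ 1) (hH : toGU g ∈ Hst hF) :
    NS (MulAut.conj (pr 3 F q g)) := by
  obtain ⟨c, C, hgc⟩ := exists_block hF hH
  by_cases hC : Sc C
  · obtain ⟨a, rfl⟩ := hC
    -- another plane
    obtain ⟨g', hg'⟩ := exists_su_conj g (toGU (rot hF))
    have hrot : mat (rot hF) = !![0, 1, 0; -1, 0, 0; 0, 0, 1] := rfl
    have h3 : mat (rot hF) * mat g' = mat g * mat (rot hF) := by
      have h4 : toGU (rot hF) * toGU g' = toGU g * toGU (rot hF) := by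
        rw [← hg']
        group
      have h5 := congrArg gm h4
      rwa [gm_mul, gm_mul, gm_toGU, gm_toGU, gm_toGU] at h5
    have h4 : mat g' = ext1 a !![c, 0; 0, a] := by
      have h5 : mat (rot hF) * ext1 a !![c, 0; 0, a] = mat g * mat (rot hF) := by
        rw [hgc, hrot, ext1_two, ext1_two]
        ext s t
        fin_cases s <;> fin_cases t <;> simp [Matrix.mul_apply, Fin.sum_univ_three]
      have h6 : mat (rot hF)⁻¹ * mat (rot hF) = 1 := by rw [← mat_mul, inv_mul_cancel, mat_one]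
      calc mat g' = mat (rot hF)⁻¹ * (mat (rot hF) * mat g') := by rw [← mul_assoc, h6, one_mul]
        _ = mat (rot hF)⁻¹ * (mat (rot hF) * ext1 a !![c, 0; 0, a]) := by rw [h3, h5]
        _ = _ := by rw [← mul_assoc, h6, one_mul]
    have hns : NS (MulAut.conj (pr 3 F q g')) := by
      refine ns_block hF hq h2 hp hp5 (conj_pow_eq_one hg' hg) h4 ?_
      rintro ⟨d, hd⟩
      have e1 := congrFun (congrFun hd 0) 0
      have e2 := congrFun (congrFun hd 1) 1
      simp at e1 e2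
      have hca : c = a := by rw [e1, e2]
      subst hca
      -- `c ^ 3 = 1`, `c ^ p = 1`
      have h7 : c ^ 3 = 1 := by
        have := mat_det g
        rw [hgc, det_ext1, det_smul, det_one, Fintype.card_fin] at this
        linear_combination this
      have h8 : c ^ p = 1 := by
        have h9 := congrArg mat hg
        rw [mat_pow, hgc, ext1_pow, mat_one] at h9
        exact ext1_inj_left (h9.trans ext1_one.symm)
      have h9 : orderOf c ∣ Nat.gcd 3 p := Nat.dvd_gcd (orderOf_dvd_of_pow_eq_one h7) (orderOf_dvd_of_pow_eq_one h8)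
      have h10 : Nat.Coprime 3 p := (Nat.coprime_primes Nat.prime_three hp).2 (by omega)
      rw [h10] at h9
      have h11 : c = 1 := orderOf_eq_one_iff.1 (Nat.dvd_one.1 h9)
      apply hg1
      apply mat_ext
      rw [hgc, h11, one_smul, ext1_one, mat_one]
    rw [← f₁_toGU] at hns ⊢
    exact ns_conj_GU hg' hns
  · exact ns_block hF hq h2 hp hp5 hg hgc hC

/-- elements conjugate into the stabiliser of a nondegenerate line, `q` odd -/
theorem ns_Hst_odd' (hF : Fintype.card F = q ^ 2) (hq : 5 ≤ q) (h2 : (2 : F) ≠ 0) {p : ℕ} (hp : p.Prime)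
    (hp5 : 5 ≤ p) {g : SU 3 F q} (hg : g ^ p = 1) (hg1 : g ≠ 1) {B : GU 3 F q} (hH : B⁻¹ * toGU g * B ∈ Hst hF) :
    NS (f₁ (toGU g)) := by
  obtain ⟨g', hg'⟩ := exists_su_conj g B
  rw [hg'] at hH
  refine ns_conj_GU hg' ?_
  rw [f₁_toGU]
  exact ns_Hst_odd hF hq h2 hp hp5 (conj_pow_eq_one hg' hg) (conj_ne_one hg' hg1) hH

end Cfsg.Agent.H623.InvPsu3
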