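import Cfsg.Agent.H623.InvPsu3C

/-!
# `PSU_3(q)`, `q` odd: the subgroups `Ω_3(q) ≅ PSL_2(q)` (helper623, for S3830)

* `symP` : the symmetric square `SL_2(F₀) → SU_3(F)` in a basis `P` with the Gram matrix `gram r`;
* `sym_simple` : its image in `PSU_3` is simple and proper (`q ≥ 4`);
* `ns_regular` : regular unipotent elements; `ns_field_odd` : field automorphisms, `q` odd;
* `ns_unip` : unipotent elements.
-/

set_option autoImplicit false
set_option linter.unusedSectionVars false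

namespace Cfsg.Agent.H623.InvPsu3

open Matrix Subgroup Cfsg Cfsg.Agent.H459.Inv Cfsg.Agent.H459.Rad
open Cfsg.Agent.H724.UThree
open Cfsg.Agent.LieClassical.HermSiegel
open Cfsg.Agent.LieClassical.HermBasic (card_fixed)
open Cfsg.Agent.LieClassical.GUOrder (frob frob_apply frob_frob frob_herm mul_map_eq_one_iff card_GU_eq)
open Cfsg.Agent.ClassicalGeometry.PSUAutCount (gm semiConj toAut gm_mul gm_one gm_mul_inv gm_inv_mul gm_inv_mulVec gm_inj)
open Cfsg.Agent.ClassicalGeometry.UnitAutBasic (pr pr_surjective exists_scalar_of_mem_center)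
open Cfsg.Agent.Schreier.PSU (f₁ toAut_pr')
open Cfsg.Agent.CpAutU.Desc (exists_conj)
open Cfsg.Agent.CpAutU.Fld (exists_s' pow_card pow_q)
open Cfsg.Agent.CpAut.Psl (fixf mem_fixf)

variable {F : Type*} [Field F] [Fintype F] {q : ℕ}

theorem det_P (hF : Fintype.card F = q ^ 2) {P : Matrix (Fin 3) (Fin 3) F} {r : F} (hr : r ≠ 0)
    (hP : Pᵀ * P.map (frob hF) = gram r) : IsUnit P.det := by
  rw [isUnit_iff_ne_zero]
  intro h0
  have h1 := congrArg Matrix.det hP
  rw [Matrix.det_mul, Matrix.det_transpose, h0, zero_mul, det_gram] at h1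
  exact pow_ne_zero 3 hr h1.symm

/-- **The symmetric square in the basis `P`.** -/
noncomputable def symP (hF : Fintype.card F = q ^ 2) (h2 : (2 : F) ≠ 0) {P : Matrix (Fin 3) (Fin 3) F} {r : F}
    (hr : r ≠ 0) (hP : Pᵀ * P.map (frob hF) = gram r) : Matrix.SpecialLinearGroup (Fin 2) (FF hF) →* SU 3 F q where
  toFun B := mkSU (P * rep hF B * P⁻¹) (by
      have h1 := congrArg Matrix.det (Matrix.mul_nonsing_inv _ (det_P hF hr hP))
      rw [Matrix.det_mul, Matrix.det_one] at h1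
      rw [Matrix.det_mul, Matrix.det_mul, rep, det_sq2 h2 (rep_det hF B), mul_one, h1]) (by
      rw [mul_map_eq_one_iff hF]
      have h1 := Matrix.mul_nonsing_inv _ (det_P hF hr hP)
      have h3 : P.map (frob hF) * (P⁻¹).map (frob hF) = 1 := by
        rw [← Matrix.map_mul, h1, Matrix.map_one _ (map_zero _) (map_one _)]
      have h4 : (P⁻¹)ᵀ * Pᵀ = 1 := by
        rw [← Matrix.transpose_mul, h1, Matrix.transpose_one]
      have h5 := sq2_gram h2 r (rep_det hF B)
      rw [Matrix.map_mul, Matrix.map_mul, rep_map, Matrix.transpose_mul, Matrix.transpose_mul]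
      calc (P⁻¹)ᵀ * ((rep hF B)ᵀ * Pᵀ) *
            (P.map (frob hF) * rep hF B * (P⁻¹).map (frob hF))
          = (P⁻¹)ᵀ * ((rep hF B)ᵀ * (Pᵀ * P.map (frob hF)) * rep hF B) *
              (P⁻¹).map (frob hF) := by simp only [Matrix.mul_assoc]
        _ = (P⁻¹)ᵀ * (Pᵀ * P.map (frob hF)) * (P⁻¹).map (frob hF) := by
            rw [hP, rep, h5]
        _ = ((P⁻¹)ᵀ * Pᵀ) * (P.map (frob hF) * (P⁻¹).map (frob hF)) := by
            simp only [Matrix.mul_assoc]
        _ = 1 := by rw [h3, h4, mul_one])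
  map_one' := by
    apply mat_ext
    rw [mat_mkSU, mat_one, rep_one, mul_one, Matrix.mul_nonsing_inv _ (det_P hF hr hP)]
  map_mul' A B := by
    apply mat_ext
    rw [mat_mkSU, mat_mul, mat_mkSU, mat_mkSU, rep_mul hF h2]
    calc P * (rep hF A * rep hF B) * P⁻¹
        = P * rep hF A * 1 * rep hF B * P⁻¹ := by simp only [Matrix.mul_assoc, Matrix.one_mul]
      _ = _ := by rw [← Matrix.nonsing_inv_mul _ (det_P hF hr hP)]; simp only [Matrix.mul_assoc]

theorem mat_symP (hF : Fintype.card F = q ^ 2) (h2 : (2 : F) ≠ 0) {P : Matrix (Fin 3) (Fin 3) F} {r : F}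
    (hr : r ≠ 0) (hP : Pᵀ * P.map (frob hF) = gram r) (B : Matrix.SpecialLinearGroup (Fin 2) (FF hF)) :
    mat (symP hF h2 hr hP B) = P * rep hF B * P⁻¹ := rfl

/-- the kernel of `pr ∘ symP` -/
theorem pr_symP (hF : Fintype.card F = q ^ 2) (h2 : (2 : F) ≠ 0) {P : Matrix (Fin 3) (Fin 3) F} {r : F}
    (hr : r ≠ 0) (hP : Pᵀ * P.map (frob hF) = gram r) {B : Matrix.SpecialLinearGroup (Fin 2) (FF hF)}
    (h : pr 3 F q (symP hF h2 hr hP B) = 1) : (B.1 0 1 : F) = 0 ∧ (B.1 1 0 : F) = 0 := by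
  have h1 : symP hF h2 hr hP B ∈ center (SU 3 F q) := (QuotientGroup.eq_one_iff _).1 h
  obtain ⟨a, -, ha⟩ := exists_scalar_of_mem_center hF le_rfl h1
  have h3 : P * rep hF B * P⁻¹ = a • (1 : Matrix (Fin 3) (Fin 3) F) := by
    rw [← mat_symP hF h2 hr hP]
    apply Matrix.ext_of_mulVec_single
    intro i
    have h4 := ha (Pi.single i 1)
    rw [act_def] at h4
    rw [h4, smul_mulVec, one_mulVec]
  have hu := det_P hF hr hP
  have h4 : rep hF B = a • (1 : Matrix (Fin 3) (Fin 3) F) := by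
    calc rep hF B = (P⁻¹ * P) * rep hF B * (P⁻¹ * P) := by rw [Matrix.nonsing_inv_mul _ hu, one_mul, mul_one]
      _ = P⁻¹ * (P * rep hF B * P⁻¹) * P := by simp only [Matrix.mul_assoc]
      _ = _ := by rw [h3, Matrix.mul_smul, mul_one, Matrix.smul_mul, Matrix.nonsing_inv_mul _ hu]
  have e1 := congrFun (congrFun h4 0) 2
  have e2 := congrFun (congrFun h4 2) 0
  simp [rep, sq2, h2] at e1 e2
  constructor
  · exact_mod_cast e1
  · exact_mod_cast e2

/-- **The image in `PSU_3`.** -/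
theorem sym_simple (hF : Fintype.card F = q ^ 2) (hq : 4 ≤ q) (h2 : (2 : F) ≠ 0) {P : Matrix (Fin 3) (Fin 3) F} {r : F}
    (hr : r ≠ 0) (hP : Pᵀ * P.map (frob hF) = gram r) :
    IsSimpleGroup ((pr 3 F q).comp (symP hF h2 hr hP)).range ∧
      ¬ IsMulCommutative ((pr 3 F q).comp (symP hF h2 hr hP)).range ∧ ((pr 3 F q).comp (symP hF h2 hr hP)).range ≠ ⊤ := by
  have hS : IsQuasisimple (Matrix.SpecialLinearGroup (Fin 2) (FF hF)) :=
    Cfsg.Agent.SignalizersComponents.SLQuasisimple.isQuasisimple_two (by rw [card_FF hF]; exact hq)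
  obtain ⟨h3, h4⟩ := simple_range hS ((pr 3 F q).comp (symP hF h2 hr hP)) (by
    intro s hs
    obtain ⟨a, ha, ha'⟩ := Matrix.SpecialLinearGroup.mem_center_iff.1 hs
    have h5 : symP hF h2 hr hP s = 1 := by
      apply mat_ext
      have ha2 : (a : F) * a = 1 := by
        have := congrArg (fun x : FF hF => (x : F)) ha
        simpa [Fintype.card_fin, pow_two] using this
      have e : ∀ i j, ((s.1 i j : FF hF) : F) = if i = j then (a : F) else 0 := by
        intro i j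
        rw [← ha', Matrix.scalar_apply, Matrix.diagonal_apply]
        split_ifs <;> rfl
      have h6 : rep hF s = 1 := by
        rw [rep, e, e, e, e]
        ext i j
        fin_cases i <;> fin_cases j <;> simp [sq2, ha2]
      rw [mat_symP, h6, mul_one, Matrix.mul_nonsing_inv _ (det_P hF hr hP), mat_one]
    rw [MonoidHom.comp_apply, h5, map_one]) (by
    refine ⟨uu hF, fun h => ?_⟩
    have := (pr_symP hF h2 hr hP h).2
    simp [uu] at this)
  refine ⟨h3, h4, fun htop => ?_⟩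
  have h5 : Nat.card ((pr 3 F q).comp (symP hF h2 hr hP)).range = Nat.card (PSU 3 F q) := by
    rw [htop, Subgroup.card_top]
  have h6 : Nat.card ((pr 3 F q).comp (symP hF h2 hr hP)).range ≤
      Nat.card (Matrix.SpecialLinearGroup (Fin 2) (FF hF)) :=
    Nat.card_le_card_of_surjective _ ((pr 3 F q).comp (symP hF h2 hr hP)).rangeRestrict_surjective
  have := card_sl hF
  omega

/-- elements of proper simple subgroups -/
theorem ns_mem {K : Type*} [Group K] [Finite K] {p : ℕ} [Fact p.Prime] (hI : SubI p K) {g : K}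
    (hx : orderOf (MulAut.conj g) = p) {S : Subgroup K} (hs : IsSimpleGroup S) (hna : ¬ IsMulCommutative S)
    (hS : S ≠ ⊤) (hg : g ∈ S) (hg1 : g ≠ 1) : NS (MulAut.conj g) := by
  refine ns_sub hI hx hs hna hS ?_ ?_
  · intro m hm
    rw [MulAut.conj_apply]
    exact S.mul_mem (S.mul_mem hg hm) (S.inv_mem hg)
  · by_contra hcon
    push Not at hcon
    have h1 : (⟨g, hg⟩ : S) ∈ center S := by
      rw [mem_center_iff]
      rintro ⟨m, hm⟩
      apply Subtype.ext
      have := hcon m hm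
      rw [MulAut.conj_apply, mul_inv_eq_iff_eq_mul] at this
      exact this.symm
    rw [H459.CycFalse.center_eq_bot hna, Subgroup.mem_bot] at h1
    exact hg1 (congrArg Subtype.val h1)

/-- **Regular unipotent elements.** -/
theorem ns_regular (hF : Fintype.card F = q ^ 2) (hq : 4 ≤ q) (h2 : (2 : F) ≠ 0) {p : ℕ} [hp : Fact p.Prime]
    [Finite (PSU 3 F q)] (hI : SubI p (PSU 3 F q)) {g : SU 3 F q} {N : Matrix (Fin 3) (Fin 3) F} (hN : mat g = 1 + N)
    (hN3 : N * N * N = 0) (hN2 : N * N ≠ 0) (hx : orderOf (MulAut.conj (pr 3 F q g)) = p) :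
    NS (MulAut.conj (pr 3 F q g)) := by
  obtain ⟨X, w, a, h⟩ := exists_adapted hF hN hN3 hN2 h2
  have hP := bas_gram hF h
  obtain ⟨h3, h4, h5⟩ := sym_simple hF hq h2 h.a0 hP
  have h6 : symP hF h2 h.a0 hP (uu hF) = g :=
    (show symP hF h2 h.a0 hP (uu hF) = sym hF h2 h (uu hF) from rfl).trans (sym_uu hF h2 h)
  refine ns_mem hI hx h3 h4 h5 ⟨uu hF, ?_⟩ ?_
  · rw [MonoidHom.comp_apply, h6]
  · intro h7
    rw [h7, map_one, orderOf_one] at hx
    exact hp.out.one_lt.ne hx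

/-- the restriction of an automorphism to the fixed field -/
def rhoF (hF : Fintype.card F = q ^ 2) (ρ : F ≃+* F) : FF hF →+* FF hF where
  toFun x := ⟨ρ x, by
    rw [mem_FF, frob_apply, ← map_pow, ← frob_apply hF]
    exact congrArg ρ ((mem_FF hF).1 x.2)⟩
  map_one' := Subtype.ext (map_one ρ)
  map_mul' x y := Subtype.ext (map_mul ρ _ _)
  map_zero' := Subtype.ext (map_zero ρ)
  map_add' x y := Subtype.ext (map_add ρ _ _)

theorem rep_rho (hF : Fintype.card F = q ^ 2) (ρ : F ≃+* F) (B : Matrix.SpecialLinearGroup (Fin 2) (FF hF)) :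
    rep hF (Matrix.SpecialLinearGroup.map (rhoF hF ρ) B) = (rep hF B).map ρ := by
  have h : ∀ i j, (((Matrix.SpecialLinearGroup.map (rhoF hF ρ) B).1 i j : FF hF) : F) = ρ (B.1 i j : F) := by
    intro i j
    rfl
  rw [rep, h, h, h, h, rep]
  have h2 : ρ 2 = 2 := map_ofNat ρ 2
  ext i j
  fin_cases i <;> fin_cases j <;> simp [sq2, h2]

theorem symP_rho (hF : Fintype.card F = q ^ 2) (h2 : (2 : F) ≠ 0) {P : Matrix (Fin 3) (Fin 3) F} {r : F}
    (hr : r ≠ 0) (hP : Pᵀ * P.map (frob hF) = gram r) {ρ : F ≃+* F} (hρ : P.map ρ = P)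
    (B : Matrix.SpecialLinearGroup (Fin 2) (FF hF)) :
    toAut (1 : GU 3 F q) ρ (pr 3 F q (symP hF h2 hr hP B)) =
      pr 3 F q (symP hF h2 hr hP (Matrix.SpecialLinearGroup.map (rhoF hF ρ) B)) := by
  rw [toAut_pr']
  congr 1
  apply mat_ext
  have hPi : (P⁻¹).map ρ = P⁻¹ := by
    have h1 := Matrix.mul_nonsing_inv _ (det_P hF hr hP)
    have h3 : P * (P⁻¹).map ρ = 1 := by
      have h4 : P.map ρ * (P⁻¹).map ρ = 1 := by
        rw [← Matrix.map_mul, h1, Matrix.map_one _ (map_zero _) (map_one _)]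
      rwa [hρ] at h4
    calc (P⁻¹).map ρ = (P⁻¹ * P) * (P⁻¹).map ρ := by rw [Matrix.nonsing_inv_mul _ (det_P hF hr hP), one_mul]
      _ = P⁻¹ * (P * (P⁻¹).map ρ) := by rw [Matrix.mul_assoc]
      _ = _ := by rw [h3, mul_one]
  rw [gm_semi, mat_symP, mat_symP, rep_rho, gm_one, inv_one, gm_one, one_mul, mul_one, Matrix.map_mul, Matrix.map_mul,
    hρ, hPi]

/-- a basis over the fixed field of `ρ` -/
theorem exists_P (hF : Fintype.card F = q ^ 2) (h2 : (2 : F) ≠ 0) {ρ : F ≃+* F} {p : ℕ} (hord : orderOf ρ = p)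
    (hodd : Odd p) : ∃ P : Matrix (Fin 3) (Fin 3) F, Pᵀ * P.map (frob hF) = gram 1 ∧ P.map ρ = P := by
  obtain ⟨s, hs2, hs, hq⟩ := exists_s' hF hord hodd
  let _ : Fintype ↥(fixf ρ) := Fintype.ofFinite _
  have hF₀ : Fintype.card ↥(fixf ρ) = s ^ 2 := by rw [← Nat.card_eq_fintype_card, hs]
  -- a scalar of norm `-1`
  have hsodd : Odd s := by
    have h3 := odd_of_two_ne hF h2
    rw [hq] at h3
    exact Odd.of_dvd_nat h3 (dvd_pow_self s (by rintro rfl; simp at hodd))
  obtain ⟨l, hl0, hl⟩ := LieClassical.HermBasic.exists_norm_eq_ne hF₀ (c := (-1 : ↥(fixf ρ)))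
    (by rw [hsodd.neg_one_pow]) (neg_ne_zero.2 one_ne_zero)
  have hlq : (l : F) ^ q = (l : F) ^ s := pow_q hodd hs hq l.2
  have hl' : (l : F) * (l : F) ^ q = -1 := by
    rw [hlq]
    have := congrArg (fun x : ↥(fixf ρ) => (x : F)) hl
    push_cast at this
    linear_combination this
  have hlρ : ρ (l : F) = l := mem_fixf.1 l.2
  have h2i : frob hF (2⁻¹ : F) = 2⁻¹ := by rw [map_inv₀, map_ofNat]
  have h2ρ : ρ (2⁻¹ : F) = 2⁻¹ := by rw [map_inv₀, map_ofNat]
  have hfl : frob hF (l : F) = (l : F) ^ q := frob_apply hF _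
  refine ⟨!![1, 0, 2⁻¹; (l : F), 0, -((l : F) * 2⁻¹); 0, (l : F), 0], ?_, ?_⟩
  · have h3 : (2 : F) * 2⁻¹ = 1 := mul_inv_cancel₀ h2
    ext i j
    fin_cases i <;> fin_cases j <;>
      simp only [Cfsg.Agent.H724.UThree.gram, Matrix.mul_apply, Fin.sum_univ_three, Matrix.transpose_apply, Matrix.map_apply, Matrix.of_apply,
        Matrix.cons_val', Matrix.cons_val_zero, Matrix.cons_val_one, Matrix.cons_val, Matrix.cons_val_fin_one,
        Fin.zero_eta, Fin.mk_one, Fin.reduceFinMk, map_one, map_zero, map_neg, map_mul, h2i, hfl, mul_zero, zero_mul,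
        add_zero, zero_add, mul_one, one_mul, neg_zero]
    · linear_combination hl'
    · linear_combination -(2⁻¹ : F) * hl' + h3
    · linear_combination hl'
    · linear_combination -(2⁻¹ : F) * hl' + h3
    · linear_combination (2⁻¹ * 2⁻¹ : F) * hl'
  · have h2' : ρ 2 = 2 := map_ofNat ρ 2
    ext i j
    fin_cases i <;> fin_cases j <;> simp [hlρ, h2']

/-- **Field automorphisms, `q` odd.** -/
theorem ns_field_odd (hF : Fintype.card F = q ^ 2) (h2 : (2 : F) ≠ 0) {p : ℕ} [hp : Fact p.Prime] (hp3 : 3 ≤ p)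
    (hI : SubI p (PSU 3 F q)) [Finite (PSU 3 F q)] {A : GU 3 F q} {ρ : F ≃+* F}
    (hx : orderOf (toAut A ρ) = p) (hρ : ρ ≠ 1) : NS (toAut A ρ) := by
  have hodd := hp.out.odd_of_ne_two (by omega)
  have hxp : toAut A ρ ^ p = 1 := by rw [← hx]; exact pow_orderOf_eq_one _
  obtain ⟨hord, M, hM⟩ := exists_conj hF le_rfl hp.out (by omega) hxp hρ
  obtain ⟨s, hs2, hs', hq⟩ := exists_s' hF hord hodd
  have hqs : s ^ 3 ≤ q := by rw [hq]; exact Nat.pow_le_pow_right (by omega) hp3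
  have hs3 : s ^ 2 * 2 ≤ s ^ 3 := by rw [pow_succ s 2]; exact Nat.mul_le_mul_left _ hs2
  have hs4 : 2 ^ 2 ≤ s ^ 2 := Nat.pow_le_pow_left hs2 2
  have hx' : orderOf (toAut (1 : GU 3 F q) ρ) = p := by
    rw [hM] at hx
    rw [← hx]
    exact (orderOf_injective (MulAut.conj (toAut M 1)).toMonoidHom (MulAut.conj (toAut M 1)).injective _).symm
  rw [hM]
  have h0 : NS (toAut (1 : GU 3 F q) ρ) := by
    obtain ⟨P, hP, hPρ⟩ := exists_P hF h2 hord hodd
    obtain ⟨h3, h4, h5⟩ := sym_simple hF (by omega) h2 one_ne_zero hP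
    refine ns_sub hI hx' h3 h4 h5 ?_ ?_
    · rintro _ ⟨B, rfl⟩
      refine ⟨Matrix.SpecialLinearGroup.map (rhoF hF ρ) B, ?_⟩
      rw [MonoidHom.comp_apply, MonoidHom.comp_apply, symP_rho hF h2 one_ne_zero hP hPρ]
    · -- an element of the fixed field moved by `ρ`
      obtain ⟨t, ht⟩ : ∃ t : FF hF, ρ t ≠ t := by
        by_contra hcon
        push Not at hcon
        have h6 : Nat.card (FF hF) ≤ Nat.card ↥(fixf ρ) := by
          refine Nat.card_le_card_of_injective (fun t : FF hF => (⟨t, mem_fixf.2 (hcon t)⟩ : ↥(fixf ρ))) ?_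
          intro a b hab
          exact Subtype.ext (congrArg (fun x : ↥(fixf ρ) => (x : F)) hab)
        rw [card_FF hF, hs'] at h6
        omega
      let B : Matrix.SpecialLinearGroup (Fin 2) (FF hF) := ⟨!![1, t; 0, 1], by simp [Matrix.det_fin_two]⟩
      refine ⟨_, ⟨B, rfl⟩, fun h6 => ?_⟩
      rw [MonoidHom.comp_apply, symP_rho hF h2 one_ne_zero hP hPρ] at h6
      have h7 : pr 3 F q (symP hF h2 one_ne_zero hP (B⁻¹ * Matrix.SpecialLinearGroup.map (rhoF hF ρ) B)) = 1 := by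
        rw [map_mul, map_mul, h6, map_inv, map_inv, inv_mul_cancel]
      have h8 := (pr_symP hF h2 one_ne_zero hP h7).1
      have h9 : (B⁻¹ * Matrix.SpecialLinearGroup.map (rhoF hF ρ) B).1 0 1 = rhoF hF ρ t - t := by
        rw [Matrix.SpecialLinearGroup.coe_mul, Matrix.SpecialLinearGroup.coe_inv, Matrix.mul_apply, Fin.sum_univ_two]
        have e0 : (Matrix.SpecialLinearGroup.map (rhoF hF ρ) B).1 0 1 = rhoF hF ρ t := rfl
        have e1 : (Matrix.SpecialLinearGroup.map (rhoF hF ρ) B).1 1 1 = rhoF hF ρ 1 := rfl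
        have hB : B.1 = !![1, t; 0, 1] := rfl
        rw [hB, Matrix.adjugate_fin_two_of, e0, e1, map_one]
        simp
        ring
      rw [h9] at h8
      apply ht
      have h10 : ((rhoF hF ρ t - t : FF hF) : F) = ρ t - t := rfl
      rw [h10] at h8
      exact sub_eq_zero.1 h8
  apply ns_of_conj (g := (toAut M 1)⁻¹)
  have h2 : (toAut M 1)⁻¹ * (toAut M 1 * toAut 1 ρ * (toAut M 1)⁻¹) * ((toAut M 1)⁻¹)⁻¹ = toAut 1 ρ := by group
  rw [h2]
  exact h0

end Cfsg.Agent.H623.InvPsu3
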