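import Cfsg.Agent.PermutationGroups.TwoTransitiveNormal
import Cfsg.Agent.PermutationGroups.PrimeDegree
import Cfsg.Agent.SporadicA.PrimeDegNorm

/-!
Transitive groups of prime degree and maximal subgroups meeting a point stabiliser in a maximal
subgroup: general reduction.
-/

set_option autoImplicit false

namespace Cfsg.Agent.H623.PD

open MulAction Subgroup
open scoped Pointwise

section Coatom

variable {G : Type*} [Group G]

theorem isCoatom_subgroupOf_iff {U M : Subgroup G} (hUM : U ≤ M) :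
    IsCoatom (U.subgroupOf M) ↔ U ≠ M ∧ ∀ X : Subgroup G, U ≤ X → X ≤ M → X = U ∨ X = M := by
  constructor
  · intro h
    refine ⟨fun h1 => h.1 (by rw [h1]; exact subgroupOf_self M), fun X hUX hXM => ?_⟩
    by_cases h2 : X = U
    · exact Or.inl h2
    · right
      have h3 : U.subgroupOf M < X.subgroupOf M := by
        refine lt_of_le_of_ne (fun x hx => hUX hx) fun h4 => h2 ?_
        refine le_antisymm (fun x hx => ?_) hUX
        have h5 : (⟨x, hXM hx⟩ : M) ∈ X.subgroupOf M := hx
        rw [← h4] at h5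
        exact h5
      have h4 := h.2 _ h3
      exact le_antisymm hXM (subgroupOf_eq_top.1 h4)
  · rintro ⟨h1, h2⟩
    refine ⟨fun h3 => h1 (le_antisymm hUM (subgroupOf_eq_top.1 h3)), fun Y hY => ?_⟩
    have h3 : U ≤ Y.map M.subtype := by
      intro x hx
      exact ⟨⟨x, hUM hx⟩, hY.le (show (⟨x, hUM hx⟩ : M) ∈ U.subgroupOf M from hx), rfl⟩
    have h4 : Y.map M.subtype ≤ M := map_subtype_le Y
    rcases h2 _ h3 h4 with h5 | h5
    · exfalso
      apply hY.ne
      apply le_antisymm hY.le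
      intro y hy
      have : (y : G) ∈ Y.map M.subtype := ⟨y, hy, rfl⟩
      rw [h5] at this
      exact this
    · rw [eq_top_iff]
      intro y _
      have : (y : G) ∈ Y.map M.subtype := by rw [h5]; exact y.2
      obtain ⟨z, hz, hzy⟩ := this
      have : z = y := Subtype.ext hzy
      rwa [← this]

/-- A subgroup of prime relative index is maximal. -/
theorem of_relIndex_prime {U M : Subgroup G} (_ : U ≤ M) (hp : (U.relIndex M).Prime) :
    U ≠ M ∧ ∀ X : Subgroup G, U ≤ X → X ≤ M → X = U ∨ X = M := by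
  refine ⟨fun h => ?_, fun X hUX hXM => ?_⟩
  · rw [h, relIndex_self] at hp
    exact hp.ne_one rfl
  · have h1 := relIndex_mul_relIndex U X M hUX hXM
    rw [← h1] at hp
    rcases Nat.prime_mul_iff.1 hp with ⟨-, h2⟩ | ⟨-, h2⟩
    · right
      exact le_antisymm hXM (relIndex_eq_one.1 h2)
    · left
      exact le_antisymm (relIndex_eq_one.1 h2) hUX

end Coatom

/-- The configuration of a counterexample. -/
structure Bad (G : Type*) {Ω : Type*} [Group G] [MulAction G Ω] (a : Ω) (B Γ : Set Ω) : Prop where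
  mem : a ∈ B
  sub : B ⊂ Γ
  ne : ∃ x ∈ B, x ≠ a
  ne_univ : ∃ y, y ∉ Γ
  eqU : stabilizer G a ⊓ stabilizer G B = stabilizer G a ⊓ stabilizer G Γ
  max : ∀ X : Subgroup G, stabilizer G a ⊓ stabilizer G B ≤ X → X ≤ stabilizer G a →
    X = stabilizer G a ⊓ stabilizer G B ∨ X = stabilizer G a
  le : stabilizer G B ≤ stabilizer G Γ
  trB : ∀ x ∈ B, ∃ g ∈ stabilizer G B, g • a = x
  trΓ : ∀ x ∈ Γ, ∃ g ∈ stabilizer G Γ, g • a = x
  notcompl : ∀ c : Ω, Γ ≠ {c}ᶜ

section Reduce

variable {G Ω : Type*} [Group G] [MulAction G Ω]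

theorem orbit_facts (K : Subgroup G) (a : Ω) :
    K ≤ stabilizer G (orbit K a) := by
  intro k hk
  rw [mem_stabilizer_iff]
  exact smul_orbit (⟨k, hk⟩ : K) a

/-- Two-transitivity as used here. -/
def TwoTr (G : Type*) (Ω : Type*) [Group G] [MulAction G Ω] : Prop :=
  ∀ a b c d : Ω, a ≠ b → c ≠ d → ∃ g : G, g • a = c ∧ g • b = d

theorem inf_ne_of_twoTr (h2 : TwoTr G Ω) {a : Ω} {B : Set Ω} (haB : a ∈ B)
    (hne : ∃ x ∈ B, x ≠ a) (hun : ∃ y, y ∉ B) : stabilizer G a ⊓ stabilizer G B ≠ stabilizer G a := by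
  intro h
  obtain ⟨x, hx, hxa⟩ := hne
  obtain ⟨y, hy⟩ := hun
  have hya : y ≠ a := fun h' => hy (h' ▸ haB)
  obtain ⟨g, hg1, hg2⟩ := h2 a x a y hxa.symm hya.symm
  have h3 : g ∈ stabilizer G a := hg1
  rw [← h] at h3
  have h4 : g • B = B := h3.2
  apply hy
  rw [← hg2, ← h4]
  exact Set.smul_mem_smul_set hx

theorem card_of_transOn {K : Subgroup G} {a : Ω} (B : Set Ω)
    (hB : orbit K a = B) : Nat.card K = B.ncard * Nat.card (stabilizer G a ⊓ K : Subgroup G) := by
  have h1 := (stabilizer K a).index_mul_card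
  rw [index_stabilizer, hB] at h1
  rw [← h1]
  congr 1
  have : (stabilizer K a) = (stabilizer G a).subgroupOf K := by
    ext x; rfl
  rw [this, ← inf_subgroupOf_right]
  exact Nat.card_congr (subgroupOfEquivOfLe inf_le_right).toEquiv

theorem reduction [Finite G] (h2 : TwoTr G Ω) (a : Ω) (M : Subgroup G) (hM : IsCoatom M)
    (hmax : IsCoatom ((M ⊓ stabilizer G a).subgroupOf (stabilizer G a)))
    (hint : orbit M a ≠ Set.univ) (hprim : IsCoatom (stabilizer G a))
    (hcon : ¬ IsCoatom ((M ⊓ stabilizer G a).subgroupOf M)) :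
    ∃ B Γ : Set Ω, Bad G a B Γ := by
  rw [isCoatom_subgroupOf_iff inf_le_right] at hmax
  rw [isCoatom_subgroupOf_iff inf_le_left] at hcon
  obtain ⟨hU1, hU2⟩ := hmax
  -- `M` is not contained in the stabiliser
  have hMH : ¬ M ≤ stabilizer G a := by
    intro h
    rcases hM.le_iff.1 h with h3 | h3
    · exact hprim.1 h3
    · apply hU1
      rw [h3, inf_idem]
  have hUM : M ⊓ stabilizer G a ≠ M := fun h => hMH (inf_eq_left.1 h)
  push Not at hcon
  obtain ⟨K, hUK, hKM, hKU, hKM'⟩ := hcon hUM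
  have hKH : K ⊓ stabilizer G a = M ⊓ stabilizer G a :=
    le_antisymm (inf_le_inf_right _ hKM) (le_inf hUK inf_le_right)
  have hKH' : ¬ K ≤ stabilizer G a := by
    intro h
    apply hKU
    rw [← hKH]
    exact (inf_eq_left.2 h).symm
  set Γ := orbit M a with hΓ
  set B := orbit K a with hB
  have haB : a ∈ B := mem_orbit_self a
  have haΓ : a ∈ Γ := mem_orbit_self a
  have hBΓ : B ⊆ Γ := by
    rintro x ⟨k, rfl⟩
    exact ⟨⟨k, hKM k.2⟩, rfl⟩
  have hBne : ∃ x ∈ B, x ≠ a := by
    by_contra hcon'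
    push Not at hcon'
    exact hKH' fun k hk => hcon' _ ⟨⟨k, hk⟩, rfl⟩
  have hΓne : ∃ y, y ∉ Γ := by
    by_contra hcon'
    push Not at hcon'
    exact hint (Set.eq_univ_of_forall hcon')
  have cardK := card_of_transOn (K := K) B rfl
  have cardM := card_of_transOn (K := M) Γ rfl
  rw [inf_comm, hKH] at cardK
  rw [inf_comm] at cardM
  have hBΓ' : B ≠ Γ := by
    intro h
    apply hKM'
    rw [h] at cardK
    apply SetLike.coe_injective
    apply Set.eq_of_subset_of_ncard_le hKM _ (Set.toFinite _)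
    rw [← Nat.card_coe_set_eq, ← Nat.card_coe_set_eq]
    exact (cardM.trans cardK.symm).le
  have hBss : B ⊂ Γ := lt_of_le_of_ne hBΓ hBΓ'
  have hΓM : stabilizer G Γ = M := by
    rcases hM.le_iff.1 (orbit_facts M a) with h3 | h3
    · exfalso
      obtain ⟨y, hy⟩ := hΓne
      obtain ⟨x, hx, hxa⟩ := hBne
      obtain ⟨g, hg1, -⟩ := h2 a x y a hxa.symm (fun h => hy (h ▸ haΓ))
      have h4 : g ∈ stabilizer G Γ := by rw [h3]; exact mem_top g
      have h5 : g • Γ = Γ := h4
      apply hy
      rw [← hg1, ← h5]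
      exact Set.smul_mem_smul_set haΓ
    · exact h3
  have hUB : stabilizer G a ⊓ stabilizer G B = M ⊓ stabilizer G a := by
    have h3 : M ⊓ stabilizer G a ≤ stabilizer G a ⊓ stabilizer G B :=
      le_inf inf_le_right (le_trans (by rw [← hKH]; exact inf_le_left) (orbit_facts K a))
    rcases hU2 _ h3 inf_le_left with h4 | h4
    · exact h4
    · exfalso
      obtain ⟨y, hy⟩ := hΓne
      exact inf_ne_of_twoTr h2 haB hBne ⟨y, fun h => hy (hBΓ h)⟩ h4
  have hBK : stabilizer G B = K := by
    have h3 : orbit (stabilizer G B) a = B := by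
      apply le_antisymm
      · rintro x ⟨k, rfl⟩
        have h5 : (k : G) • B = B := k.2
        have h6 : (k : G) • a ∈ (k : G) • B := Set.smul_mem_smul_set haB
        rw [h5] at h6
        exact h6
      · rintro x ⟨k, rfl⟩
        exact ⟨⟨k, orbit_facts K a k.2⟩, rfl⟩
    have h4 := card_of_transOn (K := stabilizer G B) B h3
    rw [hUB] at h4
    symm
    apply SetLike.coe_injective
    apply Set.eq_of_subset_of_ncard_le (orbit_facts K a) _ (Set.toFinite _)
    rw [← Nat.card_coe_set_eq, ← Nat.card_coe_set_eq]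
    exact (h4.trans cardK.symm).le
  refine ⟨B, Γ, haB, hBss, hBne, hΓne, ?_, ?_, ?_, ?_, ?_, ?_⟩
  · rw [hUB, hΓM, inf_comm]
  · intro X h3 h4
    rw [hUB] at h3 ⊢
    exact hU2 X h3 h4
  · rw [hBK, hΓM]; exact hKM
  · rintro x ⟨k, rfl⟩
    exact ⟨k, orbit_facts K a k.2, rfl⟩
  · rintro x ⟨k, rfl⟩
    exact ⟨k, orbit_facts M a k.2, rfl⟩
  · intro c hc
    -- `Γ = {c}ᶜ`, so `M` is the stabiliser of `c`
    have hac : a ≠ c := by
      intro h
      have : a ∈ ({c}ᶜ : Set Ω) := hc ▸ haΓ
      exact this h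
    have hMc : M = stabilizer G c := by
      rw [← hΓM, hc, stabilizer_compl, stabilizer_singleton]
    obtain ⟨g, hg1, hg2⟩ := h2 a c c a hac hac.symm
    -- transport `K` by `g`
    have h3 : M ⊓ stabilizer G a ≤ K.map (MulAut.conj g).toMonoidHom := by
      intro x hx
      refine ⟨g⁻¹ * x * g, hUK ⟨?_, ?_⟩, by simp [mul_assoc]⟩
      · rw [hMc]
        change (g⁻¹ * x * g) • c = c
        rw [mul_smul, mul_smul, hg2]
        rw [show x • a = a from hx.2, ← hg2, inv_smul_smul]
      · change (g⁻¹ * x * g) • a = a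
        rw [mul_smul, mul_smul, hg1]
        have h5 : x ∈ stabilizer G c := hMc ▸ hx.1
        rw [show x • c = c from h5, ← hg1, inv_smul_smul]
    have h4 : K.map (MulAut.conj g).toMonoidHom ≤ stabilizer G a := by
      rintro _ ⟨k, hk, rfl⟩
      have h5 : k ∈ stabilizer G c := hMc ▸ (hKM hk)
      rw [mem_stabilizer_iff]
      change (g * k * g⁻¹) • a = a
      rw [mul_smul, mul_smul]
      have h6 : g⁻¹ • a = c := by rw [← hg2, inv_smul_smul]
      rw [h6, show k • c = c from h5, hg2]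
    have hcard : Nat.card (K.map (MulAut.conj g).toMonoidHom) = Nat.card K :=
      Nat.card_congr (K.equivMapOfInjective _ (MulAut.conj g).injective).toEquiv.symm
    have hHc : Nat.card (stabilizer G a) = Nat.card M := by
      rw [hMc]
      have h7 : stabilizer G (g • a) = (stabilizer G a).map (MulAut.conj g).toMonoidHom :=
        stabilizer_smul_eq_stabilizer_map_conj g a
      rw [hg1] at h7
      rw [h7]
      exact Nat.card_congr ((stabilizer G a).equivMapOfInjective _ (MulAut.conj g).injective).toEquiv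
    rcases hU2 _ h3 h4 with h5 | h5
    · apply hKU
      symm
      apply SetLike.coe_injective
      apply Set.eq_of_subset_of_ncard_le hUK _ (Set.toFinite _)
      rw [← Nat.card_coe_set_eq, ← Nat.card_coe_set_eq]
      change Nat.card K ≤ Nat.card (M ⊓ stabilizer G a : Subgroup G)
      rw [← hcard, h5]
    · apply hKM'
      apply SetLike.coe_injective
      apply Set.eq_of_subset_of_ncard_le hKM _ (Set.toFinite _)
      rw [← Nat.card_coe_set_eq, ← Nat.card_coe_set_eq]
      change Nat.card M ≤ Nat.card K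
      rw [← hcard, h5, hHc]

end Reduce

end Cfsg.Agent.H623.PD
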