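import Cfsg.Agent.H623.PDNum

/-!
Degree 23: elimination with a perfect code.
-/

set_option autoImplicit false
set_option linter.unusedSectionVars false

namespace Cfsg.Agent.H623.PD

open MulAction Subgroup
open scoped Pointwise

/-- An invariant perfect code of sets. -/
structure GCode (G Ω : Type*) [Group G] [MulAction G Ω] where
  C : Set (Set Ω)
  inv : ∀ (g : G) (c : Set Ω), c ∈ C → g • c ∈ C
  perf : ∀ S : Set Ω, ∃ c ∈ C, (symmDiff S c).ncard ≤ 3
  uniq : ∀ S c c' : Set Ω, c ∈ C → c' ∈ C → (symmDiff S c).ncard ≤ 3 →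
    (symmDiff S c').ncard ≤ 3 → c = c'
  wt : ∀ c ∈ C, c.ncard = 0 ∨ c.ncard = 7 ∨ c.ncard = 8 ∨ c.ncard = 11 ∨ c.ncard = 12 ∨
    c.ncard = 15 ∨ c.ncard = 16 ∨ c.ncard = 23
  cnt : {c | c ∈ C ∧ c.ncard = 16}.ncard ≤ 253

section

variable {G Ω : Type*} [Group G] [MulAction G Ω] [Finite G] [Finite Ω]

/-- Moving a point fixing at most three points. -/
theorem exists_move4 (h4 : IsMultiplyPretransitive G Ω 4) {a b c x y : Ω} (hab : a ≠ b)
    (hac : a ≠ c) (hbc : b ≠ c) (hax : a ≠ x) (hbx : b ≠ x) (hcx : c ≠ x) (hay : a ≠ y)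
    (hby : b ≠ y) (hcy : c ≠ y) : ∃ g : G, g • a = a ∧ g • b = b ∧ g • c = c ∧ g • x = y := by
  rw [isMultiplyPretransitive_iff] at h4
  obtain ⟨g, hg⟩ := h4 (⟨![a, b, c, x], by
      intro i j h
      fin_cases i <;> fin_cases j <;>
        simp [hab, hac, hbc, hax, hbx, hcx, hab.symm, hac.symm, hbc.symm, hax.symm, hbx.symm,
          hcx.symm] at h ⊢⟩ : Fin 4 ↪ Ω) ⟨![a, b, c, y], by
      intro i j h
      fin_cases i <;> fin_cases j <;>
        simp [hab, hac, hbc, hay, hby, hcy, hab.symm, hac.symm, hbc.symm, hay.symm, hby.symm,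
          hcy.symm] at h ⊢⟩
  exact ⟨g, DFunLike.congr_fun hg 0, DFunLike.congr_fun hg 1, DFunLike.congr_fun hg 2,
    DFunLike.congr_fun hg 3⟩

theorem exists_move3 (h4 : IsMultiplyPretransitive G Ω 4) {a x y z x' y' z' : Ω}
    (hax : a ≠ x) (hay : a ≠ y) (haz : a ≠ z) (hxy : x ≠ y) (hxz : x ≠ z) (hyz : y ≠ z)
    (hax' : a ≠ x') (hay' : a ≠ y') (haz' : a ≠ z') (hxy' : x' ≠ y') (hxz' : x' ≠ z')
    (hyz' : y' ≠ z') : ∃ g : G, g • a = a ∧ g • x = x' ∧ g • y = y' ∧ g • z = z' := by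
  rw [isMultiplyPretransitive_iff] at h4
  obtain ⟨g, hg⟩ := h4 (⟨![a, x, y, z], by
      intro i j h
      fin_cases i <;> fin_cases j <;>
        simp [hax, hay, haz, hxy, hxz, hyz, hax.symm, hay.symm, haz.symm, hxy.symm, hxz.symm,
          hyz.symm] at h ⊢⟩ : Fin 4 ↪ Ω) ⟨![a, x', y', z'], by
      intro i j h
      fin_cases i <;> fin_cases j <;>
        simp [hax', hay', haz', hxy', hxz', hyz', hax'.symm, hay'.symm, haz'.symm, hxy'.symm,
          hxz'.symm, hyz'.symm] at h ⊢⟩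
  exact ⟨g, DFunLike.congr_fun hg 0, DFunLike.congr_fun hg 1, DFunLike.congr_fun hg 2,
    DFunLike.congr_fun hg 3⟩

theorem GCode.smul_eq (𝒞 : GCode G Ω) {S c : Set Ω} (hc : c ∈ 𝒞.C) (hS : (symmDiff S c).ncard ≤ 3)
    {g : G} (hg : g • S = S) : g • c = c := by
  apply 𝒞.uniq S _ _ (𝒞.inv g c hc) hc _ hS
  have h1 : symmDiff S (g • c) = g • symmDiff S c := by
    rw [Set.smul_set_symmDiff, hg]
  rw [h1, Set.ncard_smul_set]
  exact hS

/-- Analysis of one set. -/
theorem half (𝒞 : GCode G Ω) (h4 : IsMultiplyPretransitive G Ω 4) (h2 : TwoTr G Ω) {a : Ω}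
    {B Γ : Set Ω} (hbad : Bad G a B Γ) (S : Set Ω) (haS : a ∈ S)
    (htr : ∀ x ∈ S, ∃ g ∈ stabilizer G S, g • a = x)
    (hUS : UU G a B = stabilizer G a ⊓ stabilizer G S) (hS4 : 4 ≤ S.ncard) :
    S ∈ 𝒞.C ∨ ∃ T : Set Ω, (T.ncard = 1 ∨ T.ncard = 2) ∧ a ∉ T ∧ Disjoint S T ∧
      UU G a B = stabilizer G a ⊓ stabilizer G T := by
  classical
  obtain ⟨c, hc, hc3⟩ := 𝒞.perf S
  have hSc : S ⊆ c := by
    by_contra hcon
    -- then `S ∩ c` is empty
    have hdis : ∀ x ∈ S, x ∉ c := by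
      intro x hx hxc
      apply hcon
      intro y hy
      obtain ⟨g, hg, hgx⟩ := htr x hx
      obtain ⟨g', hg', hgy⟩ := htr y hy
      have h5 : (g' * g⁻¹) • c = c := 𝒞.smul_eq hc hc3
        ((stabilizer G S).mul_mem hg' ((stabilizer G S).inv_mem hg))
      have h6 : (g' * g⁻¹) • x = y := by rw [mul_smul, ← hgx, inv_smul_smul, hgy]
      rw [← h6, ← h5]
      exact Set.smul_mem_smul_set hxc
    have h7 : S ⊆ symmDiff S c := by
      intro x hx
      exact Or.inl ⟨hx, hdis x hx⟩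
    have h8 := Set.ncard_le_ncard h7
    omega
  by_cases hT0 : c = S
  · left
    rw [← hT0]
    exact hc
  right
  set T : Set Ω := c \ S with hT
  have hsd : symmDiff S c = T := by
    ext x
    rw [Set.mem_symmDiff]
    constructor
    · rintro (⟨h, h'⟩ | h)
      · exact absurd (hSc h) h'
      · exact h
    · exact fun h => Or.inr h
  rw [hsd] at hc3
  have haT : a ∉ T := fun h => h.2 haS
  have hTne : T.Nonempty := by
    by_contra hcon
    rw [Set.not_nonempty_iff_eq_empty, hT, Set.sdiff_eq_empty] at hcon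
    exact hT0 (Set.Subset.antisymm hcon hSc)
  have hdisj : Disjoint S T := by
    rw [Set.disjoint_left]
    exact fun x hx h => h.2 hx
  have hstabT : ∀ g : G, g • S = S → g • T = T := by
    intro g hg
    have h5 : g • c = c := 𝒞.smul_eq hc (by rw [hsd]; exact hc3) hg
    rw [hT, Set.smul_set_sdiff, h5, hg]
  obtain ⟨t0, ht0⟩ := hTne
  obtain ⟨s0, hs0, hs0a⟩ : ∃ s ∈ S, s ≠ a := by
    by_contra hcon
    push Not at hcon
    have h9 : S ⊆ {a} := fun x hx => hcon x hx
    have h10 := Set.ncard_le_ncard h9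
    rw [Set.ncard_singleton] at h10
    omega
  have hUT : UU G a B = stabilizer G a ⊓ stabilizer G T := by
    have h5 : UU G a B ≤ stabilizer G a ⊓ stabilizer G T := by
      rw [hUS]
      exact fun g hg => ⟨hg.1, hstabT g hg.2⟩
    rcases hbad.max _ h5 inf_le_left with h6 | h6
    · exact h6.symm
    · exfalso
      obtain ⟨g, hg1, hg2⟩ := h2 a t0 a s0 (fun h => haT (h ▸ ht0)) hs0a.symm
      have h7 : g ∈ stabilizer G a ⊓ stabilizer G T := by rw [h6]; exact hg1
      have h8 : g • T = T := h7.2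
      have h9 : s0 ∈ T := by
        rw [← hg2, ← h8]
        exact Set.smul_mem_smul_set ht0
      exact h9.2 hs0
  refine ⟨T, ?_, haT, hdisj, hUT⟩
  have hTpos : 0 < T.ncard := (Set.ncard_pos).2 ⟨t0, ht0⟩
  by_contra hcon
  have hT3 : T.ncard = 3 := by omega
  -- the case `|T| = 3`
  obtain ⟨x, y, z, hxy, hxz, hyz, hxyz⟩ := Set.ncard_eq_three.1 hT3
  have hxT : x ∈ T := by rw [hxyz]; simp
  have hyT : y ∈ T := by rw [hxyz]; simp
  have hzT : z ∈ T := by rw [hxyz]; simp
  set X : Set Ω := insert a T with hX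
  have hX4 : X.ncard = 4 := by rw [hX, Set.ncard_insert_of_notMem haT, hT3]
  obtain ⟨Y, hY, hY3⟩ := 𝒞.perf X
  have hY7 : 7 ≤ Y.ncard := by
    have h5 := 𝒞.wt Y hY
    have h6 : Y.ncard ≠ 0 := by
      intro h0
      rw [Set.ncard_eq_zero] at h0
      rw [h0] at hY3
      have h7 : symmDiff X (∅ : Set Ω) = X := symmDiff_bot X
      rw [h7, hX4] at hY3
      omega
    omega
  have hYX : (Y \ X).ncard + X.ncard ≥ Y.ncard := by
    have h5 : Y ⊆ (Y \ X) ∪ X := by rw [Set.sdiff_union_self]; exact Set.subset_union_left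
    exact (Set.ncard_le_ncard h5).trans (Set.ncard_union_le _ _)
  have hsub1 : Y \ X ⊆ symmDiff X Y := fun w hw => Or.inr hw
  have hsub2 : X \ Y ⊆ symmDiff X Y := fun w hw => Or.inl hw
  have hYX3 : (Y \ X).ncard = 3 := by
    have := Set.ncard_le_ncard hsub1
    omega
  have hsdY : symmDiff X Y = Y \ X := by
    symm
    apply Set.eq_of_subset_of_ncard_le hsub1 _ (Set.toFinite _)
    omega
  have hXY : X ⊆ Y := by
    intro w hw
    by_contra hwY
    have h5 : w ∈ symmDiff X Y := Or.inl ⟨hw, hwY⟩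
    rw [hsdY] at h5
    exact h5.2 hw
  have haY : a ∈ Y := hXY (Set.mem_insert _ _)
  have hYcard : Y.ncard = 7 := by rw [hX4, hYX3] at hYX; omega
  -- `U` is the stabiliser of `Y`
  have hUY : UU G a B = stabilizer G a ⊓ stabilizer G Y := by
    have h5 : UU G a B ≤ stabilizer G a ⊓ stabilizer G Y := by
      intro g hg
      refine ⟨UU_le hg, 𝒞.smul_eq hY hY3 ?_⟩
      rw [hUT] at hg
      rw [hX, Set.smul_set_insert, show g • a = a from hg.1, show g • T = T from hg.2]
    rcases hbad.max _ h5 inf_le_left with h6 | h6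
    · exact h6.symm
    · exfalso
      have h7 : ∃ w, w ∉ Y := by
        by_contra hcon'
        push Not at hcon'
        have h8 : Y = Set.univ := Set.eq_univ_of_forall hcon'
        have h9 : c.ncard ≤ Y.ncard := by rw [h8]; exact Set.ncard_le_ncard (Set.subset_univ _)
        have h10 := hbad.add_two_le
        have h11 : Y.ncard = Nat.card Ω := by rw [h8, Set.ncard_univ]
        have h12 := hbad.two_mul_le
        have h13 := hbad.le_of_multi 4 (by omega) ⊤ (by
          rw [isMultiplyPretransitive_iff] at h4 ⊢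
          intro f f'
          obtain ⟨g, hg⟩ := h4 f f'
          exact ⟨⟨g, mem_top g⟩, hg⟩)
        omega
      obtain ⟨w, hw⟩ := h7
      obtain ⟨g, hg1, hg2⟩ := h2 a x a w (fun h => haT (h ▸ hxT)) (fun h => hw (h ▸ haY))
      have h7 : g ∈ stabilizer G a ⊓ stabilizer G Y := by rw [h6]; exact hg1
      have h8 : g • Y = Y := h7.2
      apply hw
      rw [← hg2, ← h8]
      exact Set.smul_mem_smul_set (hXY (Set.mem_insert_of_mem _ hxT))
  -- another triple
  obtain ⟨x', y', z', hxy', hxz', hyz', hxyz'⟩ := Set.ncard_eq_three.1 hYX3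
  have hx' : x' ∈ Y \ X := by rw [hxyz']; simp
  have hy' : y' ∈ Y \ X := by rw [hxyz']; simp
  have hz' : z' ∈ Y \ X := by rw [hxyz']; simp
  have hne : ∀ w ∈ Y \ X, a ≠ w := fun w hw h => hw.2 (h ▸ Set.mem_insert _ _)
  have hneT : ∀ w ∈ T, a ≠ w := fun w hw h => haT (h ▸ hw)
  obtain ⟨g, hga, hgx, hgy, hgz⟩ := exists_move3 h4 (hneT x hxT) (hneT y hyT) (hneT z hzT) hxy hxz
    hyz (hne x' hx') (hne y' hy') (hne z' hz') hxy' hxz' hyz'
  have hgT : g • T = Y \ X := by
    rw [hxyz, hxyz', Set.smul_set_insert, Set.smul_set_insert, Set.smul_set_singleton, hgx, hgy, hgz]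
  have hgX : g • X = insert a (Y \ X) := by
    rw [hX, Set.smul_set_insert, hga, hgT]
  have hgY : g • Y = Y := by
    apply 𝒞.uniq (g • X) _ _ (𝒞.inv g Y hY) hY
    · rw [← Set.smul_set_symmDiff, Set.ncard_smul_set]
      exact hY3
    · have h5 : symmDiff (g • X) Y = T := by
        rw [hgX]
        ext w
        rw [Set.mem_symmDiff]
        constructor
        · rintro (⟨(rfl | h), h'⟩ | ⟨h, h'⟩)
          · exact absurd haY h'
          · exact absurd h.1 h'
          · rw [Set.mem_insert_iff, not_or] at h'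
            by_contra hwT
            apply h'.2
            refine ⟨h, ?_⟩
            rintro (hwa | hwT')
            · exact h'.1 hwa
            · exact hwT hwT'
        · intro h
          right
          refine ⟨hXY (Set.mem_insert_of_mem _ h), ?_⟩
          rintro (rfl | h')
          · exact haT h
          · exact h'.2 (Set.mem_insert_of_mem _ h)
      rw [h5, hT3]
  have hgU : g ∈ UU G a B := by rw [hUY]; exact ⟨hga, hgY⟩
  rw [hUT] at hgU
  have h5 : g • T = T := hgU.2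
  rw [hgT] at h5
  rw [← h5] at hxT
  exact hxT.2 (Set.mem_insert_of_mem _ (h5 ▸ hxT))

/-- Fixed points of a `p`-element in an invariant set. -/
theorem fixed_in {p : ℕ} [Fact p.Prime] {x : G} (hx : orderOf x = p) (S : Set Ω)
    (hS : ∀ w ∈ S, x • w ∈ S) :
    S.ncard ≡ {w | w ∈ S ∧ x • w = w}.ncard [MOD p] := by
  classical
  have hpow : ∀ n : ℕ, ∀ w ∈ S, (x ^ n) • w ∈ S := by
    intro n
    induction n with
    | zero => intro w hw; simpa using hw
    | succ n ih =>
      intro w hw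
      rw [pow_succ, mul_smul]
      exact ih _ (hS w hw)
  have hz : ∀ g ∈ zpowers x, ∀ w ∈ S, g • w ∈ S := by
    intro g hg w hw
    rw [mem_zpowers_iff_mem_range_orderOf] at hg
    simp only [Finset.mem_image, Finset.mem_range] at hg
    obtain ⟨n, -, rfl⟩ := hg
    exact hpow n w hw
  let X : SubMulAction (zpowers x) Ω := ⟨S, fun g {w} hw => hz g g.2 w hw⟩
  have hpg : IsPGroup p (zpowers x) := IsPGroup.of_card (n := 1) (by
    rw [Nat.card_zpowers, hx, pow_one])
  have : Finite X := Set.toFinite S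
  have h1 := hpg.card_modEq_card_fixedPoints X
  have h2 : Nat.card X = S.ncard := Nat.card_coe_set_eq S
  have h3 : Nat.card (fixedPoints (zpowers x) X) = {w | w ∈ S ∧ x • w = w}.ncard := by
    rw [← Nat.card_coe_set_eq]
    refine Nat.card_congr ⟨fun w => ⟨w.1.1, w.1.2, ?_⟩, fun w => ⟨⟨w.1, w.2.1⟩, ?_⟩, ?_, ?_⟩
    · have := w.2 ⟨x, mem_zpowers x⟩
      exact congrArg Subtype.val this
    · rintro ⟨g, hg⟩
      obtain ⟨n, rfl⟩ := mem_zpowers_iff.1 hg
      apply Subtype.ext
      change (x ^ n) • (w : Ω) = w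
      have h4 : x ∈ stabilizer G (w : Ω) := w.2.2
      exact (stabilizer G (w : Ω)).zpow_mem h4 n
    · intro w; rfl
    · intro w; rfl
  rwa [h2, h3] at h1

/-- No counterexample with an invariant perfect code. -/
theorem false_code [IsPretransitive G Ω] (hΩ : Nat.card Ω = 23) (hG : Nat.card G = 10200960)
    (h4 : IsMultiplyPretransitive G Ω 4) (𝒞 : GCode G Ω) {a : Ω} {B Γ : Set Ω}
    (hbad : Bad G a B Γ) : False := by
  classical
  have hp : (Nat.card Ω).Prime := by rw [hΩ]; norm_num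
  have h2 : TwoTr G Ω := by
    have h2' : IsMultiplyPretransitive G Ω 2 := isMultiplyPretransitive_of_le (n := 4) (by norm_num)
      (by rw [hΩ]; norm_num)
    rw [is_two_pretransitive_iff] at h2'
    intro a b c d hab hcd
    exact h2' hab hcd
  have hb4 : 4 ≤ B.ncard := hbad.le_of_multi 4 (by rw [hΩ]; norm_num) ⊤ (by
    rw [isMultiplyPretransitive_iff] at h4 ⊢
    intro f f'
    obtain ⟨g, hg⟩ := h4 f f'
    exact ⟨⟨g, mem_top g⟩, hg⟩)
  have h2b := hbad.two_mul_le
  have hg2 := hbad.add_two_le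
  rw [hΩ] at hg2
  have hUB : UU G a B = stabilizer G a ⊓ stabilizer G B := rfl
  have hUΓ : UU G a B = stabilizer G a ⊓ stabilizer G Γ := hbad.eqU
  -- moving points with `U = stab a ⊓ stab T`
  have hmove : ∀ T : Set Ω, (T.ncard = 1 ∨ T.ncard = 2) → a ∉ T →
      UU G a B = stabilizer G a ⊓ stabilizer G T → ∀ x y : Ω, x ≠ a → x ∉ T → y ≠ a → y ∉ T →
      ∃ g ∈ UU G a B, g • x = y := by
    intro T hT haT hUT x y hxa hxT hya hyT
    rcases hT with h1 | h1
    · obtain ⟨t, rfl⟩ := Set.ncard_eq_one.1 h1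
      have hat : a ≠ t := fun h => haT (by rw [h]; rfl)
      have hxt : t ≠ x := fun h => hxT (by rw [h]; rfl)
      have hyt : t ≠ y := fun h => hyT (by rw [h]; rfl)
      -- 3-transitivity
      have h3' : IsMultiplyPretransitive G Ω 3 := isMultiplyPretransitive_of_le (n := 4) (by norm_num)
        (by rw [hΩ]; norm_num)
      rw [isMultiplyPretransitive_iff] at h3'
      obtain ⟨g, hg⟩ := h3' (⟨![a, t, x], by
          intro i j h
          fin_cases i <;> fin_cases j <;>
            simp [hat, hxt, hxa, hat.symm, hxt.symm, hxa.symm] at h ⊢⟩ : Fin 3 ↪ Ω) ⟨![a, t, y], by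
          intro i j h
          fin_cases i <;> fin_cases j <;>
            simp [hat, hyt, hya, hat.symm, hyt.symm, hya.symm] at h ⊢⟩
      have e0 : g • a = a := DFunLike.congr_fun hg 0
      have e1 : g • t = t := DFunLike.congr_fun hg 1
      have e2 : g • x = y := DFunLike.congr_fun hg 2
      refine ⟨g, ?_, e2⟩
      rw [hUT]
      refine ⟨e0, ?_⟩
      change g • ({t} : Set Ω) = {t}
      rw [Set.smul_set_singleton, e1]
    · obtain ⟨s, t, hst, rfl⟩ := Set.ncard_eq_two.1 h1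
      have has : a ≠ s := fun h => haT (by rw [h]; simp)
      have hat : a ≠ t := fun h => haT (by rw [h]; simp)
      have hxs : s ≠ x := fun h => hxT (by rw [h]; simp)
      have hxt : t ≠ x := fun h => hxT (by rw [h]; simp)
      have hys : s ≠ y := fun h => hyT (by rw [h]; simp)
      have hyt : t ≠ y := fun h => hyT (by rw [h]; simp)
      obtain ⟨g, e0, e1, e2, e3⟩ := exists_move4 h4 has hat hst hxa.symm hxs hxt hya.symm hys hyt
      refine ⟨g, ?_, e3⟩
      rw [hUT]
      refine ⟨e0, ?_⟩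
      change g • ({s, t} : Set Ω) = {s, t}
      rw [Set.smul_set_insert, Set.smul_set_singleton, e1, e2]
  obtain ⟨x0, hx0, hx0a⟩ := hbad.ne
  have hΓC : Γ ∈ 𝒞.C := by
    rcases half 𝒞 h4 h2 hbad Γ hbad.memΓ hbad.trΓ hUΓ (by omega) with h | ⟨T, hT, haT, hdis, hUT⟩
    · exact h
    · exfalso
      obtain ⟨y0, hy0, hy0B⟩ := Set.exists_of_ssubset hbad.sub
      have hy0a : y0 ≠ a := fun h => hy0B (h ▸ hbad.mem)
      rw [Set.disjoint_left] at hdis
      obtain ⟨g, hg, hgx⟩ := hmove T hT haT hUT x0 y0 hx0a (hdis (hbad.sub.1 hx0)) hy0a (hdis hy0)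
      apply hy0B
      rw [← hgx]
      exact UU_smul_memB hg hx0
  have hBC : B ∈ 𝒞.C := by
    rcases half 𝒞 h4 h2 hbad B hbad.mem hbad.trB hUB hb4 with h | ⟨T, hT, haT, hdis, hUT⟩
    · exact h
    · exfalso
      rw [Set.disjoint_left] at hdis
      have h5 : Tᶜ ⊆ B := by
        intro y hy
        by_cases hya : y = a
        · rw [hya]; exact hbad.mem
        · obtain ⟨g, hg, hgx⟩ := hmove T hT haT hUT x0 y hx0a (hdis hx0) hya hy
          rw [← hgx]
          exact UU_smul_memB hg hx0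
      have h6 := Set.ncard_le_ncard h5
      have h7 : T.ncard + Tᶜ.ncard = Nat.card Ω := Set.ncard_add_ncard_compl T
      rw [hΩ] at h7
      omega
  have hB8 : B.ncard = 8 ∧ Γ.ncard = 16 := by
    have h5 := 𝒞.wt B hBC
    have h6 := 𝒞.wt Γ hΓC
    have h7 := hbad.dvd
    rcases h5 with h5 | h5 | h5 | h5 | h5 | h5 | h5 | h5 <;>
    rcases h6 with h6 | h6 | h6 | h6 | h6 | h6 | h6 | h6 <;>
    rw [h5, h6] at h7 <;> omega
  obtain ⟨hB8, hΓ16⟩ := hB8
  -- the index
  have hrU : rr G a B * Nat.card (UU G a B) = Nat.card (stabilizer G a) := relIndex_mul_card' UU_le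
  have hGa : Nat.card G = Nat.card Ω * Nat.card (stabilizer G a) := by
    rw [← index_stabilizer_of_transitive G a, index_mul_card]
  have hH : Nat.card (stabilizer G a) = 443520 := by
    rw [hG, hΩ] at hGa
    omega
  have hrle : rr G a B ≤ 253 := by
    have h5 := card_of_transOn (K := stabilizer G a) (a := Γ) (orbit (stabilizer G a) Γ) rfl
    rw [inf_comm, ← hUΓ, ← hrU] at h5
    have h6 := Nat.eq_of_mul_eq_mul_right Nat.card_pos h5
    rw [h6]
    refine le_trans (Set.ncard_le_ncard ?_) 𝒞.cnt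
    rintro _ ⟨g, rfl⟩
    refine ⟨𝒞.inv g Γ hΓC, ?_⟩
    change ((g : G) • Γ).ncard = 16
    rw [Set.ncard_smul_set, hΓ16]
  have h16 := hbad.dvdΓ hp
  have h22 := hbad.dvd_numB h2
  rw [hΓ16] at h16
  rw [hΩ, hB8] at h22
  have hr176 : rr G a B = 176 := by
    have hpos : rr G a B ≠ 0 := by
      intro h0
      rw [h0, zero_mul] at hrU
      omega
    have h11 : 11 ∣ rr G a B := by
      have h5 : 11 ∣ rr G a B * 7 := (show 11 ∣ 22 by norm_num).trans h22
      exact Nat.Coprime.dvd_of_dvd_mul_right (by norm_num) h5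
    have h176 : 176 ∣ rr G a B := by
      rw [show 176 = 11 * 16 by norm_num]
      exact Nat.Coprime.mul_dvd_of_dvd_of_dvd (by norm_num) h11 h16
    obtain ⟨m, hm⟩ := h176
    omega
  rw [hr176, hH] at hrU
  have h5U : 5 ∣ Nat.card (UU G a B) := by
    have : Nat.card (UU G a B) = 2520 := by omega
    rw [this]
    norm_num
  have h5p : Fact (Nat.Prime 5) := ⟨by norm_num⟩
  obtain ⟨⟨x, hxU⟩, hx⟩ := exists_prime_orderOf_dvd_card' 5 h5U
  rw [Subgroup.orderOf_mk] at hx
  have hfB := fixed_in hx B (fun w hw => UU_smul_memB hxU hw)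
  have hfΓ := fixed_in hx (Γ \ B) (by
    rintro w ⟨hw, hw'⟩
    refine ⟨hbad.UU_smul_memΓ hxU hw, fun h => hw' ?_⟩
    have h6 := UU_smul_memB ((UU G a B).inv_mem hxU) h
    rwa [inv_smul_smul] at h6)
  have hΓB : (Γ \ B).ncard = 8 := by
    have h6 := Set.ncard_sdiff_add_ncard_of_subset hbad.sub.1
    omega
  rw [hB8] at hfB
  rw [hΓB] at hfΓ
  unfold Nat.ModEq at hfB hfΓ
  -- four fixed points
  have hfix : 4 ≤ {w : Ω | x • w = w}.ncard := by
    have h6 : {w | w ∈ B ∧ x • w = w} ∪ {w | w ∈ Γ \ B ∧ x • w = w} ⊆ {w : Ω | x • w = w} := by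
      rintro w (h | h)
      · exact h.2
      · exact h.2
    have h7 : Disjoint {w | w ∈ B ∧ x • w = w} {w | w ∈ Γ \ B ∧ x • w = w} := by
      rw [Set.disjoint_left]
      rintro w h h'
      exact h'.1.2 h.1
    have h8 := Set.ncard_le_ncard h6
    rw [Set.ncard_union_eq h7] at h8
    omega
  obtain ⟨S, hS, hS4⟩ := Set.exists_subset_card_eq hfix
  obtain ⟨e⟩ : Nonempty (Fin 4 ≃ S) := by
    have := Fintype.ofFinite S
    refine ⟨(Fintype.equivFinOfCardEq ?_).symm⟩
    rw [← Nat.card_eq_fintype_card, Nat.card_coe_set_eq, hS4]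
  let f : Fin 4 ↪ Ω := e.toEmbedding.trans (Function.Embedding.subtype _)
  have hxf : x ∈ stabilizer G f := by
    rw [mem_stabilizer_iff]
    ext i
    exact hS (e i).2
  have h4' : IsPretransitive G (Fin 4 ↪ Ω) := h4
  have h9 := index_stabilizer_of_transitive G f
  have h10 := (stabilizer G f).index_mul_card
  have h11 : Nat.card (Fin 4 ↪ Ω) = 212520 := by
    have := Fintype.ofFinite Ω
    rw [Nat.card_eq_fintype_card, Fintype.card_embedding_eq, Fintype.card_fin,
      ← Nat.card_eq_fintype_card, hΩ]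
    decide
  rw [h9, h11, hG] at h10
  have h12 : Nat.card (stabilizer G f) = 48 := by omega
  have h13 : orderOf (⟨x, hxf⟩ : stabilizer G f) ∣ 48 := by
    rw [← h12]
    exact orderOf_dvd_natCard _
  rw [Subgroup.orderOf_mk, hx] at h13
  revert h13
  decide

end

end Cfsg.Agent.H623.PD
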