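import Cfsg.Agent.H623.PDTwo

/-!
The linear groups and the alternating groups.
-/

set_option autoImplicit false
set_option linter.unusedSectionVars false

namespace Cfsg.Agent.H623.PD

open MulAction Subgroup Matrix
open scoped Pointwise LinearAlgebra.Projectivization

section PSL

variable {G Ω F : Type*} [Group G] [MulAction G Ω] [Field F] {d : ℕ}

/-- The geometry attached to an equivariant bijection with a projective space. -/
theorem exists_geo (a : Ω) (T : Subgroup G)
    (e : T ≃* Matrix.ProjectiveSpecialLinearGroup (Fin d) F) (Φ : Ω ≃ ℙ F (Fin d → F))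
    (hΦ : ∀ (t : T) (ω : Ω), Φ (t • ω) = e t • Φ ω) :
    ∃ γ : Geo G Ω F (Fin d), γ.ρ.range = T := by
  classical
  let ρ : SpecialLinearGroup (Fin d) F →* G :=
    T.subtype.comp (e.symm.toMonoidHom.comp
      (QuotientGroup.mk' (Subgroup.center (SpecialLinearGroup (Fin d) F))))
  let P : (Fin d → F) → Ω := fun v => if h : v ≠ 0 then Φ.symm (Projectivization.mk F v h) else a
  have hPv : ∀ (v : Fin d → F) (h : v ≠ 0), P v = Φ.symm (Projectivization.mk F v h) := by
    intro v h
    simp only [P, dif_pos h]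
  refine ⟨⟨ρ, P, ?_, ?_, ?_, ?_⟩, ?_⟩
  · intro g v hv
    rw [hPv v hv, hPv _ (mulVec_ne_zero g hv)]
    have h1 := hΦ (e.symm (QuotientGroup.mk g)) (Φ.symm (Projectivization.mk F v hv))
    rw [MulEquiv.apply_symm_apply, Equiv.apply_symm_apply,
      Matrix.ProjectiveSpecialLinearGroup.smul_proj_mk, Projectivization.smul_mk] at h1
    rw [Equiv.symm_apply_eq]
    exact h1.symm
  · intro v w hv hw h
    rw [hPv v hv, hPv w hw] at h
    have h1 := Φ.symm.injective h
    obtain ⟨c, hc⟩ := (Projectivization.mk_eq_mk_iff' F w v hw hv).1 h1.symm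
    exact ⟨c, hc.symm⟩
  · intro v c hv hc
    rw [hPv v hv, hPv _ (smul_ne_zero hc hv)]
    congr 1
    exact (Projectivization.mk_eq_mk_iff' F _ _ _ _).2 ⟨c, rfl⟩
  · intro x
    refine ⟨(Φ x).rep, (Φ x).rep_nonzero, ?_⟩
    rw [hPv _ (Φ x).rep_nonzero, Projectivization.mk_rep, Equiv.symm_apply_apply]
  · ext x
    constructor
    · rintro ⟨g, rfl⟩
      exact (e.symm (QuotientGroup.mk g)).2
    · intro hx
      obtain ⟨g, hg⟩ := QuotientGroup.mk_surjective (e ⟨x, hx⟩)
      refine ⟨g, ?_⟩
      change (e.symm (QuotientGroup.mk g) : G) = x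
      rw [hg, MulEquiv.symm_apply_apply]

theorem false_psl [FaithfulSMul G Ω] [Finite G] [Finite F] [Finite Ω] [IsPretransitive G Ω]
    (hp : (Nat.card Ω).Prime) (hd : 2 ≤ d) (T : Subgroup G) [hn : T.Normal] (h2T : TwoTr T Ω)
    (e : T ≃* Matrix.ProjectiveSpecialLinearGroup (Fin d) F) (Φ : Ω ≃ ℙ F (Fin d → F))
    (hΦ : ∀ (t : T) (ω : Ω), Φ (t • ω) = e t • Φ ω) {a : Ω} {B Γ : Set Ω} (hbad : Bad G a B Γ) :
    False := by
  obtain ⟨γ, hγ⟩ := exists_geo a T e Φ hΦ
  subst hγ
  have h2 : TwoTr G Ω := by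
    intro x y z w hxy hzw
    obtain ⟨n, hn1, hn2⟩ := h2T x y z w hxy hzw
    exact ⟨n, hn1, hn2⟩
  by_cases hd3 : 3 ≤ d
  · exact γ.false_three hp h2 hn (by rwa [Fintype.card_fin]) hbad
  · have hd2 : d = 2 := by omega
    subst hd2
    have := Fintype.ofFinite F
    have hq : 2 ≤ Nat.card F := by
      rw [Nat.card_eq_fintype_card]; exact Fintype.one_lt_card
    have hΩ : Nat.card Ω = Nat.card F + 1 := by
      have h1 := γ.card_Ω
      rw [Fintype.card_fin] at h1
      have h2 : Nat.card F ^ 2 - 1 = (Nat.card F + 1) * (Nat.card F - 1) := by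
        obtain ⟨q, hq'⟩ : ∃ q, Nat.card F = q + 1 := ⟨Nat.card F - 1, by omega⟩
        rw [hq', Nat.add_sub_cancel]
        have : (q + 1) ^ 2 = (q + 1 + 1) * q + 1 := by ring
        omega
      rw [h2] at h1
      exact Nat.eq_of_mul_eq_mul_right (by omega) h1
    have hchar : ringChar F = 2 := by
      rw [FiniteField.even_card_iff_char_two, ← Nat.card_eq_fintype_card]
      rcases hp.eq_two_or_odd with h | h
      · omega
      · omega
    exact γ.false_two hn h2T (by rw [Fintype.card_fin]) (fun x => FiniteField.isSquare_of_char_two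
      hchar x) hbad

end PSL

section Alt

variable {G Ω : Type*} [Group G] [MulAction G Ω]

/-- The alternating case. -/
theorem false_alt [FaithfulSMul G Ω] [Finite G] [Finite Ω] {n : ℕ} (hn : Nat.card Ω = n)
    (T : Subgroup G) (e : T ≃* alternatingGroup (Fin n)) {a : Ω} {B Γ : Set Ω}
    (hbad : Bad G a B Γ) : False := by
  classical
  have := Fintype.ofFinite Ω
  have hcard : Fintype.card Ω = n := by rw [← Nat.card_eq_fintype_card, hn]
  have hge : 2 ≤ Nat.card Ω := by
    have h1 := hbad.add_two_le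
    omega
  have hnt : Nontrivial Ω := by
    rw [← Finite.one_lt_card_iff_nontrivial]; omega
  -- the image of `T` contains the alternating group
  let φ : T →* Equiv.Perm Ω := (MulAction.toPermHom G Ω).comp T.subtype
  have hφ : Function.Injective φ := by
    intro x y hxy
    apply Subtype.ext
    apply FaithfulSMul.eq_of_smul_eq_smul (α := Ω)
    intro c
    exact DFunLike.congr_fun hxy c
  have hcardT : 2 * Nat.card φ.range = Nat.card (Equiv.Perm Ω) := by
    rw [Nat.card_congr (MonoidHom.ofInjective hφ).toEquiv.symm, Nat.card_congr e.toEquiv]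
    have hnt' : Nontrivial (Fin n) := by
      rw [Fin.nontrivial_iff_two_le]; omega
    rw [two_mul_nat_card_alternatingGroup, Nat.card_perm, Nat.card_perm, Nat.card_eq_fintype_card,
      Fintype.card_fin, hn]
  have hidx : φ.range.index = 2 := by
    have h1 := φ.range.index_mul_card
    rw [← hcardT] at h1
    exact Nat.eq_of_mul_eq_mul_right Nat.card_pos h1
  have halt : alternatingGroup Ω = φ.range := by
    rw [Equiv.Perm.eq_alternatingGroup_of_index_eq_two hidx]
  -- a three-cycle moving `x` to `y` outside `B`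
  obtain ⟨x0, hx0, hx0B⟩ := Set.exists_of_ssubset hbad.sub
  apply hbad.false_of_move
  intro x hx hxB y hy
  have hyB : y ∉ B := fun h => hy (hbad.sub.1 h)
  have hxy : x ≠ y := fun h => hy (h ▸ hx)
  -- third point
  obtain ⟨z, hzB, hzx, hzy⟩ : ∃ z, z ∉ B ∧ z ≠ x ∧ z ≠ y := by
    by_contra hcon
    push Not at hcon
    have h1 : Bᶜ ⊆ {x, y} := by
      intro z hz
      by_cases hzx : z = x
      · exact Or.inl hzx
      · exact Or.inr (hcon z hz hzx)
    have h2 : Bᶜ.ncard ≤ 2 := (Set.ncard_le_ncard h1).trans (Set.ncard_insert_le _ _ |>.trans (by simp))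
    have h3 : B.ncard + Bᶜ.ncard = Nat.card Ω := Set.ncard_add_ncard_compl B
    have h4 := hbad.two_mul_le
    have h5 := hbad.add_two_le
    have h6 := hbad.one_lt
    omega
  have h3c : (Equiv.swap x z * Equiv.swap x y) ∈ alternatingGroup Ω := by
    rw [Equiv.Perm.mem_alternatingGroup]
    simp [Equiv.Perm.sign_swap hxy, Equiv.Perm.sign_swap hzx.symm]
  rw [halt] at h3c
  obtain ⟨t, ht⟩ := h3c
  have ht' : ∀ w : Ω, (t : G) • w = Equiv.swap x z (Equiv.swap x y w) := fun w =>
    DFunLike.congr_fun ht w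
  have hfix : ∀ w ∈ B, (t : G) • w = w := by
    intro w hw
    have h1 : w ≠ x := fun h => hxB (h ▸ hw)
    have h2 : w ≠ y := fun h => hyB (h ▸ hw)
    have h3 : w ≠ z := fun h => hzB (h ▸ hw)
    rw [ht', Equiv.swap_apply_of_ne_of_ne h1 h2, Equiv.swap_apply_of_ne_of_ne h1 h3]
  refine ⟨t, ?_, ?_⟩
  · ext w
    constructor
    · rintro ⟨w', hw', rfl⟩
      change (t : G) • w' ∈ B
      rw [hfix w' hw']
      exact hw'
    · intro hw
      exact ⟨w, hw, hfix w hw⟩
  · rw [ht', Equiv.swap_apply_left, Equiv.swap_apply_of_ne_of_ne hxy.symm hzy.symm]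

end Alt

end Cfsg.Agent.H623.PD
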