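import Cfsg.Agent.H623.PDRed
import Cfsg.Agent.H623.PDPSL
import Cfsg.Agent.H623.PDEleven
import Cfsg.Agent.H623.PDMathieu
import Cfsg.Agent.H410.PrimeIndex

/-!
Transitive groups of prime degree: maximal subgroups meeting a point stabiliser in a maximal
subgroup. Final assembly.
-/

set_option autoImplicit false

namespace Cfsg.Agent.H623.PD

open MulAction Subgroup Cfsg

/-- The main theorem, the classification being a hypothesis. -/
theorem final {G Ω : Type*} [Group G] [Finite G] [MulAction G Ω] [FaithfulSMul G Ω] [Finite Ω]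
    (hK : ∀ T : Subgroup G, IsSimpleGroup T → IsKnownSimple' T)
    (hp : (Nat.card Ω).Prime) [IsPretransitive G Ω] (a : Ω) (M : Subgroup G) (hM : IsCoatom M)
    (hmax : IsCoatom ((M ⊓ stabilizer G a).subgroupOf (stabilizer G a))) :
    IsCoatom ((M ⊓ stabilizer G a).subgroupOf M) := by
  apply main hp a M hM hmax
  intro T hTn hTs hTc h2T B Γ hbad
  have hTtr : IsPretransitive T Ω := by
    constructor
    intro x y
    by_cases hxy : x = y
    · exact ⟨1, by rw [one_smul, hxy]⟩
    · obtain ⟨t, ht, -⟩ := h2T x y y x hxy (Ne.symm hxy)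
      exact ⟨t, ht⟩
  have hyp : H410.Basic.Hyp T Ω (Nat.card Ω) :=
    { fin := inferInstance
      simple := hTs
      nc := by
        by_contra hcon
        push Not at hcon
        exact hTc (isMulCommutative_iff.2 hcon)
      prime := hp
      card := rfl
      trans := hTtr }
  have hns : ¬ Group.IsSolvable T := fun h =>
    hTc ⟨⟨IsSimpleGroup.comm_iff_isSolvable.2 h⟩⟩
  cases H410.PrimeIndex.main hyp (hK T hTs) with
  | alt e =>
    obtain ⟨e⟩ := e
    exact false_alt rfl T e hbad
  | psl F d hd e Φ hΦ hp' => exact false_psl hp hd T h2T e Φ hΦ hbad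
  | psl11 hp' e =>
    obtain ⟨e⟩ := e
    have : Fact (Nat.Prime 11) := ⟨by norm_num⟩
    have h4 := Cfsg.Agent.ClassicalGeometry.PSL2Basic.card_PSL2_odd (F := ZMod 11)
      (by rw [ZMod.card]; decide)
    rw [← Nat.card_congr e.toEquiv, ZMod.card] at h4
    have hc : Nat.card T = 660 := by omega
    exact false_660 hp' T hc h2T hbad
  | m11 hp' h =>
    have hc : Nat.card T = 7920 := Cfsg.Agent.NotCT.Orders.m11 h
    exact false_7920 hp' T hc hns h2T hbad
  | m23 hp' h => exact false_m23 hp' T h h2T hbad

end Cfsg.Agent.H623.PD
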