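import Cfsg.Agent.H623.PDBase

/-!
Numerical consequences of the configuration `Bad`.
-/

set_option autoImplicit false

namespace Cfsg.Agent.H623.PD

open MulAction Subgroup
open scoped Pointwise

theorem card_dvd_of_mul_closed {G : Type*} [Group G] (U : Subgroup G) (N : Set G)
    (hN : ∀ u ∈ U, ∀ x ∈ N, u * x ∈ N) : Nat.card U ∣ Nat.card N := by
  have h1 : N⁻¹ = (QuotientGroup.mk : G → G ⧸ U) ⁻¹' ((QuotientGroup.mk : G → G ⧸ U) '' N⁻¹) := by
    apply le_antisymm (Set.subset_preimage_image _ _)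
    rintro x ⟨y, hy, hxy⟩
    have h2 : y⁻¹ * x ∈ U := QuotientGroup.eq.1 hxy
    have h3 : (y⁻¹ * x)⁻¹ * y⁻¹ ∈ N := hN _ (U.inv_mem h2) _ hy
    rw [Set.mem_inv]
    rwa [mul_inv_rev, inv_inv, mul_assoc, mul_inv_cancel, mul_one] at h3
  have h2 : Nat.card N = Nat.card (N⁻¹ : Set G) := by
    rw [Nat.card_coe_set_eq, Nat.card_coe_set_eq, Set.ncard_inv]
  rw [h2, h1]
  have h3 := QuotientGroup.card_preimage_mk U ((QuotientGroup.mk : G → G ⧸ U) '' N⁻¹)
  rw [h3]
  exact dvd_mul_right _ _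

theorem relIndex_mul_card' {G : Type*} [Group G] {U H : Subgroup G} (h : U ≤ H) :
    U.relIndex H * Nat.card U = Nat.card H := by
  have h1 := relIndex_mul_relIndex ⊥ U H bot_le h
  rw [relIndex_bot_left, relIndex_bot_left] at h1
  rw [← h1, mul_comm]

section

variable {G Ω : Type*} [Group G] [MulAction G Ω]

theorem card_transport (c : Ω) (H : Subgroup G) (S : Set Ω) [Finite G] [Finite Ω]
    (htr : ∀ x ∈ S, ∃ h ∈ H, h • c = x) :
    Nat.card {h : G | h ∈ H ∧ h • c ∈ S} = S.ncard * Nat.card (H ⊓ stabilizer G c : Subgroup G) := by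
  classical
  choose! f hf1 hf2 using htr
  rw [← Nat.card_coe_set_eq, ← Nat.card_prod]
  refine Nat.card_congr ?_
  refine ⟨fun h => (⟨h.1 • c, h.2.2⟩, ⟨(f (h.1 • c))⁻¹ * h.1, ?_⟩), fun y => ⟨f y.1 * y.2, ?_⟩, ?_, ?_⟩
  · refine ⟨H.mul_mem (H.inv_mem (hf1 _ h.2.2)) h.2.1, ?_⟩
    change ((f (h.1 • c))⁻¹ * h.1) • c = c
    rw [mul_smul, inv_smul_eq_iff, hf2 _ h.2.2]
  · have h1 : ((y.2 : G)) • c = c := y.2.2.2
    refine ⟨H.mul_mem (hf1 _ y.1.2) y.2.2.1, ?_⟩
    rw [mul_smul, h1, hf2 _ y.1.2]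
    exact y.1.2
  · intro h
    simp
  · rintro ⟨⟨x, hx⟩, ⟨y, hy⟩⟩
    have h1 : y • c = c := hy.2
    have h2 : (f x * y) • c = x := by rw [mul_smul, h1, hf2 _ hx]
    simp [h2]

/-- The key divisibility. -/
theorem dvd_of_invariant [Finite G] [Finite Ω] (h2 : TwoTr G Ω) (a : Ω) (U : Subgroup G)
    (hU : U ≤ stabilizer G a) (S : Set Ω) (haS : a ∉ S) (hS : ∀ u ∈ U, ∀ x ∈ S, u • x ∈ S) :
    Nat.card Ω - 1 ∣ U.relIndex (stabilizer G a) * S.ncard := by
  classical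
  rcases S.eq_empty_or_nonempty with rfl | ⟨c, hc⟩
  · simp
  have hca : c ≠ a := fun h => haS (h ▸ hc)
  have htr : ∀ x : Ω, x ≠ a → ∃ h ∈ stabilizer G a, h • c = x := by
    intro x hx
    obtain ⟨g, hg1, hg2⟩ := h2 a c a x hca.symm hx.symm
    exact ⟨g, hg1, hg2⟩
  have h3 := card_transport c (stabilizer G a) S (fun x hx => htr x fun h => haS (h ▸ hx))
  have h4 := card_transport c (stabilizer G a) {a}ᶜ (fun x hx => htr x hx)
  have h5 : {h : G | h ∈ stabilizer G a ∧ h • c ∈ ({a}ᶜ : Set Ω)} = (stabilizer G a : Set G) := by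
    ext h
    constructor
    · exact fun hh => hh.1
    · intro hh
      refine ⟨hh, fun hh' => hca ?_⟩
      have h6 : h • c = a := hh'
      have h7 : h • a = a := hh
      rw [← h7] at h6
      exact MulAction.injective h h6
  rw [h5] at h4
  have h6 : ({a}ᶜ : Set Ω).ncard = Nat.card Ω - 1 := by
    rw [Set.ncard_compl, Set.ncard_singleton]
  rw [h6] at h4
  have h7 : Nat.card U ∣ Nat.card {h : G | h ∈ stabilizer G a ∧ h • c ∈ S} := by
    apply card_dvd_of_mul_closed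
    rintro u hu x ⟨hx1, hx2⟩
    refine ⟨mul_mem (hU hu) hx1, ?_⟩
    rw [mul_smul]
    exact hS u hu _ hx2
  rw [h3] at h7
  obtain ⟨n, hn⟩ := h7
  have h8 : U.relIndex (stabilizer G a) * Nat.card U = Nat.card (stabilizer G a) := by
    exact relIndex_mul_card' hU
  refine ⟨n, ?_⟩
  have hpos : 0 < Nat.card U := Nat.card_pos
  have hpos' : 0 < Nat.card (stabilizer G a ⊓ stabilizer G c : Subgroup G) := Nat.card_pos
  have h9 : Nat.card (stabilizer G a) =
    (Nat.card Ω - 1) * Nat.card (stabilizer G a ⊓ stabilizer G c : Subgroup G) := h4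
  have h10 : (U.relIndex (stabilizer G a) * S.ncard) *
      (Nat.card U * Nat.card (stabilizer G a ⊓ stabilizer G c : Subgroup G)) =
      ((Nat.card Ω - 1) * n) *
      (Nat.card U * Nat.card (stabilizer G a ⊓ stabilizer G c : Subgroup G)) := by
    calc _ = (U.relIndex (stabilizer G a) * Nat.card U) *
          (S.ncard * Nat.card (stabilizer G a ⊓ stabilizer G c : Subgroup G)) := by ring
      _ = _ := by rw [h8, hn, h9]; ring
  exact Nat.eq_of_mul_eq_mul_right (Nat.mul_pos hpos hpos') h10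

/-- A normal subgroup `N` of `H` with `U N = H`. -/
theorem relIndex_mul_inf {U H N : Subgroup G} [Finite G] (hU : U ≤ H) (hN : N ≤ H)
    (hnorm : H ≤ normalizer (N : Set G)) (hsup : H ≤ U ⊔ N) :
    U.relIndex H * Nat.card (U ⊓ N : Subgroup G) = Nat.card N := by
  have hn : (N.subgroupOf H).Normal := by
    rw [normal_subgroupOf_iff_le_normalizer hN]
    exact hnorm
  have h1 : (N.subgroupOf H).relIndex (U.subgroupOf H ⊔ N.subgroupOf H) =
      (N.subgroupOf H).relIndex (U.subgroupOf H) := relIndex_sup_right _ _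
  have h2 : U.subgroupOf H ⊔ N.subgroupOf H = ⊤ := by
    rw [← subgroupOf_sup hU hN]
    exact subgroupOf_eq_top.2 hsup
  rw [h2, relIndex_top_right, relIndex_subgroupOf hU] at h1
  have h3 : N.relIndex H = N.relIndex U := h1
  have h4 := relIndex_mul_card' hN
  have h5 := relIndex_mul_card' hU
  have h6 : N.relIndex U * Nat.card (U ⊓ N : Subgroup G) = Nat.card U := by
    rw [← inf_relIndex_left, relIndex_mul_card' inf_le_left]
  have hpos : 0 < Nat.card U := Nat.card_pos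
  have : Nat.card U * (U.relIndex H * Nat.card (U ⊓ N : Subgroup G)) = Nat.card U * Nat.card N := by
    calc _ = (U.relIndex H * Nat.card U) * Nat.card (U ⊓ N : Subgroup G) := by ring
      _ = N.relIndex U * Nat.card N * Nat.card (U ⊓ N : Subgroup G) := by rw [h5, ← h4, h3]
      _ = (N.relIndex U * Nat.card (U ⊓ N : Subgroup G)) * Nat.card N := by ring
      _ = _ := by rw [h6]
  exact Nat.eq_of_mul_eq_mul_left hpos this

end

section Bad

variable {G Ω : Type*} [Group G] [MulAction G Ω] {a : Ω} {B Γ : Set Ω}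

/-- The stabiliser of `a` and `B`. -/
def UU (G : Type*) {Ω : Type*} [Group G] [MulAction G Ω] (a : Ω) (B : Set Ω) : Subgroup G :=
  stabilizer G a ⊓ stabilizer G B

theorem orbit_eq_of_tr {a : Ω} {B : Set Ω} (ha : a ∈ B)
    (h : ∀ x ∈ B, ∃ g ∈ stabilizer G B, g • a = x) : orbit (stabilizer G B) a = B := by
  apply le_antisymm
  · rintro x ⟨k, rfl⟩
    have h5 : (k : G) • B = B := k.2
    have h6 : (k : G) • a ∈ (k : G) • B := Set.smul_mem_smul_set ha
    rw [h5] at h6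
    exact h6
  · intro x hx
    obtain ⟨g, hg, hgx⟩ := h x hx
    exact ⟨⟨g, hg⟩, hgx⟩

theorem Bad.memΓ (h : Bad G a B Γ) : a ∈ Γ := h.sub.1 h.mem

theorem Bad.cardB (h : Bad G a B Γ) :
    Nat.card (stabilizer G B) = B.ncard * Nat.card (UU G a B) :=
  card_of_transOn B (orbit_eq_of_tr h.mem h.trB)

theorem Bad.cardΓ (h : Bad G a B Γ) :
    Nat.card (stabilizer G Γ) = Γ.ncard * Nat.card (UU G a B) := by
  rw [UU, h.eqU]
  exact card_of_transOn Γ (orbit_eq_of_tr h.memΓ h.trΓ)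

theorem Bad.dvd [Finite G] (h : Bad G a B Γ) : B.ncard ∣ Γ.ncard := by
  have h1 := card_dvd_of_le h.le
  rw [h.cardB, h.cardΓ] at h1
  exact Nat.dvd_of_mul_dvd_mul_right Nat.card_pos h1

theorem Bad.one_lt [Finite Ω] (h : Bad G a B Γ) : 1 < B.ncard := by
  obtain ⟨x, hx, hxa⟩ := h.ne
  exact (Set.one_lt_ncard_iff).2 ⟨x, a, hx, h.mem, hxa⟩

theorem Bad.two_mul_le [Finite G] [Finite Ω] (h : Bad G a B Γ) : 2 * B.ncard ≤ Γ.ncard := by
  obtain ⟨n, hn⟩ := h.dvd
  have h1 : B.ncard < Γ.ncard := Set.ncard_lt_ncard h.sub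
  have h2 := h.one_lt
  have h3 : 2 ≤ n := by
    by_contra hcon
    have : n = 0 ∨ n = 1 := by omega
    rcases this with rfl | rfl <;> omega
  rw [hn, mul_comm]
  exact Nat.mul_le_mul_left _ h3

theorem Bad.add_two_le [Finite Ω] (h : Bad G a B Γ) : Γ.ncard + 2 ≤ Nat.card Ω := by
  obtain ⟨y, hy⟩ := h.ne_univ
  have h1 : Γ.ncard + Γᶜ.ncard = Nat.card Ω := Set.ncard_add_ncard_compl Γ
  have h2 : 0 < Γᶜ.ncard := by
    rw [Set.ncard_pos]
    exact ⟨y, hy⟩
  by_contra hcon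
  have h3 : Γᶜ.ncard = 1 := by omega
  rw [Set.ncard_eq_one] at h3
  obtain ⟨c, hc⟩ := h3
  apply h.notcompl c
  rw [← hc, compl_compl]

/-- `r = |G_a : U|`. -/
noncomputable def rr (G : Type*) {Ω : Type*} [Group G] [MulAction G Ω] (a : Ω) (B : Set Ω) : ℕ :=
  (UU G a B).relIndex (stabilizer G a)

theorem UU_le : UU G a B ≤ stabilizer G a := inf_le_left

theorem Bad.dvd_r [Finite G] [Finite Ω] [IsPretransitive G Ω] (hp : (Nat.card Ω).Prime)
    (h : Bad G a B Γ) {S : Set Ω} (hS : S.ncard ∣ Γ.ncard)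
    (hc : Nat.card (stabilizer G S) = S.ncard * Nat.card (UU G a B)) : S.ncard ∣ rr G a B := by
  have h1 : Nat.card (stabilizer G S) ∣ Nat.card G := card_subgroup_dvd_card _
  have h2 : Nat.card G = Nat.card Ω * Nat.card (stabilizer G a) := by
    rw [← index_stabilizer_of_transitive G a, index_mul_card]
  have h3 : rr G a B * Nat.card (UU G a B) = Nat.card (stabilizer G a) :=
    relIndex_mul_card' UU_le
  rw [hc, h2, ← h3, ← mul_assoc] at h1
  have h4 := Nat.dvd_of_mul_dvd_mul_right Nat.card_pos h1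
  have h5 := h.add_two_le
  have h6 := h.one_lt
  have h7 : 0 < Γ.ncard := by
    have := h.two_mul_le
    omega
  have h8 : 0 < S.ncard := Nat.pos_of_dvd_of_pos hS h7
  have h9 : S.ncard ≤ Γ.ncard := Nat.le_of_dvd h7 hS
  refine Nat.Coprime.dvd_of_dvd_mul_left ?_ h4
  exact (Nat.coprime_of_lt_prime (by omega) (by omega) hp).symm

theorem Bad.dvdB [Finite G] [Finite Ω] [IsPretransitive G Ω] (hp : (Nat.card Ω).Prime)
    (h : Bad G a B Γ) : B.ncard ∣ rr G a B := h.dvd_r hp h.dvd h.cardB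

theorem Bad.dvdΓ [Finite G] [Finite Ω] [IsPretransitive G Ω] (hp : (Nat.card Ω).Prime)
    (h : Bad G a B Γ) : Γ.ncard ∣ rr G a B := h.dvd_r hp dvd_rfl h.cardΓ

theorem UU_smul_memB {u : G} (hu : u ∈ UU G a B) {x : Ω} (hx : x ∈ B) : u • x ∈ B := by
  have h1 : u • B = B := hu.2
  rw [← h1]
  exact Set.smul_mem_smul_set hx

theorem Bad.UU_smul_memΓ (h : Bad G a B Γ) {u : G} (hu : u ∈ UU G a B) {x : Ω} (hx : x ∈ Γ) :
    u • x ∈ Γ := by
  have h0 : u ∈ stabilizer G a ⊓ stabilizer G Γ := h.eqU ▸ hu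
  have h1 : u • Γ = Γ := h0.2
  rw [← h1]
  exact Set.smul_mem_smul_set hx

theorem smul_ne_of_mem {u : G} (hu : u ∈ stabilizer G a) {x : Ω} (hx : x ≠ a) : u • x ≠ a := by
  intro h
  have h1 : u • a = a := hu
  rw [← h1] at h
  exact hx (MulAction.injective u h)

theorem Bad.dvd_numB [Finite G] [Finite Ω] (h2 : TwoTr G Ω) (h : Bad G a B Γ) :
    Nat.card Ω - 1 ∣ rr G a B * (B.ncard - 1) := by
  have h1 := dvd_of_invariant h2 a (UU G a B) UU_le (B \ {a}) (by simp) (by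
    rintro u hu x ⟨hx1, hx2⟩
    exact ⟨UU_smul_memB hu hx1, smul_ne_of_mem (UU_le hu) hx2⟩)
  rwa [Set.ncard_sdiff_singleton_of_mem h.mem] at h1

theorem Bad.dvd_numΓ [Finite G] [Finite Ω] (h2 : TwoTr G Ω) (h : Bad G a B Γ) :
    Nat.card Ω - 1 ∣ rr G a B * (Γ.ncard - 1) := by
  have h1 := dvd_of_invariant h2 a (UU G a B) UU_le (Γ \ {a}) (by simp) (by
    rintro u hu x ⟨hx1, hx2⟩
    exact ⟨h.UU_smul_memΓ hu hx1, smul_ne_of_mem (UU_le hu) hx2⟩)
  rwa [Set.ncard_sdiff_singleton_of_mem h.memΓ] at h1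

theorem Bad.false_of_move (h : Bad G a B Γ)
    (hmove : ∀ x ∈ Γ, x ∉ B → ∀ y, y ∉ Γ → ∃ g : G, g • B = B ∧ g • x = y) : False := by
  obtain ⟨y, hy⟩ := h.ne_univ
  obtain ⟨x, hx, hxB⟩ := Set.exists_of_ssubset h.sub
  obtain ⟨g, hg1, hg2⟩ := hmove x hx hxB y hy
  have h1 : g ∈ stabilizer G Γ := h.le hg1
  have h2 : g • Γ = Γ := h1
  apply hy
  rw [← hg2, ← h2]
  exact Set.smul_mem_smul_set hx

theorem Bad.le_of_multi [Finite G] [Finite Ω] (h : Bad G a B Γ) (k : ℕ) (hk : k ≤ Nat.card Ω)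
    (T : Subgroup G) (hT : IsMultiplyPretransitive T Ω k) : k ≤ B.ncard := by
  by_contra hcon
  push Not at hcon
  have h1 : IsMultiplyPretransitive T Ω (B.ncard + 1) := isMultiplyPretransitive_of_le hcon hk
  obtain ⟨e⟩ : Nonempty (Fin B.ncard ≃ B) := by
    have := Fintype.ofFinite B
    refine ⟨(Fintype.equivFinOfCardEq ?_).symm⟩
    rw [← Nat.card_eq_fintype_card, Nat.card_coe_set_eq]
  have key : ∀ x, x ∉ B → ∃ f : Fin (B.ncard + 1) ↪ Ω, (∀ i : Fin B.ncard, f i.castSucc = e i) ∧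
      f (Fin.last _) = x := by
    intro x hx
    refine ⟨⟨Fin.snoc (α := fun _ => Ω) (fun i => (e i : Ω)) x, ?_⟩, ?_, ?_⟩
    · rw [Fin.snoc_injective_iff]
      refine ⟨fun i j hij => e.injective (Subtype.ext hij), ?_⟩
      rintro ⟨i, hi⟩
      exact hx (hi ▸ (e i).2)
    · intro i; simp
    · simp
  apply h.false_of_move
  intro x _ hxB y hy
  obtain ⟨f1, hf1, hf1'⟩ := key x hxB
  obtain ⟨f2, hf2, hf2'⟩ := key y (fun hh => hy (h.sub.1 hh))
  obtain ⟨t, ht⟩ := exists_smul_eq T f1 f2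
  have ht' : ∀ i, (t : G) • f1 i = f2 i := fun i => by
    have := DFunLike.congr_fun ht i
    exact this
  refine ⟨t, ?_, ?_⟩
  · have hsub : (t : G) • B ⊆ B := by
      rintro _ ⟨z, hz, rfl⟩
      have h3 := ht' (e.symm ⟨z, hz⟩).castSucc
      rw [hf1, hf2] at h3
      simp only [Equiv.apply_symm_apply] at h3
      change (t : G) • z ∈ B
      rw [h3]
      exact hz
    apply Set.eq_of_subset_of_ncard_le hsub _ (Set.toFinite _)
    rw [Set.ncard_smul_set]
  · have h3 := ht' (Fin.last _)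
    rwa [hf1', hf2'] at h3

/-- For a normal 2-transitive subgroup `T`. -/
theorem Bad.r_mul [Finite G] [Finite Ω] (h : Bad G a B Γ) (T : Subgroup G) [T.Normal]
    (hT : TwoTr T Ω) :
    rr G a B * Nat.card (UU G a B ⊓ T : Subgroup G) = Nat.card (stabilizer G a ⊓ T : Subgroup G) := by
  have hnorm : stabilizer G a ≤ normalizer ((stabilizer G a ⊓ T : Subgroup G) : Set G) := by
    intro g hg
    rw [mem_normalizer_iff]
    intro x
    constructor
    · rintro ⟨hx1, hx2⟩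
      exact ⟨(stabilizer G a).mul_mem ((stabilizer G a).mul_mem hg hx1) ((stabilizer G a).inv_mem hg),
        ‹T.Normal›.conj_mem x hx2 g⟩
    · rintro ⟨hx1, hx2⟩
      have h1 : g⁻¹ * (g * x * g⁻¹) * g ∈ stabilizer G a :=
        (stabilizer G a).mul_mem ((stabilizer G a).mul_mem ((stabilizer G a).inv_mem hg) hx1) hg
      have h2 : g⁻¹ * (g * x * g⁻¹) * g⁻¹⁻¹ ∈ T := ‹T.Normal›.conj_mem _ hx2 g⁻¹
      have h3 : g⁻¹ * (g * x * g⁻¹) * g = x := by group
      have h4 : g⁻¹ * (g * x * g⁻¹) * g⁻¹⁻¹ = x := by group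
      rw [h3] at h1
      rw [h4] at h2
      exact ⟨h1, h2⟩
  have hnle : ¬ (stabilizer G a ⊓ T) ≤ UU G a B := by
    intro hle
    obtain ⟨y, hy⟩ := h.ne_univ
    refine inf_ne_of_twoTr hT h.mem h.ne ⟨y, fun hh => hy (h.sub.1 hh)⟩ ?_
    apply le_antisymm inf_le_left
    intro t ht
    have h1 : (t : G) ∈ UU G a B := hle ⟨ht, t.2⟩
    exact ⟨ht, h1.2⟩
  have hsup : stabilizer G a ≤ UU G a B ⊔ (stabilizer G a ⊓ T) := by
    rcases h.max (UU G a B ⊔ (stabilizer G a ⊓ T)) le_sup_left (sup_le UU_le inf_le_left) with h1 | h1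
    · exact absurd (le_trans le_sup_right h1.le) hnle
    · exact h1.ge
  have h1 := relIndex_mul_inf (U := UU G a B) (H := stabilizer G a) (N := stabilizer G a ⊓ T) UU_le
    inf_le_left hnorm hsup
  rw [← inf_assoc, inf_eq_left.2 UU_le] at h1
  exact h1

end Bad

end Cfsg.Agent.H623.PD
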