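import Cfsg.Agent.H623.PDNum
import Cfsg.Agent.Lib.SubnormalJoin

/-!
Reduction of the statement to the configuration `Bad` for a group with a normal 2-transitive
non-abelian simple subgroup.
-/

set_option autoImplicit false

namespace Cfsg.Agent.H623.PD

open MulAction Subgroup
open scoped Pointwise

theorem abelian_index_prime {H : Type*} [Group H] [Finite H] (hab : ∀ x y : H, x * y = y * x)
    (N : Subgroup H) (hN : IsCoatom N) : N.index.Prime := by
  have hn : N.Normal := ⟨fun n hn g => by rwa [hab g n, mul_inv_cancel_right]⟩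
  have hs : IsSimpleGroup (H ⧸ N) := by
    have hnt : Nontrivial (H ⧸ N) := by
      rw [← Finite.one_lt_card_iff_nontrivial]
      change 1 < N.index
      have h1 : N.index ≠ 1 := fun h => hN.1 (index_eq_one.1 h)
      have h2 : N.index ≠ 0 := index_ne_zero_of_finite
      omega
    refine ⟨fun K _ => ?_⟩
    have h1 : N ≤ K.comap (QuotientGroup.mk' N) := by
      intro x hx
      have h0 : QuotientGroup.mk' N x = 1 := (QuotientGroup.eq_one_iff x).2 hx
      rw [mem_comap, h0]
      exact K.one_mem
    have h2 : (K.comap (QuotientGroup.mk' N)).map (QuotientGroup.mk' N) = K :=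
      map_comap_eq_self_of_surjective (QuotientGroup.mk'_surjective N) K
    rcases hN.le_iff.1 h1 with h3 | h3
    · right
      rw [← h2, h3, map_top_of_surjective _ (QuotientGroup.mk'_surjective N)]
    · left
      rw [← h2, h3]
      rw [eq_bot_iff]
      rintro _ ⟨x, hx, rfl⟩
      exact (QuotientGroup.eq_one_iff x).2 hx
  let _ : CommGroup (H ⧸ N) := { (inferInstance : Group (H ⧸ N)) with
    mul_comm := by
      rintro ⟨x⟩ ⟨y⟩
      change ((x * y : H) : H ⧸ N) = ((y * x : H) : H ⧸ N)
      rw [hab] }
  exact IsSimpleGroup.prime_card (α := H ⧸ N)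

section

variable {G Ω : Type*} [Group G] [MulAction G Ω] [Finite G] [Finite Ω] [FaithfulSMul G Ω]

omit [Finite G] in
theorem solvable_or_twoTr (hp : (Nat.card Ω).Prime) (T : Subgroup G) [IsPretransitive T Ω] :
    Group.IsSolvable T ∨ TwoTr T Ω := by
  classical
  have := Fintype.ofFinite Ω
  have hcard : (Fintype.card Ω).Prime := by rwa [← Nat.card_eq_fintype_card]
  let φ : T →* Equiv.Perm Ω := (MulAction.toPermHom G Ω).comp T.subtype
  have hφ : Function.Injective φ := by
    intro x y hxy
    apply Subtype.ext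
    apply FaithfulSMul.eq_of_smul_eq_smul (α := Ω)
    intro c
    exact DFunLike.congr_fun hxy c
  have htr : IsPretransitive φ.range Ω := by
    constructor
    intro x y
    obtain ⟨t, ht⟩ := exists_smul_eq T x y
    exact ⟨⟨φ t, t, rfl⟩, ht⟩
  rcases PermutationGroups.PrimeDegree.isSolvable_or_two_transitive hcard φ.range with h | h
  · left
    have h1 : Group.IsSolvable φ.range := h
    have e : T ≃* φ.range := MonoidHom.ofInjective hφ
    exact Group.isSolvable_of_isSolvable_injective (f := e.toMonoidHom) e.injective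
  · right
    rw [is_two_pretransitive_iff] at h
    intro a b c d hab hcd
    obtain ⟨⟨_, t, rfl⟩, h1, h2⟩ := h hab hcd
    exact ⟨t, h1, h2⟩

/-- The affine case. -/
theorem case_affine (hp : (Nat.card Ω).Prime) [IsPretransitive G Ω] (a : Ω) (M : Subgroup G)
    (hM : IsCoatom M)
    (hmax : IsCoatom ((M ⊓ stabilizer G a).subgroupOf (stabilizer G a)))
    (P : Subgroup G) [hPn : P.Normal] (hP : Nat.card P = Nat.card Ω)
    (hint : orbit M a ≠ Set.univ) :
    IsCoatom ((M ⊓ stabilizer G a).subgroupOf M) := by
  have : Fact (Nat.card Ω).Prime := ⟨hp⟩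
  have hne : Nonempty Ω := ⟨a⟩
  have htr : IsPretransitive P Ω := SporadicA.PrimeDegNorm.isPretransitive_of_card rfl P hP
  have hPM : ¬ P ≤ M := by
    intro h
    apply hint
    apply Set.eq_univ_of_forall
    intro x
    obtain ⟨t, ht⟩ := exists_smul_eq P a x
    exact ⟨⟨t, h t.2⟩, ht⟩
  have hcardG : Nat.card G = Nat.card Ω * Nat.card (stabilizer G a) := by
    rw [← index_stabilizer_of_transitive G a, index_mul_card]
  have hprime : (Nat.card P).Prime := hP ▸ hp
  have hcopP : ∀ X : Subgroup G, ¬ P ≤ X → X ⊓ P = ⊥ := by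
    intro X hX
    have h1 : Nat.card (X ⊓ P : Subgroup G) ∣ Nat.card P := card_dvd_of_le inf_le_right
    rcases (Nat.dvd_prime hprime).1 h1 with h2 | h2
    · exact card_eq_one.1 h2
    · exfalso
      apply hX
      have h3 : X ⊓ P = P := by
        apply SetLike.coe_injective
        apply Set.eq_of_subset_of_ncard_le inf_le_right _ (Set.toFinite _)
        rw [← Nat.card_coe_set_eq, ← Nat.card_coe_set_eq]
        exact h2.ge
      rw [← h3]
      exact inf_le_left
  have hMP : M ⊓ P = ⊥ := hcopP M hPM
  have hsup : M ⊔ P = ⊤ := by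
    rcases hM.le_iff.1 (le_sup_left : M ≤ M ⊔ P) with h | h
    · exact h
    · exact absurd (le_trans le_sup_right h.le) hPM
  have hcardM : Nat.card M = Nat.card (stabilizer G a) := by
    have h1 : P.relIndex (M ⊔ P) = P.relIndex M := relIndex_sup_right _ _
    rw [hsup, relIndex_top_right, ← inf_relIndex_left, hMP, relIndex_bot_left] at h1
    have h2 : P.index * Nat.card P = Nat.card G := index_mul_card P
    rw [h1, hP, hcardG, mul_comm] at h2
    exact Nat.eq_of_mul_eq_mul_left hp.pos h2
  have hcyc : IsCyclic P := isCyclic_of_prime_card hP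
  have hcommP : ∀ x ∈ P, ∀ y ∈ P, x * y = y * x := by
    intro x hx y hy
    have := (IsCyclic.commGroup (α := P)).mul_comm ⟨x, hx⟩ ⟨y, hy⟩
    exact congrArg Subtype.val this
  have hPH : ¬ P ≤ stabilizer G a := by
    intro h
    obtain ⟨t, ht⟩ := exists_smul_eq (P : Subgroup G) a a
    have h1 : ∀ x : Ω, x = a := by
      intro x
      obtain ⟨t, ht⟩ := exists_smul_eq P a x
      rw [← ht]
      exact h t.2
    have h2 : Nat.card Ω ≤ 1 := by
      rw [Finite.card_le_one_iff_subsingleton]
      exact ⟨fun x y => (h1 x).trans (h1 y).symm⟩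
    exact absurd hp.one_lt (not_lt.2 h2)
  -- the point stabiliser is abelian
  have hab : ∀ x ∈ stabilizer G a, ∀ y ∈ stabilizer G a, x * y = y * x := by
    let φ : G →* MulAut P := MulAut.conjNormal
    have hker : ∀ x ∈ stabilizer G a, φ x = 1 → x = 1 := by
      intro x hx hφ
      have h1 : x ∈ centralizer (P : Set G) := by
        rw [mem_centralizer_iff]
        intro y hy
        have h2 : (φ x) ⟨y, hy⟩ = ⟨y, hy⟩ := by rw [hφ]; rfl
        have h3 : x * y * x⁻¹ = y := congrArg Subtype.val h2
        rw [mul_inv_eq_iff_eq_mul] at h3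
        exact h3.symm
      have h2 := SporadicA.PrimeDegNorm.centralizer_le_of_comm_transitive (Ω := Ω) P x h1 hcommP
      have h3 : x ∈ stabilizer G a ⊓ P := ⟨hx, h2⟩
      rw [hcopP _ hPH] at h3
      exact h3
    intro x hx y hy
    have h1 : φ (x * y * x⁻¹ * y⁻¹) = 1 := by
      have hc : ∀ u v : MulAut P, u * v = v * u := by
        intro u v
        apply (IsCyclic.mulAutMulEquiv P).injective
        rw [map_mul, map_mul, mul_comm]
      rw [map_mul, map_mul, map_mul, hc (φ x) (φ y), map_inv, map_inv, mul_assoc (φ y),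
        mul_inv_cancel, mul_one, mul_inv_cancel]
    have h2 := hker _ (mul_mem (mul_mem (mul_mem hx hy) ((stabilizer G a).inv_mem hx))
      ((stabilizer G a).inv_mem hy)) h1
    rw [mul_inv_eq_one, mul_inv_eq_iff_eq_mul] at h2
    exact h2
  have hmax0 := hmax
  rw [isCoatom_subgroupOf_iff inf_le_right] at hmax
  rw [isCoatom_subgroupOf_iff inf_le_left]
  -- the index in the stabiliser is prime
  have hprimeidx : ((M ⊓ stabilizer G a).relIndex (stabilizer G a)).Prime := by
    have h1 := abelian_index_prime (H := stabilizer G a)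
      (fun x y => Subtype.ext (hab x x.2 y y.2)) ((M ⊓ stabilizer G a).subgroupOf (stabilizer G a))
      hmax0
    exact h1
  apply of_relIndex_prime inf_le_left
  have h3 := relIndex_mul_card' (U := M ⊓ stabilizer G a) (H := M) inf_le_left
  have h4 := relIndex_mul_card' (U := M ⊓ stabilizer G a) (H := stabilizer G a) inf_le_right
  rw [hcardM, ← h4] at h3
  have h5 := Nat.eq_of_mul_eq_mul_right Nat.card_pos h3
  rw [h5]
  exact hprimeidx

/-- Reduction of the main theorem. -/
theorem main (hp : (Nat.card Ω).Prime) [IsPretransitive G Ω] (a : Ω) (M : Subgroup G)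
    (hM : IsCoatom M)
    (hmax : IsCoatom ((M ⊓ stabilizer G a).subgroupOf (stabilizer G a)))
    (hrow : ∀ (T : Subgroup G), T.Normal → IsSimpleGroup T → ¬ IsMulCommutative T → TwoTr T Ω →
      ∀ (B Γ : Set Ω), ¬ Bad G a B Γ) :
    IsCoatom ((M ⊓ stabilizer G a).subgroupOf M) := by
  have hprim : IsPreprimitive G Ω := IsPreprimitive.of_prime_card hp
  have hntΩ : Nontrivial Ω := by
    rw [← Finite.one_lt_card_iff_nontrivial]
    exact hp.one_lt
  have hH : IsCoatom (stabilizer G a) := IsPreprimitive.isCoatom_stabilizer_of_isPreprimitive G a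
  by_cases hint : orbit M a = Set.univ
  · -- the transitive case
    rw [isCoatom_subgroupOf_iff inf_le_left]
    apply of_relIndex_prime inf_le_left
    have h1 := card_of_transOn (K := M) (a := a) Set.univ hint
    rw [Set.ncard_univ, inf_comm] at h1
    have h2 := relIndex_mul_card' (U := M ⊓ stabilizer G a) (H := M) inf_le_left
    rw [h1] at h2
    rw [Nat.eq_of_mul_eq_mul_right Nat.card_pos h2]
    exact hp
  have hntG : Nontrivial G := by
    obtain ⟨x, y, hxy⟩ := exists_pair_ne Ω
    obtain ⟨g, hg⟩ := exists_smul_eq G x y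
    refine ⟨⟨g, 1, fun h => hxy ?_⟩⟩
    rw [← hg, h, one_smul]
  obtain ⟨N, hNn, hN0, hNmin⟩ := Lib.SubnormalJoin.exists_minimal_normal G
  have hNtr : IsPretransitive N Ω := by
    apply IsQuasiPreprimitive.isPretransitive_of_normal (G := G)
    intro h
    apply hN0
    rw [eq_bot_iff]
    intro n hn
    rw [mem_bot]
    apply FaithfulSMul.eq_of_smul_eq_smul (α := Ω)
    intro x
    have : x ∈ fixedPoints N Ω := by rw [h]; trivial
    rw [one_smul]
    exact this ⟨n, hn⟩
  have haff : (∀ x ∈ N, ∀ y ∈ N, x * y = y * x) → IsCoatom ((M ⊓ stabilizer G a).subgroupOf M) := by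
    intro hc
    refine case_affine hp a M hM hmax N ?_ hint
    have h1 : stabilizer N a = ⊥ := by
      rw [eq_bot_iff]
      intro n hn
      rw [mem_bot]
      apply Subtype.ext
      apply FaithfulSMul.eq_of_smul_eq_smul (α := Ω)
      intro x
      obtain ⟨m, hm⟩ := exists_smul_eq N a x
      rw [← hm]
      have h2 : (n : G) • a = a := hn
      change (n : G) • (m : G) • a = (1 : G) • (m : G) • a
      rw [smul_smul, hc _ n.2 _ m.2, mul_smul, h2, one_smul]
    rw [← index_stabilizer_of_transitive N a, h1, index_bot]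
  rcases solvable_or_twoTr hp N with hs | h2N
  · apply haff
    have h1 : ⁅N, N⁆ = ⊥ := by
      have hnt : Nontrivial N := (nontrivial_iff_ne_bot N).2 hN0
      have hlt : ⁅N, N⁆ < N := by
        have h5 := Group.IsSolvable.commutator_lt_top_of_nontrivial N
        rw [← map_subtype_lt_map_subtype, ← MonoidHom.range_eq_map, N.range_subtype] at h5
        rw [_root_.commutator_def, map_commutator, ← MonoidHom.range_eq_map, N.range_subtype] at h5
        exact h5
      rcases hNmin ⁅N, N⁆ inferInstance hlt.le with h2 | h2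
      · exact h2
      · exact absurd h2 hlt.ne
    intro x hx y hy
    have h2 := commutator_mem_commutator hx hy
    rw [h1, mem_bot, commutatorElement_eq_one_iff_mul_comm] at h2
    exact h2
  · have h2G : TwoTr G Ω := by
      intro x y z w hxy hzw
      obtain ⟨n, hn1, hn2⟩ := h2N x y z w hxy hzw
      exact ⟨n, hn1, hn2⟩
    rcases PermutationGroups.TwoTransitiveNormal.burnside_minimal_normal h2G N hN0 hNmin with h | h
    · apply haff
      intro x hx y hy
      have := h.1.is_comm.comm ⟨x, hx⟩ ⟨y, hy⟩
      exact congrArg Subtype.val this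
    · by_cases hcomm : IsMulCommutative N
      · apply haff
        intro x hx y hy
        have := hcomm.is_comm.comm ⟨x, hx⟩ ⟨y, hy⟩
        exact congrArg Subtype.val this
      · by_contra hcon
        obtain ⟨B, Γ, hbad⟩ := reduction h2G a M hM hmax hint hH hcon
        exact hrow N hNn h.1 hcomm h2N B Γ hbad

end

end Cfsg.Agent.H623.PD
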