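import Cfsg.Agent.H623.PDGeo

/-!
Dimension two, even characteristic.
-/

set_option autoImplicit false
set_option linter.unusedSectionVars false

namespace Cfsg.Agent.H623.PD

open MulAction Subgroup Matrix
open scoped Pointwise

section SL

variable {F ι : Type*} [Field F] [Fintype ι] [DecidableEq ι]

/-- The torus element with respect to a pair of dual functionals. -/
theorem exists_torus {v u : ι → F} {f ψ : (ι → F) →ₗ[F] F} (hfv : f v = 0) (hfu : f u = 1)
    (hψu : ψ u = 0) (hψv : ψ v = 1) {m : F} (hm : m ≠ 0) :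
    ∃ h : SpecialLinearGroup ι F, h.1 *ᵥ v = m • v ∧ h.1 *ᵥ u = m⁻¹ • u ∧
      (∀ w, f (h.1 *ᵥ w) = m⁻¹ * f w) ∧ (∀ w, ψ (h.1 *ᵥ w) = m * ψ w) := by
  have hx : ∀ a : F, ∃ g : SpecialLinearGroup ι F, ∀ w, g.1 *ᵥ w = w + (a * f w) • v := by
    intro a
    obtain ⟨g, hg⟩ := exists_tv v (a • f) (by simp [hfv])
    exact ⟨g, fun w => by rw [hg]; rfl⟩
  have hy : ∀ a : F, ∃ g : SpecialLinearGroup ι F, ∀ w, g.1 *ᵥ w = w + (a * ψ w) • u := by
    intro a
    obtain ⟨g, hg⟩ := exists_tv u (a • ψ) (by simp [hψu])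
    exact ⟨g, fun w => by rw [hg]; rfl⟩
  obtain ⟨x1, hx1⟩ := hx m
  obtain ⟨y1, hy1⟩ := hy (-m⁻¹)
  obtain ⟨x2, hx2⟩ := hx (-1)
  obtain ⟨y2, hy2⟩ := hy 1
  have hn1v : (x1 * y1 * x1).1 *ᵥ v = -(m⁻¹ • u) := by
    rw [mul_mulVec, mul_mulVec, hx1, hy1, hx1]
    simp only [map_add, map_smul, hfv, hfu, hψu, hψv, smul_eq_mul, mul_zero, zero_smul, add_zero,
      mul_one, zero_add, neg_smul, map_neg]
    rw [mul_neg, mul_inv_cancel₀ hm, neg_smul, one_smul]
    abel
  have hn1u : (x1 * y1 * x1).1 *ᵥ u = m • v := by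
    rw [mul_mulVec, mul_mulVec, hx1, hy1, hx1]
    simp only [map_add, map_smul, hfv, hfu, hψu, hψv, smul_eq_mul, mul_zero, zero_smul, add_zero,
      mul_one, zero_add, neg_smul, map_neg, neg_mul, inv_mul_cancel₀ hm, one_smul]
    simp
  have hn2v : (x2 * y2 * x2).1 *ᵥ v = u := by
    rw [mul_mulVec, mul_mulVec, hx2, hy2, hx2]
    simp only [map_add, map_smul, hfv, hfu, hψu, hψv, smul_eq_mul, mul_zero, zero_smul, add_zero,
      mul_one, zero_add, neg_smul, map_neg, one_smul]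
    abel
  have hn2u : (x2 * y2 * x2).1 *ᵥ u = -v := by
    rw [mul_mulVec, mul_mulVec, hx2, hy2, hx2]
    simp only [map_add, map_smul, hfv, hfu, hψu, hψv, smul_eq_mul, mul_zero, zero_smul, add_zero,
      mul_one, zero_add, neg_smul, map_neg, one_smul]
    simp
  refine ⟨x1 * y1 * x1 * (x2 * y2 * x2), ?_, ?_, fun w => ?_, fun w => ?_⟩
  · rw [mul_mulVec, hn2v, hn1u]
  · rw [mul_mulVec, hn2u, Matrix.mulVec_neg, hn1v, neg_neg]
  · rw [mul_mulVec, mul_mulVec, mul_mulVec, mul_mulVec, mul_mulVec]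
    simp only [hx1, hy1, hx2, hy2, map_add, map_smul, hfv, hfu, hψu, hψv, smul_eq_mul]
    field_simp
    ring
  · rw [mul_mulVec, mul_mulVec, mul_mulVec, mul_mulVec, mul_mulVec]
    simp only [hx1, hy1, hx2, hy2, map_add, map_smul, hfv, hfu, hψu, hψv, smul_eq_mul]
    field_simp
    ring

theorem ext_two (hι : Fintype.card ι = 2) {v u : ι → F} (hu : ∀ c : F, u ≠ c • v) (hv : v ≠ 0)
    (w : ι → F) : ∃ a b : F, w = a • v + b • u := by
  have hli : LinearIndependent F ![v, u] := by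
    rw [LinearIndependent.pair_iff]
    intro s t h
    by_cases ht : t = 0
    · subst ht
      rw [zero_smul, add_zero] at h
      exact ⟨(smul_eq_zero.1 h).resolve_right hv, rfl⟩
    · exfalso
      apply hu (-(t⁻¹ * s))
      have h1 : t • u = -(s • v) := eq_neg_of_add_eq_zero_right h
      rw [neg_smul, mul_smul, ← smul_neg, ← h1, smul_smul, inv_mul_cancel₀ ht, one_smul]
  have hspan : Submodule.span F (Set.range ![v, u]) = ⊤ := by
    apply hli.span_eq_top_of_card_eq_finrank'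
    rw [Fintype.card_fin, Module.finrank_fintype_fun_eq_card, hι]
  have hw : w ∈ Submodule.span F (Set.range ![v, u]) := by rw [hspan]; trivial
  rw [Matrix.range_cons, Matrix.range_cons, Matrix.range_empty, Set.union_empty,
    Set.singleton_union, Submodule.mem_span_pair] at hw
  obtain ⟨a, b, h⟩ := hw
  exact ⟨a, b, h.symm⟩

theorem Move.of_two (hι : Fintype.card ι = 2) (hsq : ∀ x : F, IsSquare x) {v : ι → F}
    (hv : v ≠ 0) : Move v := by
  intro f1 f2 h1 h2 hv1 hv2
  -- `u` with `f1 u = 1`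
  obtain ⟨u, hfu⟩ : ∃ u, f1 u = 1 := by
    obtain ⟨u0, hu0⟩ : ∃ u, f1 u ≠ 0 := by
      by_contra hcon
      push Not at hcon
      exact h1 (LinearMap.ext hcon)
    exact ⟨(f1 u0)⁻¹ • u0, by rw [map_smul, smul_eq_mul, inv_mul_cancel₀ hu0]⟩
  have hne : ∀ c : F, u ≠ c • v := by
    intro c hc
    rw [hc, map_smul, hv1, smul_zero] at hfu
    exact zero_ne_one hfu
  have hu00 : u ≠ 0 := fun h => hne 0 (by rw [h, zero_smul])
  obtain ⟨ψ, hψu, hψv⟩ := exists_functional (v := u) (u := v) (by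
    intro c hc
    by_cases hc0 : c = 0
    · rw [hc0, zero_smul] at hc; exact hv hc
    · apply hne c⁻¹
      rw [hc, smul_smul, inv_mul_cancel₀ hc0, one_smul])
  have hf2u : f2 u ≠ 0 := by
    intro h0
    apply h2
    apply LinearMap.ext
    intro w
    obtain ⟨a, b, rfl⟩ := ext_two hι hne hv w
    rw [map_add, map_smul, map_smul, hv2, h0]
    simp
  have hf2 : ∀ w, f2 w = f2 u * f1 w := by
    intro w
    obtain ⟨a, b, rfl⟩ := ext_two hι hne hv w
    rw [map_add, map_smul, map_smul, map_add, map_smul, map_smul, hv2, hv1, hfu]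
    simp [mul_comm]
  obtain ⟨m, hm⟩ := hsq (f2 u)
  have hm0 : m ≠ 0 := by
    rintro rfl
    rw [mul_zero] at hm
    exact hf2u hm
  obtain ⟨h, hh1, hh2, hh3, hh4⟩ := exists_torus hv1 hfu hψu hψv hm0
  refine ⟨h, m, hm0, hh1, fun w => ?_⟩
  rw [hf2, hh3, hm]
  field_simp

end SL

namespace Geo

variable {G Ω F ι : Type*} [Group G] [MulAction G Ω] [Field F] [Fintype ι] [DecidableEq ι]
  (γ : Geo G Ω F ι)

theorem exists_indep (hι : 2 ≤ Fintype.card ι) (v : ι → F) : ∃ u : ι → F, ∀ c : F, u ≠ c • v := by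
  by_contra hcon
  push Not at hcon
  have h1 : (⊤ : Submodule F (ι → F)) ≤ Submodule.span F {v} := by
    intro u _
    obtain ⟨c, hc⟩ := hcon u
    exact Submodule.mem_span_singleton.2 ⟨c, hc.symm⟩
  have h2 := Submodule.finrank_mono h1
  have h3 : Module.finrank F (Submodule.span F {v}) ≤ 1 := by
    have := finrank_span_le_card (R := F) ({v} : Set (ι → F))
    simpa using this
  rw [finrank_top, Module.finrank_fintype_fun_eq_card] at h2
  omega

include γ in
/-- A non-trivial element of the image fixes at most two points. -/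
theorem fix_le [FaithfulSMul G Ω] (hι : Fintype.card ι = 2) {d : G} (hd : d ∈ γ.ρ.range)
    {x y z : Ω} (hx : d • x = x) (hy : d • y = y) (hz : d • z = z) (hxy : x ≠ y) (hxz : x ≠ z)
    (hyz : y ≠ z) : d = 1 := by
  obtain ⟨v, hv, rfl⟩ := γ.hsurj x
  obtain ⟨u, hu, rfl⟩ := γ.hsurj y
  obtain ⟨w, hw, rfl⟩ := γ.hsurj z
  obtain ⟨g, rfl⟩ := hd
  have hfix : ∀ t : ι → F, t ≠ 0 → γ.ρ g • γ.P t = γ.P t → ∃ c : F, g.1 *ᵥ t = c • t := by
    intro t ht h
    rw [← γ.hP g t ht] at h
    exact γ.heq t _ ht (mulVec_ne_zero g ht) h.symm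
  obtain ⟨c1, hc1⟩ := hfix v hv hx
  obtain ⟨c2, hc2⟩ := hfix u hu hy
  obtain ⟨c3, hc3⟩ := hfix w hw hz
  have hne : ∀ c : F, u ≠ c • v := by
    intro c hc
    have hc0 : c ≠ 0 := by
      rintro rfl
      rw [zero_smul] at hc
      exact hu hc
    apply hxy
    rw [hc, γ.hsmul v c hv hc0]
  obtain ⟨f, hfv, hfu⟩ := exists_functional hne
  obtain ⟨ψ, hψu, hψv⟩ := exists_functional (v := u) (u := v) (by
    intro c hc
    by_cases hc0 : c = 0
    · rw [hc0, zero_smul] at hc; exact hv hc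
    · apply hne c⁻¹
      rw [hc, smul_smul, inv_mul_cancel₀ hc0, one_smul])
  obtain ⟨s, t, hst⟩ := ext_two hι hne hv w
  have hs : s ≠ 0 := by
    rintro rfl
    rw [zero_smul, zero_add] at hst
    have ht0 : t ≠ 0 := by
      rintro rfl
      rw [zero_smul] at hst
      exact hw hst
    apply hyz
    rw [hst, γ.hsmul u t hu ht0]
  have ht : t ≠ 0 := by
    rintro rfl
    rw [zero_smul, add_zero] at hst
    apply hxz
    rw [hst, γ.hsmul v s hv hs]
  have h1 : s • c1 • v + t • c2 • u = c3 • (s • v + t • u) := by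
    rw [← hst, ← hc3, hst, Matrix.mulVec_add, Matrix.mulVec_smul, Matrix.mulVec_smul, hc1, hc2]
  have h2 : c2 = c3 := by
    have := congrArg f h1
    simp only [map_add, map_smul, hfv, hfu, smul_eq_mul, mul_zero, zero_add, mul_one] at this
    apply mul_left_cancel₀ ht
    rw [this, mul_comm]
  have h3 : c1 = c3 := by
    have := congrArg ψ h1
    simp only [map_add, map_smul, hψv, hψu, smul_eq_mul, mul_zero, add_zero, mul_one] at this
    apply mul_left_cancel₀ hs
    rw [this, mul_comm]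
  have hc0 : c1 ≠ 0 := by
    intro h0
    rw [h0, zero_smul] at hc1
    exact mulVec_ne_zero g hv hc1
  rw [← map_one γ.ρ]
  apply γ.ρ_eq_of_P
  intro w' hw'
  obtain ⟨a, b, hab⟩ := ext_two hι hne hv w'
  have h4 : g.1 *ᵥ w' = c1 • w' := by
    rw [hab, Matrix.mulVec_add, Matrix.mulVec_smul, Matrix.mulVec_smul, hc1, hc2, h2, ← h3]
    module
  rw [h4, one_mulVec', γ.hsmul w' c1 hw' hc0]

/-- The stabiliser of a point in the image has order at least `q (q - 1)`. -/
theorem card_stab_ge [FaithfulSMul G Ω] [Finite G] [Finite F] (hι : Fintype.card ι = 2)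
    (hsq : ∀ x : F, IsSquare x) {v : ι → F} (hv : v ≠ 0) :
    Nat.card F * (Nat.card F - 1) ≤ Nat.card (stabilizer G (γ.P v) ⊓ γ.ρ.range : Subgroup G) := by
  classical
  have := Fintype.ofFinite F
  obtain ⟨u, hne⟩ := exists_indep hι.ge v
  have hu0 : u ≠ 0 := fun h => hne 0 (by rw [h, zero_smul])
  obtain ⟨f, hfv, hfu⟩ := exists_functional hne
  obtain ⟨ψ, hψu, hψv⟩ := exists_functional (v := u) (u := v) (by
    intro c hc
    by_cases hc0 : c = 0
    · rw [hc0, zero_smul] at hc; exact hv hc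
    · apply hne c⁻¹
      rw [hc, smul_smul, inv_mul_cancel₀ hc0, one_smul])
  have hpt : ∀ c : F, u + c • v ≠ 0 := by
    intro c h0
    apply hne (-c)
    rw [neg_smul]
    exact eq_neg_of_add_eq_zero_left h0
  have hinj : ∀ c c' : F, γ.P (u + c • v) = γ.P (u + c' • v) → c = c' := by
    intro c c' h
    obtain ⟨d, hd⟩ := γ.heq _ _ (hpt c) (hpt c') h
    have h1 := congrArg f hd
    have h2 := congrArg ψ hd
    simp only [map_add, map_smul, hfv, hfu, hψu, hψv, smul_eq_mul, mul_zero, zero_add, add_zero,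
      mul_one] at h1 h2
    rw [← h1, one_mul] at h2
    exact h2.symm
  have key : ∀ y : F × Fˣ, ∃ g ∈ (stabilizer G (γ.P v) ⊓ γ.ρ.range : Subgroup G),
      g • γ.P u = γ.P (u + y.1 • v) ∧ g • γ.P (u + (1 : F) • v) = γ.P (u + (y.1 + y.2) • v) := by
    rintro ⟨c, s⟩
    obtain ⟨m, hm⟩ := hsq (s : F)
    have hm0 : m ≠ 0 := by
      rintro rfl
      rw [mul_zero] at hm
      exact s.ne_zero hm
    obtain ⟨h, hh1, hh2, -, -⟩ := exists_torus hfv hfu hψu hψv hm0
    obtain ⟨t, ht⟩ := exists_tv v (c • f) (by simp [hfv])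
    have ht' : ∀ w, t.1 *ᵥ w = w + (c * f w) • v := fun w => ht w
    refine ⟨γ.ρ (t * h), ⟨?_, ⟨_, rfl⟩⟩, ?_, ?_⟩
    · change γ.ρ (t * h) • γ.P v = γ.P v
      rw [← γ.hP _ v hv, mul_mulVec, hh1, ht']
      rw [map_smul, hfv, smul_zero, mul_zero, zero_smul, add_zero, γ.hsmul v m hv hm0]
    · rw [← γ.hP _ u hu0, mul_mulVec, hh2, ht', map_smul, hfu, smul_eq_mul, mul_one]
      have h5 : m⁻¹ • u + (c * m⁻¹) • v = m⁻¹ • (u + c • v) := by
        rw [smul_add, smul_smul, mul_comm]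
      rw [h5, γ.hsmul _ _ (hpt c) (inv_ne_zero hm0)]
    · rw [← γ.hP _ _ (hpt 1), mul_mulVec, Matrix.mulVec_add, Matrix.mulVec_smul, hh2, hh1, ht']
      rw [map_add, map_smul, map_smul, map_smul, hfu, hfv]
      have h5 : m⁻¹ • u + (1 : F) • m • v + (c * (m⁻¹ • 1 + (1 : F) • m • 0)) • v =
          m⁻¹ • (u + (c + (s : F)) • v) := by
        rw [hm]
        ext i
        simp only [Pi.add_apply, Pi.smul_apply, smul_eq_mul, mul_one, mul_zero, add_zero, one_mul]
        field_simp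
        ring
      rw [h5, γ.hsmul _ _ (hpt _) (inv_ne_zero hm0)]
  choose φ hφ1 hφ2 hφ3 using key
  have hcard : Nat.card (F × Fˣ) = Nat.card F * (Nat.card F - 1) := by
    rw [Nat.card_prod]
    congr 1
    rw [Nat.card_eq_fintype_card, Fintype.card_units, Nat.card_eq_fintype_card]
  rw [← hcard]
  refine Nat.card_le_card_of_injective (fun y => (⟨φ y, hφ1 y⟩ :
    (stabilizer G (γ.P v) ⊓ γ.ρ.range : Subgroup G))) ?_
  rintro ⟨c, s⟩ ⟨c', s'⟩ h
  have h1 : φ (c, s) = φ (c', s') := congrArg Subtype.val h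
  have h2 : c = c' := by
    apply hinj
    have h3 := hφ2 (c, s)
    rw [h1, hφ2 (c', s')] at h3
    exact h3.symm
  have h4 : c + s = c' + s' := by
    apply hinj
    have h3 := hφ3 (c, s)
    rw [h1, hφ3 (c', s')] at h3
    exact h3.symm
  rw [h2] at h4
  have h5 : (s : F) = s' := add_left_cancel h4
  rw [Prod.mk.injEq]
  exact ⟨h2, Units.ext h5⟩

/-- No counterexample in dimension two when all field elements are squares. -/
theorem false_two [FaithfulSMul G Ω] [Finite G] [Finite F] [Finite Ω]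
    (hn : γ.ρ.range.Normal) (h2T : TwoTr γ.ρ.range Ω)
    (hι : Fintype.card ι = 2) (hsq : ∀ x : F, IsSquare x) {a : Ω} {B Γ : Set Ω}
    (hbad : Bad G a B Γ) : False := by
  classical
  have := Fintype.ofFinite F
  have := Fintype.ofFinite Ω
  have hq : 2 ≤ Nat.card F := by
    rw [Nat.card_eq_fintype_card]; exact Fintype.one_lt_card
  obtain ⟨v0, hv0, ha⟩ := γ.hsurj a
  have hmv : ∀ v : ι → F, v ≠ 0 → Move v := fun v hv => Move.of_two hι hsq hv
  obtain ⟨-, hrr⟩ := γ.rr_eq hn hι.ge hmv hbad hv0 ha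
  rw [γ.card_E hι.ge hv0, hι] at hrr
  have hrr' : rr G a B = Nat.card F := by rw [hrr]; simp
  have hΩ : Nat.card Ω = Nat.card F + 1 := by
    have h1 := γ.card_Ω
    rw [hι] at h1
    have h2 : Nat.card F ^ 2 - 1 = (Nat.card F + 1) * (Nat.card F - 1) := by
      obtain ⟨q, hq'⟩ : ∃ q, Nat.card F = q + 1 := ⟨Nat.card F - 1, by omega⟩
      rw [hq', Nat.add_sub_cancel]
      have : (q + 1) ^ 2 = (q + 1 + 1) * q + 1 := by ring
      omega
    rw [h2] at h1
    exact Nat.eq_of_mul_eq_mul_right (by omega) h1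
  set D : Subgroup G := UU G a B ⊓ γ.ρ.range with hD
  have hr := hbad.r_mul γ.ρ.range h2T
  have hge := γ.card_stab_ge hι hsq hv0
  rw [ha, ← hr, hrr'] at hge
  have hDge : Nat.card F - 1 ≤ Nat.card D := Nat.le_of_mul_le_mul_left hge (by omega)
  -- the action of `D` on the points different from `a`
  let X : SubMulAction D Ω :=
    { carrier := {a}ᶜ
      smul_mem' := by
        intro d x hx
        exact smul_ne_of_mem (UU_le d.2.1) hx }
  have hX' : Nat.card X = Nat.card F := by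
    have h1 : Nat.card X = ({a}ᶜ : Set Ω).ncard := Nat.card_coe_set_eq _
    rw [h1, Set.ncard_compl, Set.ncard_singleton, hΩ, Nat.add_sub_cancel]
  have := Fintype.ofFinite D
  have := Fintype.ofFinite X
  have hburn := MulAction.sum_card_fixedBy_eq_card_orbits_mul_card_group D X
  have hX : Fintype.card X = Nat.card F := by rw [← Nat.card_eq_fintype_card, hX']
  have horb : 3 ≤ Fintype.card (Quotient (MulAction.orbitRel D X)) := by
    obtain ⟨x1, hx1, hx1a⟩ := hbad.ne
    obtain ⟨x2, hx2, hx2B⟩ := Set.exists_of_ssubset hbad.sub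
    obtain ⟨x3, hx3⟩ := hbad.ne_univ
    have hx2a : x2 ≠ a := fun h => hx2B (h ▸ hbad.mem)
    have hx3a : x3 ≠ a := fun h => hx3 (h ▸ hbad.memΓ)
    change 2 < _
    rw [Fintype.two_lt_card_iff]
    refine ⟨Quotient.mk _ ⟨x1, hx1a⟩, Quotient.mk _ ⟨x2, hx2a⟩, Quotient.mk _ ⟨x3, hx3a⟩, ?_, ?_, ?_⟩
    · intro h
      obtain ⟨d, hd⟩ := Quotient.exact h
      have hd' : (d : G) • x2 = x1 := congrArg Subtype.val hd
      apply hx2B
      have h5 : x2 = (d : G)⁻¹ • x1 := by rw [← hd', inv_smul_smul]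
      rw [h5]
      exact UU_smul_memB ((UU G a B).inv_mem d.2.1) hx1
    · intro h
      obtain ⟨d, hd⟩ := Quotient.exact h
      have hd' : (d : G) • x3 = x1 := congrArg Subtype.val hd
      apply hx3
      have h5 : x3 = (d : G)⁻¹ • x1 := by rw [← hd', inv_smul_smul]
      rw [h5]
      exact hbad.sub.1 (UU_smul_memB ((UU G a B).inv_mem d.2.1) hx1)
    · intro h
      obtain ⟨d, hd⟩ := Quotient.exact h
      have hd' : (d : G) • x3 = x2 := congrArg Subtype.val hd
      apply hx3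
      have h5 : x3 = (d : G)⁻¹ • x2 := by rw [← hd', inv_smul_smul]
      rw [h5]
      exact hbad.UU_smul_memΓ ((UU G a B).inv_mem d.2.1) hx2
  have hsum : ∑ d : D, Fintype.card (fixedBy X d) ≤ Nat.card F + (Fintype.card D - 1) := by
    rw [← Finset.add_sum_erase _ _ (Finset.mem_univ (1 : D))]
    have h1 : Fintype.card (fixedBy X (1 : D)) ≤ Nat.card F := by
      rw [← hX]
      exact Fintype.card_le_of_injective (fun x => x.1) Subtype.val_injective
    have h2 : ∑ d ∈ Finset.univ.erase (1 : D), Fintype.card (fixedBy X d) ≤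
        ∑ d ∈ Finset.univ.erase (1 : D), 1 := by
      apply Finset.sum_le_sum
      intro d hd
      rw [Fintype.card_le_one_iff_subsingleton]
      constructor
      rintro ⟨⟨x, hx⟩, hxf⟩ ⟨⟨y, hy⟩, hyf⟩
      by_contra hne
      have hxy : x ≠ y := fun h => hne (by subst h; rfl)
      have hxf' : (d : G) • x = x := congrArg Subtype.val hxf
      have hyf' : (d : G) • y = y := congrArg Subtype.val hyf
      have hda : (d : G) • a = a := UU_le d.2.1
      have h3 := γ.fix_le hι d.2.2 hda hxf' hyf' (Ne.symm hx) (Ne.symm hy) hxy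
      exact (Finset.mem_erase.1 hd).1 (Subtype.ext h3)
    rw [Finset.sum_const, Finset.card_erase_of_mem (Finset.mem_univ _), Finset.card_univ,
      smul_eq_mul, mul_one] at h2
    omega
  rw [hburn] at hsum
  have h3 : 3 * Fintype.card D ≤ Fintype.card (Quotient (MulAction.orbitRel D X)) * Fintype.card D :=
    Nat.mul_le_mul_right _ horb
  have h4 : 0 < Fintype.card D := Fintype.card_pos
  rw [Nat.card_eq_fintype_card (α := D)] at hDge
  have h5 := h3.trans hsum
  omega

end Geo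

end Cfsg.Agent.H623.PD
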